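import Mathlib

/-!
An operator of finite order prime to the characteristic without fixed vectors has a large commutant.
-/

set_option autoImplicit false

namespace Cfsg.Agent.ShultGross

open Polynomial

variable {K : Type*} [Field K] [IsAlgClosed K] {W : Type*} [AddCommGroup W] [Module K W] [FiniteDimensional K W]

/-- The operators commuting with `T`. -/
def commutant (T : Module.End K W) : Submodule K (Module.End K W) :=
  LinearMap.ker (LinearMap.mulLeft K T - LinearMap.mulRight K T)

theorem mem_commutant {T A : Module.End K W} : A ∈ commutant T ↔ T * A = A * T := by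
  rw [commutant, LinearMap.mem_ker, LinearMap.sub_apply, LinearMap.mulLeft_apply, LinearMap.mulRight_apply, sub_eq_zero]

theorem finrank_sq_le {T : Module.End K W} {h : ℕ} (hT : T ^ h = 1) (hh : (h : K) ≠ 0)
    (hfix : ∀ v, T v = v → v = 0) :
    Module.finrank K W ^ 2 ≤ (h - 1) * Module.finrank K (commutant T) ∧
      Module.finrank K W ≤ Module.finrank K (commutant T) := by
  classical
  have hpos : 0 < h := Nat.pos_of_ne_zero fun h0 => hh (by rw [h0, Nat.cast_zero])
  have hsep : (X ^ h - C (1 : K)).Separable := separable_X_pow_sub_C 1 hh one_ne_zero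
  have hss : T.IsSemisimple := Module.End.isSemisimple_of_squarefree_aeval_eq_zero hsep.squarefree
    (by simp [hT])
  have hspan : ⊤ ≤ Submodule.span K {v : W | ∃ μ : K, T v = μ • v} := by
    rw [← hss.iSup_eigenspace_eq_top]
    exact iSup_le fun μ v hv => Submodule.subset_span ⟨μ, Module.End.mem_eigenspace_iff.1 hv⟩
  set b := Module.Basis.ofSpan hspan with hb
  haveI := FiniteDimensional.fintypeBasisIndex b
  have hmem : ∀ i, ∃ μ : K, T (b i) = μ • b i := fun i => Module.Basis.ofSpan_subset hspan ⟨i, rfl⟩
  choose lam hlam using hmem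
  -- all eigenvalues are nontrivial roots of unity
  have hroot : Finset.univ.image lam ⊆ ((Polynomial.nthRoots h (1 : K)).toFinset.erase 1) := by
    intro μ hμ
    obtain ⟨i, -, rfl⟩ := Finset.mem_image.1 hμ
    refine Finset.mem_erase.2 ⟨fun h1 => b.ne_zero i (hfix _ (by rw [hlam, h1, one_smul])), ?_⟩
    rw [Multiset.mem_toFinset, Polynomial.mem_nthRoots hpos]
    have hiter : ∀ j : ℕ, (T ^ j) (b i) = lam i ^ j • b i := fun j => by
      induction j with
      | zero => simp
      | succ j ih => rw [pow_succ, Module.End.mul_apply, hlam, map_smul, ih, smul_smul, pow_succ']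
    have h2 := hiter h
    rw [hT, Module.End.one_apply] at h2
    by_contra hne
    have h3 : (lam i ^ h - 1) • b i = 0 := by rw [sub_smul, ← h2, one_smul, sub_self]
    exact (smul_eq_zero.1 h3).elim (fun h4 => hne (sub_eq_zero.1 h4)) (b.ne_zero i)
  have hcard : (Finset.univ.image lam).card ≤ h - 1 := by
    refine (Finset.card_le_card hroot).trans ?_
    rw [Finset.card_erase_of_mem (by rw [Multiset.mem_toFinset, Polynomial.mem_nthRoots hpos, one_pow])]
    exact Nat.sub_le_sub_right ((Multiset.toFinset_card_le _).trans (Polynomial.card_nthRoots h 1)) 1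
  -- commuting rank-one maps
  set P := Finset.univ.filter (fun ik : _ × _ => lam ik.1 = lam ik.2) with hP
  have hcomm : ∀ ik : P, (b.coord ik.1.2).smulRight (b ik.1.1) ∈ commutant T := by
    rintro ⟨⟨i, k⟩, hik⟩
    rw [hP, Finset.mem_filter] at hik
    rw [mem_commutant]
    refine b.ext fun j => ?_
    simp only [Module.End.mul_apply, LinearMap.smulRight_apply, map_smul, hlam, Module.Basis.coord_apply,
      Module.Basis.repr_self]
    by_cases hkj : j = k
    · subst hkj
      simp [hik.2]
    · simp [Finsupp.single_eq_of_ne (Ne.symm hkj)]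
  have hli : LinearIndependent K fun ik : P => (⟨(b.coord ik.1.2).smulRight (b ik.1.1), hcomm ik⟩ : commutant T) := by
    rw [Fintype.linearIndependent_iff]
    rintro g hg ⟨⟨i, k⟩, hik⟩
    have h1 := congrArg (fun A : commutant T => b.coord i ((A : Module.End K W) (b k))) hg
    simp only [Submodule.coe_sum, Submodule.coe_smul, LinearMap.sum_apply, LinearMap.smul_apply,
      LinearMap.smulRight_apply, map_sum, map_smul, Module.Basis.coord_apply, Module.Basis.repr_self,
      ZeroMemClass.coe_zero, LinearMap.zero_apply, map_zero, Finsupp.coe_zero, Pi.zero_apply] at h1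
    rw [Finset.sum_eq_single (⟨(i, k), hik⟩ : P)] at h1
    · simpa using h1
    · rintro ⟨⟨i', k'⟩, _⟩ _ hne
      by_cases hk : k = k'
      · subst hk
        have : i' ≠ i := fun hi => hne (by subst hi; rfl)
        simp [this]
      · simp [hk]
    · simp
  have hle : P.card ≤ Module.finrank K (commutant T) := by
    simpa using hli.fintype_card_le_finrank
  -- counting
  have hsum : P.card = ∑ μ ∈ Finset.univ.image lam, (Finset.univ.filter fun i => lam i = μ).card ^ 2 := by
    rw [hP, Finset.card_eq_sum_card_fiberwise (f := fun ik => lam ik.1) (t := Finset.univ.image lam)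
      (fun ik _ => Finset.mem_image_of_mem lam (Finset.mem_univ ik.1))]
    refine Finset.sum_congr rfl fun μ _ => ?_
    rw [sq, ← Finset.card_product]
    congr 1
    ext ⟨i, k⟩
    simp only [Finset.mem_filter, Finset.mem_univ, true_and, Finset.mem_product]
    constructor
    · rintro ⟨h1, h2⟩; exact ⟨h2, h1 ▸ h2⟩
    · rintro ⟨h1, h2⟩; exact ⟨h1.trans h2.symm, h1⟩
  have hdim : Module.finrank K W = ∑ μ ∈ Finset.univ.image lam, (Finset.univ.filter fun i => lam i = μ).card := by
    rw [Module.finrank_eq_card_basis b, ← Finset.card_univ]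
    exact Finset.card_eq_sum_card_image lam Finset.univ
  refine ⟨?_, ?_⟩
  · rw [hdim]
    refine (sq_sum_le_card_mul_sum_sq).trans ?_
    rw [← hsum]
    exact Nat.mul_le_mul hcard hle
  · rw [hdim]
    refine le_trans (Finset.sum_le_sum fun μ _ => Nat.le_self_pow two_ne_zero _) ?_
    rw [← hsum]
    exact hle

end Cfsg.Agent.ShultGross
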