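import Cfsg.Agent.HallHigman.Critical
import Cfsg.Agent.ShultGross.Eigen

/-!
A cyclic group of order `p ^ k` acting coprimely and without fixed points modulo scalars on an
irreducible operator group of class two fixes a vector, except in one critical case.
-/

set_option autoImplicit false

open Subgroup
open scoped commutatorElement

namespace Cfsg.Agent.ShultGross

open Cfsg.Agent.HallHigman

variable {G : Type*} [Group G] [Finite G] {K : Type*} [Field K] {V : Type*} [AddCommGroup V] [Module K V]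

/-- The elements of `Q` acting as scalars. -/
def scalars (ρ : G →* Module.End K V) (Q : Subgroup G) : Subgroup G where
  carrier := {a | a ∈ Q ∧ ∃ c : K, ρ a = c • 1}
  one_mem' := ⟨Q.one_mem, 1, by rw [map_one, one_smul]⟩
  mul_mem' := fun {a b} ha hb => by
    obtain ⟨ha, c, hc⟩ := ha
    obtain ⟨hb, e, he⟩ := hb
    exact ⟨Q.mul_mem ha hb, c * e, by rw [map_mul, hc, he, smul_mul_smul_comm, one_mul]⟩
  inv_mem' := fun {a} ha => by
    obtain ⟨ha, c, hc⟩ := ha
    refine ⟨Q.inv_mem ha, c ^ (orderOf a - 1), ?_⟩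
    have : a⁻¹ = a ^ (orderOf a - 1) := inv_eq_of_mul_eq_one_right (by
      rw [← pow_succ', Nat.sub_add_cancel (orderOf_pos a), pow_orderOf_eq_one])
    rw [this, map_pow, hc, smul_pow, one_pow]

theorem mem_scalars {ρ : G →* Module.End K V} {Q : Subgroup G} {a : G} :
    a ∈ scalars ρ Q ↔ a ∈ Q ∧ ∃ c : K, ρ a = c • 1 := Iff.rfl

theorem scalars_le (ρ : G →* Module.End K V) (Q : Subgroup G) : scalars ρ Q ≤ Q := fun _ h => h.1

theorem conj_mem_scalars {ρ : G →* Module.End K V} {Q : Subgroup G} {g a : G}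
    (hg : g ∈ normalizer (Q : Set G)) (ha : a ∈ scalars ρ Q) : g * a * g⁻¹ ∈ scalars ρ Q := by
  obtain ⟨ha, c, hc⟩ := ha
  refine ⟨(mem_normalizer_iff.1 hg a).1 ha, c, ?_⟩
  rw [map_mul, map_mul, hc, mul_smul_comm, smul_mul_assoc, mul_one, ← map_mul, mul_inv_cancel, map_one]

theorem commute_of_scalar {ρ : G →* Module.End K V} {Q : Subgroup G} {a : G} (ha : a ∈ scalars ρ Q) (g : G) :
    Commute (ρ a) (ρ g) := by
  obtain ⟨-, c, hc⟩ := ha
  rw [hc]
  exact (Commute.one_left _).smul_left c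

/-- Dimension of a finite supremum of lines. -/
theorem finrank_sup_id_le {W : Type*} [AddCommGroup W] [Module K W] [FiniteDimensional K W]
    (I : Finset (Submodule K W)) (hI : ∀ L ∈ I, Module.finrank K L ≤ 1) :
    Module.finrank K (I.sup id : Submodule K W) ≤ I.card := by
  classical
  induction I using Finset.induction_on with
  | empty => simp
  | insert L I hL ih =>
    rw [Finset.sup_insert, Finset.card_insert_of_notMem hL, id_eq]
    have h1 := Submodule.finrank_sup_add_finrank_inf_eq L (I.sup id)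
    have h2 := ih fun M hM => hI M (Finset.mem_insert_of_mem hM)
    have h3 := hI L (Finset.mem_insert_self L I)
    omega

/-- A free cyclic action divides the number of points. -/
theorem dvd_card_of_free {α : Type*} [DecidableEq α] (π : α ≃ α) {h : ℕ} (hh : 0 < h)
    (hper : ∀ a, π^[h] a = a) (S : Finset α) (hS : ∀ a ∈ S, π a ∈ S)
    (hfree : ∀ a ∈ S, ∀ j, 0 < j → j < h → π^[j] a ≠ a) : h ∣ S.card := by
  obtain ⟨g, hg⟩ := exists_orbit_sum π hh hper (AddMonoidHom.id ℕ) (fun _ => 1) (fun _ => rfl) S hS hfree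
  have : ∀ j, (AddMonoidHom.id ℕ)^[j] g = g := fun j => Function.iterate_fixed rfl j
  simp [this] at hg
  exact ⟨g, hg⟩

variable [IsAlgClosed K] [FiniteDimensional K V] [Nontrivial V]

theorem exists_commutator_ne_one {ρ : G →* Module.End K V} {Q : Subgroup G}
    (hirr : Irred (ρ.comp Q.subtype)) {a : G} (ha : a ∈ Q) (hns : a ∉ scalars ρ Q) :
    ∃ b ∈ Q, ρ ⁅b, a⁆ ≠ 1 := by
  by_contra hall
  push Not at hall
  obtain ⟨c, hc⟩ := scalar_of_commute hirr (ρ a) (fun k => by
    show ρ a * ρ k = ρ k * ρ a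
    have h1 := hall k k.2
    rw [← map_mul, ← map_mul, show (k : G) * a = ⁅(k : G), a⁆ * (a * k) by rw [commutatorElement_def]; group,
      map_mul ρ ⁅(k : G), a⁆, h1, one_mul])
  exact hns ⟨ha, c, hc⟩

/-- Operators outside the scalars have trace zero in class two. -/
theorem trace_eq_zero {ρ : G →* Module.End K V} {Q : Subgroup G}
    (hirr : Irred (ρ.comp Q.subtype)) (hcl : ∀ a ∈ Q, ∀ b ∈ Q, ⁅a, b⁆ ∈ scalars ρ Q)
    {a : G} (ha : a ∈ Q) (hns : a ∉ scalars ρ Q) : LinearMap.trace K V (ρ a) = 0 := by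
  obtain ⟨b, hb, hne⟩ := exists_commutator_ne_one hirr ha hns
  obtain ⟨-, c, hc⟩ := hcl b hb a ha
  have h1 : ρ (b * a * b⁻¹) = c • ρ a := by
    rw [show b * a * b⁻¹ = ⁅b, a⁆ * a by rw [commutatorElement_def]; group, map_mul, hc, smul_mul_assoc, one_mul]
  have h2 : LinearMap.trace K V (ρ (b * a * b⁻¹)) = LinearMap.trace K V (ρ a) := by
    rw [map_mul, LinearMap.trace_mul_comm, ← map_mul, inv_mul_cancel_left]
  rw [h1, map_smul, smul_eq_mul] at h2
  have h3 : (c - 1) * LinearMap.trace K V (ρ a) = 0 := by rw [sub_mul, h2, one_mul, sub_self]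
  refine (mul_eq_zero.1 h3).resolve_left fun h4 => hne ?_
  rw [hc, sub_eq_zero.1 h4, one_smul]

/-- The representatives of `Q` modulo scalars span all operators and are independent. -/
theorem span_and_index {ρ : G →* Module.End K V} {Q : Subgroup G}
    (hirr : Irred (ρ.comp Q.subtype)) (hcl : ∀ a ∈ Q, ∀ b ∈ Q, ⁅a, b⁆ ∈ scalars ρ Q)
    (hd : (Module.finrank K V : K) ≠ 0) (hQK : (Nat.card Q : K) ≠ 0) :
    ⊤ ≤ Submodule.span K (Set.range fun u : Q ⧸ (scalars ρ Q).subgroupOf Q => ρ (u.out : G)) ∧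
      (scalars ρ Q).relIndex Q = Module.finrank K V ^ 2 := by
  classical
  set Z := (scalars ρ Q).subgroupOf Q with hZ
  haveI := Fintype.ofFinite Q
  haveI := Fintype.ofFinite (Q ⧸ Z)
  set f : Q ⧸ Z → Module.End K V := fun u => ρ (u.out : G) with hf
  have hspan : ⊤ ≤ Submodule.span K (Set.range f) := by
    intro A _
    have hinv := sum_trace_smul hirr hd A
    have hμ : (Fintype.card Q : K) / Module.finrank K V ≠ 0 :=
      div_ne_zero (by rwa [← Nat.card_eq_fintype_card]) hd
    rw [← inv_smul_smul₀ hμ A, ← hinv]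
    refine Submodule.smul_mem _ _ (Submodule.sum_mem _ fun g _ => Submodule.smul_mem _ _ ?_)
    set u : Q ⧸ Z := QuotientGroup.mk g with hu
    have hmem : u.out⁻¹ * g ∈ Z := QuotientGroup.eq.1 (by rw [QuotientGroup.out_eq'])
    obtain ⟨-, c, hc⟩ := mem_subgroupOf.1 hmem
    rw [show (ρ.comp Q.subtype) g = c • f u by
      show ρ (g : G) = _
      rw [show (g : G) = (u.out : G) * ((u.out⁻¹ * g : Q) : G) by simp, map_mul, hc, mul_smul_comm, mul_one]]
    exact Submodule.smul_mem _ c (Submodule.subset_span ⟨u, rfl⟩)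
  have hli : LinearIndependent K f := by
    rw [Fintype.linearIndependent_iff]
    intro c hc v
    have h1 := congrArg (fun A => LinearMap.trace K V (A * ρ (v.out : G)⁻¹)) hc
    simp only [Finset.sum_mul, map_sum, smul_mul_assoc, map_smul, smul_eq_mul, zero_mul, map_zero] at h1
    rw [Finset.sum_eq_single v] at h1
    · rw [hf, ← map_mul, mul_inv_cancel, map_one, LinearMap.trace_one] at h1
      exact (mul_eq_zero.1 h1).resolve_right hd
    · intro u _ huv
      rw [hf, ← map_mul, trace_eq_zero hirr hcl (Q.mul_mem u.out.2 (Q.inv_mem v.out.2)) ?_, mul_zero]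
      intro hmem
      refine huv ?_
      rw [← QuotientGroup.out_eq' u, ← QuotientGroup.out_eq' v]
      refine (QuotientGroup.eq.2 ?_).symm
      refine mem_subgroupOf.2 ?_
      have h2 : (v.out : G) ∈ normalizer (Q : Set G) := le_normalizer v.out.2
      have h3 := conj_mem_scalars (g := (v.out : G)⁻¹) (inv_mem h2) hmem
      simpa [mul_assoc] using h3
    · simp
  refine ⟨hspan, ?_⟩
  rw [relIndex, index_eq_card, Nat.card_eq_fintype_card, ← Module.finrank_eq_card_basis (Module.Basis.mk hli hspan),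
    Module.finrank_linearMap, sq]

/-- The dichotomy. -/
theorem fixed_or_finrank {p q k : ℕ} [hp : Fact p.Prime] [hq : Fact q.Prime]
    {Q : Subgroup G} (hQ : IsPGroup q Q) {y : G} (hy : y ∈ normalizer (Q : Set G)) (hyh : y ^ p ^ k = 1)
    (hpK : (p : K) ≠ 0) (hqK : (q : K) ≠ 0) (ρ : G →* Module.End K V) (hirr : Irred (ρ.comp Q.subtype))
    (hns : ∃ a ∈ Q, a ∉ scalars ρ Q) (hcl : ∀ a ∈ Q, ∀ b ∈ Q, ⁅a, b⁆ ∈ scalars ρ Q)
    (hfpf : ∀ a ∈ Q, ∀ j, 0 < j → j < p ^ k → a⁻¹ * (y ^ j * a * (y ^ j)⁻¹) ∈ scalars ρ Q →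
      a ∈ scalars ρ Q) :
    (∃ v : V, v ≠ 0 ∧ ρ y v = v) ∨ Module.finrank K V + 1 = p ^ k := by
  classical
  by_cases hfix : ∀ v, ρ y v = v → v = 0
  swap
  · push Not at hfix
    obtain ⟨v, h1, h2⟩ := hfix
    exact Or.inl ⟨v, h2, h1⟩
  refine Or.inr ?_
  set h := p ^ k with hh
  have hpos : 0 < h := pow_pos hp.out.pos k
  set d := Module.finrank K V with hd'
  obtain ⟨b, hb⟩ := finrank_eq_pow (K := K) (Nat.card Q) Q hQ le_rfl V (ρ.comp Q.subtype) hirr
  have hd : (d : K) ≠ 0 := by rw [hd', hb, Nat.cast_pow]; exact pow_ne_zero b hqK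
  have hQK : (Nat.card Q : K) ≠ 0 := by
    obtain ⟨j, hj⟩ := IsPGroup.iff_card.1 hQ
    rw [hj, Nat.cast_pow]; exact pow_ne_zero j hqK
  obtain ⟨hspan, hidx⟩ := span_and_index hirr hcl hd hQK
  set Z := (scalars ρ Q).subgroupOf Q with hZ
  have hmemZ : ∀ a : Q, a ∈ Z ↔ (a : G) ∈ scalars ρ Q := fun a => mem_subgroupOf
  haveI hZn : Z.Normal := ⟨fun a ha g => (hmemZ _).2 (conj_mem_scalars (le_normalizer g.2) ((hmemZ a).1 ha))⟩
  haveI := Fintype.ofFinite Q
  haveI := Fintype.ofFinite (Q ⧸ Z)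
  have hcardU : Fintype.card (Q ⧸ Z) = d ^ 2 := by
    rw [← hidx, relIndex, index_eq_card, Nat.card_eq_fintype_card]
  -- the action of `y` on the quotient
  set e : Q ≃* Q := Q.normalizerMonoidHom ⟨y, hy⟩ with he
  have hecoe : ∀ a : Q, ((e a : Q) : G) = y * a * y⁻¹ := fun a => rfl
  have hesymm : ∀ a : Q, ((e.symm a : Q) : G) = y⁻¹ * a * y := fun a => by
    have h1 := hecoe (e.symm a)
    rw [e.apply_symm_apply] at h1
    rw [h1]; group
  have heZ : Z.map e.toMonoidHom = Z := by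
    ext a
    rw [mem_map_equiv, hmemZ, hmemZ, hesymm]
    constructor
    · intro ha
      have := conj_mem_scalars hy ha
      simpa [mul_assoc] using this
    · intro ha
      have := conj_mem_scalars (inv_mem hy) ha
      simpa using this
  set π : Q ⧸ Z ≃ Q ⧸ Z := (QuotientGroup.congr Z Z e heZ).toEquiv with hπ
  have hπmk : ∀ (j : ℕ) (a : Q), ∃ a' : Q, π^[j] (QuotientGroup.mk a) = QuotientGroup.mk a' ∧
      (a' : G) = y ^ j * a * (y ^ j)⁻¹ := by
    intro j a
    induction j with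
    | zero => exact ⟨a, rfl, by simp⟩
    | succ j ih =>
      obtain ⟨a', h1, h2⟩ := ih
      refine ⟨e a', ?_, ?_⟩
      · rw [Function.iterate_succ_apply', h1]; rfl
      · rw [hecoe, h2, pow_succ']; group
  have hper : ∀ u, π^[h] u = u := by
    intro u
    obtain ⟨a, rfl⟩ := QuotientGroup.mk_surjective u
    obtain ⟨a', h1, h2⟩ := hπmk h a
    rw [h1]
    congr 1
    exact Subtype.ext (by rw [h2, hyh]; simp)
  set S := (Finset.univ : Finset (Q ⧸ Z)).erase 1 with hS
  have hScard : S.card = d ^ 2 - 1 := by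
    rw [hS, Finset.card_erase_of_mem (Finset.mem_univ _), Finset.card_univ, hcardU]
  have hSπ : ∀ u ∈ S, π u ∈ S := fun u hu => by
    rw [hS, Finset.mem_erase] at hu ⊢
    exact ⟨fun h1 => hu.1 ((QuotientGroup.congr Z Z e heZ).injective (h1.trans (map_one _).symm)), Finset.mem_univ _⟩
  have hfree : ∀ u ∈ S, ∀ j, 0 < j → j < h → π^[j] u ≠ u := by
    intro u hu j hj hjh heq
    obtain ⟨a, rfl⟩ := QuotientGroup.mk_surjective u
    obtain ⟨a', h1, h2⟩ := hπmk j a
    rw [h1] at heq
    refine (Finset.mem_erase.1 hu).1 ((QuotientGroup.eq_one_iff a).2 ((hmemZ a).2 ?_))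
    refine hfpf a a.2 j hj hjh ?_
    have h3 := (hmemZ _).1 (QuotientGroup.eq.1 heq.symm)
    simpa [h2] using h3
  have hdvd : h ∣ d ^ 2 - 1 := hScard ▸ dvd_card_of_free π hpos hper S hSπ hfree
  -- averaging
  let av : Module.End K V →ₗ[K] Module.End K V :=
    ∑ j ∈ Finset.range h, (LinearMap.mulLeft K (ρ (y ^ j))).comp (LinearMap.mulRight K (ρ (y ^ j)⁻¹))
  have hav : ∀ A, av A = ∑ j ∈ Finset.range h, ρ (y ^ j) * A * ρ (y ^ j)⁻¹ := fun A => by
    simp [av, mul_assoc]
  have havC : ∀ A ∈ commutant (ρ y), av A = (h : K) • A := by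
    intro A hA
    rw [hav, Finset.sum_congr rfl (g := fun _ => A) fun j _ => ?_, Finset.sum_const, Finset.card_range,
      Nat.cast_smul_eq_nsmul]
    rw [map_pow, ((show Commute (ρ y) A from mem_commutant.1 hA).pow_left j).eq, mul_assoc, ← map_pow,
      ← map_mul, mul_inv_cancel, map_one, mul_one]
  have havshift : ∀ A, av (ρ y * A * ρ y⁻¹) = av A := by
    intro A
    rw [hav, hav]
    obtain ⟨m, hm⟩ := Nat.exists_eq_succ_of_ne_zero hpos.ne'
    rw [hm]
    conv_rhs => rw [Finset.sum_range_succ']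
    rw [Finset.sum_range_succ]
    congr 1
    · refine Finset.sum_congr rfl fun j _ => ?_
      rw [pow_succ y, mul_inv_rev, map_mul ρ, map_mul ρ]
      simp only [mul_assoc]
    · have hyy : y ^ m * y = 1 := by rw [← pow_succ, ← Nat.succ_eq_add_one, ← hm]; exact hyh
      rw [show ρ (y ^ m) * (ρ y * A * ρ y⁻¹) * ρ (y ^ m)⁻¹ = ρ (y ^ m * y) * A * ρ (y ^ m * y)⁻¹ by
        rw [mul_inv_rev, map_mul, map_mul]; simp only [mul_assoc], hyy, pow_zero]
  set f : Q ⧸ Z → Module.End K V := fun u => ρ (u.out : G) with hf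
  set L : Q ⧸ Z → Submodule K (Module.End K V) := fun u => K ∙ av (f u) with hL
  have hLπ : ∀ u, L (π u) = L u := by
    intro u
    have h1 : QuotientGroup.mk (e u.out) = π u := by
      conv_rhs => rw [← QuotientGroup.out_eq' u]
      rfl
    have h2 : (e u.out)⁻¹ * (π u).out ∈ Z := QuotientGroup.eq.1 (by rw [h1, QuotientGroup.out_eq'])
    obtain ⟨-, c, hc⟩ := (hmemZ _).1 h2
    have h3 : f (π u) = c • (ρ y * f u * ρ y⁻¹) := by
      show ρ ((π u).out : G) = _
      rw [show (((π u).out : Q) : G) = (e u.out : G) * (((e u.out)⁻¹ * (π u).out : Q) : G) by simp,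
        map_mul, hc, mul_smul_comm, mul_one, hecoe, map_mul, map_mul]
    have hc0 : c ≠ 0 := by
      rintro rfl
      rw [zero_smul] at hc
      obtain ⟨v, hv⟩ := exists_ne (0 : V)
      exact hv (apply_injective ρ (((e u.out)⁻¹ * (π u).out : Q) : G) (by rw [hc]; simp))
    show (K ∙ av (f (π u))) = K ∙ av (f u)
    rw [h3, map_smul, havshift, Submodule.span_singleton_smul_eq (IsUnit.mk0 c hc0)]
  have hLit : ∀ u j, L (π^[j] u) = L u := fun u j => by
    induction j with
    | zero => rfl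
    | succ j ih => rw [Function.iterate_succ_apply', hLπ, ih]
  set I := S.image L with hI
  have hIcard : h * I.card ≤ d ^ 2 - 1 := by
    rw [← hScard, Finset.card_eq_sum_card_image L S, mul_comm]
    refine le_trans (le_of_eq (Finset.sum_const_nat (f := fun _ => h) fun _ _ => rfl).symm) ?_
    refine Finset.sum_le_sum fun l hl => ?_
    obtain ⟨u, hu, rfl⟩ := Finset.mem_image.1 hl
    have hmem : ∀ j, π^[j] u ∈ S := fun j => by
      induction j with
      | zero => exact hu
      | succ j ih => rw [Function.iterate_succ_apply']; exact hSπ _ ih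
    have hinj : Set.InjOn (fun j => π^[j] u) ↑(Finset.range h) := by
      intro i hi j hj hij
      simp only [Finset.coe_range, Set.mem_Iio] at hi hj
      by_contra hne
      rcases Nat.lt_or_gt_of_ne hne with hlt | hlt
      · refine hfree u hu (j - i) (by omega) (by omega) ((π.injective.iterate i) ?_)
        rw [← Function.iterate_add_apply, show i + (j - i) = j by omega]
        exact hij.symm
      · refine hfree u hu (i - j) (by omega) (by omega) ((π.injective.iterate j) ?_)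
        rw [← Function.iterate_add_apply, show j + (i - j) = i by omega]
        exact hij
    calc h = ((Finset.range h).image fun j => π^[j] u).card := by
          rw [Finset.card_image_of_injOn hinj, Finset.card_range]
      _ ≤ _ := Finset.card_le_card fun v hv => by
          obtain ⟨j, -, rfl⟩ := Finset.mem_image.1 hv
          exact Finset.mem_filter.2 ⟨hmem j, hLit u j⟩
  have hC : commutant (ρ y) ≤ L 1 ⊔ I.sup id := by
    intro A hA
    have hhK : (h : K) ≠ 0 := by rw [hh, Nat.cast_pow]; exact pow_ne_zero k hpK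
    rw [← inv_smul_smul₀ hhK A, ← havC A hA]
    refine Submodule.smul_mem _ _ ?_
    have h1 : av A ∈ (Submodule.span K (Set.range f)).map av := Submodule.mem_map_of_mem (hspan Submodule.mem_top)
    rw [Submodule.map_span] at h1
    refine Submodule.span_le.2 ?_ h1
    rintro _ ⟨_, ⟨u, rfl⟩, rfl⟩
    by_cases hu : u = 1
    · subst hu
      exact Submodule.mem_sup_left (Submodule.mem_span_singleton_self _)
    · exact Submodule.mem_sup_right (Finset.le_sup (f := id)
        (Finset.mem_image_of_mem L (Finset.mem_erase.2 ⟨hu, Finset.mem_univ u⟩))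
        (Submodule.mem_span_singleton_self _))
  have hline : ∀ u, Module.finrank K (L u) ≤ 1 := fun u => by
    by_cases h0 : av (f u) = 0
    · show Module.finrank K (K ∙ av (f u)) ≤ 1
      rw [h0, Submodule.span_zero_singleton, finrank_bot]; exact Nat.zero_le 1
    · exact (finrank_span_singleton h0).le
  have hCdim : Module.finrank K (commutant (ρ y)) ≤ I.card + 1 := by
    refine (Submodule.finrank_mono hC).trans ?_
    have h1 := Submodule.finrank_sup_add_finrank_inf_eq (L 1) (I.sup id)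
    have h2 := finrank_sup_id_le I fun l hl => by
      obtain ⟨u, -, rfl⟩ := Finset.mem_image.1 hl
      exact hline u
    have h3 := hline 1
    omega
  have hTh : ρ y ^ h = 1 := by rw [← map_pow, hyh, map_one]
  obtain ⟨hsq0, hlin0⟩ := finrank_sq_le hTh (by rw [hh, Nat.cast_pow]; exact pow_ne_zero k hpK) hfix
  have hsq := hsq0.trans (Nat.mul_le_mul_left _ hCdim)
  have hlin := hlin0.trans hCdim
  rw [← hd'] at hsq hlin
  -- arithmetic
  have hd2 : 2 ≤ d := by
    by_contra hlt
    have hd1 : d = 1 := by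
      have : 0 < d := Module.finrank_pos
      omega
    obtain ⟨a, ha, hans⟩ := hns
    haveI := hZn
    have h1 : Fintype.card (Q ⧸ Z) ≤ 1 := by rw [hcardU, hd1, one_pow]
    have h2 := Fintype.card_le_one_iff.1 h1 (QuotientGroup.mk ⟨a, ha⟩) 1
    exact hans ((hmemZ _).1 ((QuotientGroup.eq_one_iff _).1 h2))
  set m := I.card with hm
  have hd4 : 4 ≤ d ^ 2 := by nlinarith
  have hmle : m + 2 ≤ h := by
    by_contra hlt
    obtain ⟨h', hh'⟩ : ∃ h', h = h' + 1 := ⟨h - 1, by omega⟩
    rw [hh', Nat.add_sub_cancel] at hsq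
    rw [hh'] at hIcard hlt
    have : h' * (m + 1) + 1 ≤ (h' + 1) * m + 1 := by nlinarith
    have h5 : (h' + 1) * m + 1 ≤ d ^ 2 := by omega
    nlinarith
  have hdle : d ≤ h - 1 := by
    refine Nat.pow_le_pow_iff_left two_ne_zero |>.1 (hsq.trans ?_)
    rw [sq]
    exact Nat.mul_le_mul_left _ (by omega)
  obtain ⟨h', hh'⟩ : ∃ h', h = h' + 1 := ⟨h - 1, by omega⟩
  obtain ⟨d', hd''⟩ : ∃ d', d = d' + 1 := ⟨d - 1, by omega⟩
  have h6 : h * d' + 1 ≤ d ^ 2 := by
    have := Nat.mul_le_mul_left h (show d' ≤ m by omega)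
    omega
  by_contra hne
  have h7 : d + 2 ≤ h := by omega
  rw [hd''] at h6 h7
  nlinarith

/-- The dichotomy for odd `p`. -/
theorem fixed_or_exceptional {p q k : ℕ} [hp : Fact p.Prime] (hp2 : p ≠ 2) [hq : Fact q.Prime] (hk : 1 ≤ k)
    {Q : Subgroup G} (hQ : IsPGroup q Q) {y : G} (hy : y ∈ normalizer (Q : Set G)) (hyh : y ^ p ^ k = 1)
    (hpK : (p : K) ≠ 0) (hqK : (q : K) ≠ 0) (ρ : G →* Module.End K V) (hirr : Irred (ρ.comp Q.subtype))
    (hns : ∃ a ∈ Q, a ∉ scalars ρ Q) (hcl : ∀ a ∈ Q, ∀ b ∈ Q, ⁅a, b⁆ ∈ scalars ρ Q)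
    (hfpf : ∀ a ∈ Q, ∀ j, 0 < j → j < p ^ k → a⁻¹ * (y ^ j * a * (y ^ j)⁻¹) ∈ scalars ρ Q →
      a ∈ scalars ρ Q) :
    (∃ v : V, v ≠ 0 ∧ ρ y v = v) ∨ (q = 2 ∧ ∃ b, Module.finrank K V = 2 ^ b ∧ 2 ^ b + 1 = p ^ k) := by
  refine (fixed_or_finrank hQ hy hyh hpK hqK ρ hirr hns hcl hfpf).imp id fun hd1h => ?_
  obtain ⟨b, hb⟩ := finrank_eq_pow (K := K) (Nat.card Q) Q hQ le_rfl V (ρ.comp Q.subtype) hirr
  have hq2 : q = 2 := by
    have hodd : Odd (p ^ k) := (hp.out.odd_of_ne_two hp2).pow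
    rw [← hd1h] at hodd
    have heven : Even (Module.finrank K V) := by
      rcases Nat.even_or_odd (Module.finrank K V) with h' | h'
      · exact h'
      · exact absurd hodd (Nat.not_odd_iff_even.2 h'.add_one)
    rw [hb, Nat.even_pow] at heven
    exact ((Nat.prime_dvd_prime_iff_eq Nat.prime_two hq.out).1 heven.1.two_dvd).symm
  subst hq2
  exact ⟨rfl, b, hb, by rw [← hb, hd1h]⟩

end Cfsg.Agent.ShultGross
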