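import Cfsg.Agent.ShultGross.Plane
import Cfsg.Agent.ShultGross.Critical
import Cfsg.Agent.HallHigman.TheoremB

/-!
Gross's two-layer argument for a cyclic 2-group: a fixed-point-free module forces the group of
operators of the operators to act through its non-central part only.
-/

set_option autoImplicit false

open Subgroup
open scoped commutatorElement IsMulCommutative

namespace Cfsg.Agent.ShultGross

open Cfsg.Agent.HallHigman

variable {X : Type*} [Group X] [Finite X] {K : Type*} [Field K] {V : Type*} [AddCommGroup V] [Module K V]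

/-- A vector fixed by the first power stabilising a type gives a vector fixed by the generator. -/
theorem exists_fixed_of_orbit [IsAlgClosed K] [FiniteDimensional K V] (ρ : X →* Module.End K V)
    {T : Subgroup X} [T.Normal] {x : X} {N : ℕ} (hN : 0 < N) {W : Submodule K V}
    (hW : IsSimpleSub (ρ.comp T.subtype) W)
    (hnoniso : ∀ d, 0 < d → d < N → ¬ Isom (ρ.comp T.subtype) W (W.map (ρ (x ^ d))))
    {w : V} (hw : w ∈ W) (hw0 : w ≠ 0) (hyw : ρ (x ^ N) w = w) : ∃ v, v ≠ 0 ∧ ρ x v = v := by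
  classical
  set τ := ρ.comp T.subtype with hτ
  have hxr : ∀ r : ℕ, x ^ r ∈ normalizer (T : Set X) := fun r => by
    rw [normalizer_eq_top_iff.mpr (inferInstance : T.Normal)]; exact mem_top _
  have hmapmul : ∀ (g g' : X) (U : Submodule K V), U.map (ρ (g * g')) = (U.map (ρ g')).map (ρ g) :=
    fun g g' U => by rw [map_mul, Module.End.mul_eq_comp, Submodule.map_comp]
  have hmap1 : ∀ U : Submodule K V, U.map (ρ 1) = U := fun U => by
    rw [map_one, Module.End.one_eq_id, Submodule.map_id]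
  refine ⟨∑ r ∈ Finset.range N, ρ (x ^ r) w, fun hzero => ?_, ?_⟩
  · obtain ⟨e, he⟩ := Nat.exists_eq_succ_of_ne_zero hN.ne'
    rw [he, Finset.sum_range_succ, add_eq_zero_iff_eq_neg'] at hzero
    set others := (Finset.range e).sup fun r => W.map (ρ (x ^ r)) with hothers
    have hin' : ρ (x ^ e) w ∈ others := by
      rw [hzero]
      exact others.neg_mem (others.sum_mem fun r hr =>
        (Finset.le_sup (f := fun r => W.map (ρ (x ^ r))) hr) ⟨w, hw, rfl⟩)
    have hsimp := simple_map_of_mem ρ (hxr e) hW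
    have hOinv : Inv τ others := by
      intro g v hv
      have hle' : others ≤ others.comap (τ g) := Finset.sup_le fun r hr u hu =>
        (Finset.le_sup (f := fun r => W.map (ρ (x ^ r))) hr) ((simple_map_of_mem ρ (hxr r) hW).2.1 g u hu)
      exact hle' hv
    have hle : W.map (ρ (x ^ e)) ≤ others := by
      have h1 := hsimp.2.2 (W.map (ρ (x ^ e)) ⊓ others) inf_le_left
        (fun g v hv => ⟨hsimp.2.1 g v hv.1, hOinv g v hv.2⟩)
      refine (h1.resolve_left fun hb => ?_).ge.trans inf_le_right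
      have h2 : ρ (x ^ e) w ∈ W.map (ρ (x ^ e)) ⊓ others := ⟨Submodule.mem_map_of_mem hw, hin'⟩
      rw [hb, Submodule.mem_bot] at h2
      exact hw0 (apply_injective ρ _ (h2.trans (map_zero _).symm))
    obtain ⟨r, hr, hiso⟩ := exists_isom_of_le_iSup (fun r => W.map (ρ (x ^ r))) hsimp (Finset.range e)
      (fun r _ => simple_map_of_mem ρ (hxr r) hW) hle
    rw [Finset.mem_range] at hr
    refine hnoniso (e - r) (by omega) (by omega) ?_
    have h3 := isom_map_of_mem ρ (inv_mem (hxr r)) hiso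
    rw [← hmapmul, ← hmapmul, inv_mul_cancel, hmap1,
      show (x ^ r)⁻¹ * x ^ e = x ^ (e - r) by
        rw [inv_mul_eq_iff_eq_mul, ← pow_add, show r + (e - r) = e by omega]] at h3
    exact h3.symm (simple_map_of_mem ρ (hxr (e - r)) hW).2.1
  · rw [map_sum]
    have hshift : ∀ r, ρ x (ρ (x ^ r) w) = ρ (x ^ (r + 1)) w := fun r => by
      rw [← Module.End.mul_apply, ← map_mul, pow_succ']
    rw [Finset.sum_congr rfl fun r _ => hshift r]
    obtain ⟨e, he⟩ := Nat.exists_eq_succ_of_ne_zero hN.ne'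
    rw [he]
    conv_rhs => rw [Finset.sum_range_succ']
    rw [Finset.sum_range_succ]
    congr 1
    rw [← Nat.succ_eq_add_one, ← he, hyw, pow_zero, map_one, Module.End.one_apply]

theorem pow_add_one_eq_two_pow {s b k : ℕ} (hs : Odd s) (hb : 1 ≤ b) (hs3 : 3 ≤ s) (h : s ^ b + 1 = 2 ^ k) :
    b = 1 := by
  have hk2 : 2 ≤ k := by
    have : 3 ≤ s ^ b := hs3.trans (Nat.le_self_pow (by omega) s)
    by_contra hlt
    have := Nat.pow_le_pow_right (show 0 < 2 by norm_num) (show k ≤ 1 by omega)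
    omega
  rcases Nat.even_or_odd b with ⟨c, rfl⟩ | hbo
  · exfalso
    obtain ⟨t, rfl⟩ := hs
    have h4 : 4 ∣ 2 ^ k := pow_dvd_pow 2 hk2
    have h5 : (2 * t + 1) ^ (c + c) % 4 = 1 := by
      rw [← two_mul, pow_mul, Nat.pow_mod, show (2 * t + 1) ^ 2 % 4 = 1 by
        rw [show (2 * t + 1) ^ 2 = 4 * (t * t + t) + 1 by ring]; omega, one_pow]
      rfl
    omega
  · by_contra hb1
    obtain ⟨c, rfl⟩ := hbo
    have hgeom : (s : ℤ) ^ (2 * c + 1) + 1 = ((s : ℤ) + 1) * ∑ j ∈ Finset.range (2 * c + 1), (-(s : ℤ)) ^ j := by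
      have h1 := geom_sum_mul (-(s : ℤ)) (2 * c + 1)
      rw [Odd.neg_pow ⟨c, rfl⟩] at h1
      linarith
    set S := ∑ j ∈ Finset.range (2 * c + 1), (-(s : ℤ)) ^ j with hS
    have hSodd : Odd S := by
      have hcast : ((S : ℤ) : ZMod 2) = 1 := by
        have hs1 : ((s : ℤ) : ZMod 2) = 1 := by
          obtain ⟨t, rfl⟩ := hs
          push_cast
          rw [show (2 : ZMod 2) = 0 from rfl, zero_mul, zero_add]
        rw [hS]
        push_cast
        rw [show ((s : ℕ) : ZMod 2) = 1 by exact_mod_cast hs1, show (-1 : ZMod 2) = 1 from rfl]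
        simp [show (2 : ZMod 2) = 0 from rfl]
      rwa [ZMod.intCast_eq_one_iff_odd] at hcast
    have h2 : (2 : ℤ) ^ k = ((s : ℤ) + 1) * S := by
      rw [← hgeom]; exact_mod_cast h.symm
    have hdvd : S.natAbs ∣ 2 ^ k := by
      have h3 := congrArg Int.natAbs h2
      rw [Int.natAbs_pow, Int.natAbs_mul] at h3
      exact ⟨_, h3.trans (mul_comm _ _)⟩
    obtain ⟨j, -, hj⟩ := (Nat.dvd_prime_pow Nat.prime_two).1 hdvd
    have hj0 : j = 0 := by
      by_contra hj0
      have h3 : Even S.natAbs := by rw [hj]; exact Nat.even_pow.2 ⟨even_two, hj0⟩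
      exact Int.not_even_iff_odd.2 hSodd (Int.natAbs_even.1 h3)
    rw [hj0, pow_zero] at hj
    have h5 := congrArg Int.natAbs h2
    rw [Int.natAbs_pow, Int.natAbs_mul, hj, mul_one] at h5
    have h6 : ((s : ℤ) + 1).natAbs = s + 1 := by omega
    rw [h6, show Int.natAbs (2 : ℤ) = 2 from rfl, ← h] at h5
    have h7 : s < s ^ (2 * c + 1) := lt_self_pow₀ (by omega) (by omega)
    omega

set_option maxHeartbeats 1600000 in
theorem mem_centralizer_core [IsAlgClosed K] [FiniteDimensional K V] {q s n : ℕ} [hq : Fact q.Prime]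
    [hs : Fact s.Prime] (hq2 : q ≠ 2) (hs2 : s ≠ 2) (hqs : q ≠ s) (hn : 1 ≤ n) (h2K : (2 : K) ≠ 0)
    (hsK : (s : K) ≠ 0) (ρ : X →* Module.End K V) (hinj : Function.Injective ρ) {T : Subgroup X} [hTn : T.Normal]
    (hT : IsPGroup s T) (hcl : ∀ a ∈ T, ∀ b ∈ T, ∀ c ∈ T, Commute ⁅a, b⁆ c)
    (hpow : ∀ a ∈ T, ∀ c ∈ T, Commute (a ^ s) c) {Q : Subgroup X} (hQ : IsPGroup q Q) {x : X}
    (hxn : x ^ 2 ^ n = 1) (hxQ : x ∈ normalizer (Q : Set X))
    (hQσ : ⁅Q, zpowers (x ^ 2 ^ (n - 1))⁆ = Q) (hfix : ∀ v : V, ρ x v = v → v = 0) {c : X} (hc : c ∈ Q)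
    (hcσ : ⁅x ^ 2 ^ (n - 1), c⁆ ∈ centralizer (T : Set X))
    (hcQ : ∀ a ∈ Q, ⁅a, c⁆ ∈ centralizer (T : Set X)) : c ∈ centralizer (T : Set X) := by
  classical
  haveI : Fact (Nat.Prime 2) := ⟨Nat.prime_two⟩
  set σ := x ^ 2 ^ (n - 1) with hσ
  by_contra hcT
  rw [mem_centralizer_iff] at hcT
  push Not at hcT
  obtain ⟨t₀, ht₀, hne⟩ := hcT
  let b : T := ⟨⁅c, t₀⁆, by
    rw [commutatorElement_def]; exact T.mul_mem (hTn.conj_mem t₀ ht₀ c) (T.inv_mem ht₀)⟩
  have hb : (b : X) ≠ 1 := fun h => hne (commutatorElement_eq_one_iff_mul_comm.1 h).symm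
  haveI : Nontrivial V := by
    by_contra hV
    rw [not_nontrivial_iff_subsingleton] at hV
    exact hb (hinj (LinearMap.ext fun v => Subsingleton.elim _ _))
  set τ := ρ.comp T.subtype with hτ
  haveI := Fintype.ofFinite T
  have hTcard : (Fintype.card T : K) ≠ 0 := by
    obtain ⟨j, hj⟩ := IsPGroup.iff_card.1 hT
    rw [← Nat.card_eq_fintype_card, hj, Nat.cast_pow]
    exact pow_ne_zero j hsK
  obtain ⟨W, hW, w₁, hw₁, hw₁ne⟩ := exists_simple_nontrivial (τ := τ) hTcard (b := b)
    (fun h => hb (hinj (h.trans (map_one ρ).symm)))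
  have hnorm : ∀ g : X, g ∈ normalizer (T : Set X) := fun g => by
    rw [normalizer_eq_top_iff.mpr hTn]; exact mem_top _
  have hmapmul : ∀ (g g' : X) (U : Submodule K V), U.map (ρ (g * g')) = (U.map (ρ g')).map (ρ g) :=
    fun g g' U => by rw [map_mul, Module.End.mul_eq_comp, Submodule.map_comp]
  have hmap1 : ∀ U : Submodule K V, U.map (ρ 1) = U := fun U => by
    rw [map_one, Module.End.one_eq_id, Submodule.map_id]
  -- every type has a short orbit
  have hshort : ∀ U, IsSimpleSub τ U → ∃ i, i < n ∧ Isom τ U (U.map (ρ (x ^ 2 ^ i))) ∧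
      ∀ d, 0 < d → d < 2 ^ i → ¬ Isom τ U (U.map (ρ (x ^ d))) := by
    intro U hU
    let S : Subgroup X :=
      { carrier := {g | Isom τ U (U.map (ρ g))}
        mul_mem' := fun {g g'} hg hg' => by
          show Isom τ U (U.map (ρ (g * g')))
          rw [hmapmul]
          exact hg.trans (isom_map_of_mem ρ (hnorm g) hg')
        one_mem' := by
          show Isom τ U (U.map (ρ 1))
          rw [hmap1]
          exact Isom.refl U
        inv_mem' := fun {g} hg => by
          show Isom τ U (U.map (ρ g⁻¹))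
          have h1 := isom_map_of_mem ρ (hnorm g⁻¹) hg
          rw [← hmapmul, inv_mul_cancel, hmap1] at h1
          exact h1.symm (simple_map_of_mem ρ (hnorm g⁻¹) hU).2.1 }
    have hex : ∃ i, x ^ 2 ^ i ∈ S := ⟨n, by rw [hxn]; exact one_mem S⟩
    set i := Nat.find hex with hi
    have hin : i ≤ n := Nat.find_min' hex (by rw [hxn]; exact one_mem S)
    have hnot : ∀ d, 0 < d → d < 2 ^ i → ¬ Isom τ U (U.map (ρ (x ^ d))) := by
      intro d hd hdi hmem
      obtain ⟨t, -, hg⟩ := (Nat.dvd_prime_pow Nat.prime_two).1 (Nat.gcd_dvd_right d (2 ^ n))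
      have hti : t < i := by
        by_contra hcon
        have h3 := Nat.le_of_dvd hd (hg ▸ Nat.gcd_dvd_left d (2 ^ n))
        have h4 : 2 ^ i ≤ 2 ^ t := Nat.pow_le_pow_right (by norm_num) (by omega)
        omega
      refine Nat.find_min hex hti ?_
      have h5 : x ^ 2 ^ t = (x ^ d) ^ (Nat.gcdA d (2 ^ n)) := by
        rw [← zpow_natCast x d, ← zpow_mul, ← zpow_natCast x]
        refine orderOf_dvd_sub_iff_zpow_eq_zpow.1 ((Int.natCast_dvd_natCast.2 (orderOf_dvd_of_pow_eq_one hxn)).trans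
          ⟨Nat.gcdB d (2 ^ n), ?_⟩)
        have h6 := Nat.gcd_eq_gcd_ab d (2 ^ n)
        rw [hg] at h6
        rw [h6]
        ring
      rw [h5]
      exact zpow_mem (show x ^ d ∈ S from hmem) _
    refine ⟨i, lt_of_le_of_ne hin fun hin' => ?_, Nat.find_spec hex, hnot⟩
    obtain ⟨w, hw, hw0⟩ := Submodule.exists_mem_ne_zero_of_ne_bot hU.1
    obtain ⟨v, hv0, hv⟩ := exists_fixed_of_orbit ρ (pow_pos (by norm_num) i) hU hnot hw hw0
      (by rw [hin', hxn, map_one, Module.End.one_apply])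
    exact hv0 (hfix v hv)
  have hσtype : ∀ U, IsSimpleSub τ U → Isom τ U (U.map (ρ σ)) := by
    intro U hU
    obtain ⟨i, hi, hiso, -⟩ := hshort U hU
    have hpw : ∀ j : ℕ, Isom τ U (U.map (ρ ((x ^ 2 ^ i) ^ j))) := fun j => by
      induction j with
      | zero => rw [pow_zero, hmap1]; exact Isom.refl U
      | succ j ih =>
        rw [pow_succ', hmapmul]
        exact hiso.trans (isom_map_of_mem ρ (hnorm _) ih)
    have e : σ = (x ^ 2 ^ i) ^ 2 ^ (n - 1 - i) := by
      rw [hσ, ← pow_mul, ← pow_add, show i + (n - 1 - i) = n - 1 by omega]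
    rw [e]
    exact hpw _
  obtain ⟨i, hin, hWy, hnoniso0⟩ := hshort W hW
  set y := x ^ 2 ^ i with hy
  obtain ⟨W', hWW', hyW'⟩ := exists_invariant_copy ρ (hnorm y) hW hWy
  have hW' : IsSimpleSub τ W' := hWW'.simple hW
  have hnoniso : ∀ d, 0 < d → d < 2 ^ i → ¬ Isom τ W' (W'.map (ρ (x ^ d))) := fun d hd hdi h =>
    hnoniso0 d hd hdi (hWW'.trans (h.trans (isom_map_of_mem ρ (hnorm _) (hWW'.symm hW.2.1))))
  haveI : Nontrivial W' := Submodule.nontrivial_iff_ne_bot.2 hW'.1
  -- the stabiliser of the type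
  let S : Subgroup X :=
    { carrier := {g | Isom τ W' (W'.map (ρ g))}
      mul_mem' := fun {g g'} hg hg' => by
        show Isom τ W' (W'.map (ρ (g * g')))
        rw [hmapmul]
        exact hg.trans (isom_map_of_mem ρ (hnorm g) hg')
      one_mem' := by
        show Isom τ W' (W'.map (ρ 1))
        rw [hmap1]
        exact Isom.refl W'
      inv_mem' := fun {g} hg => by
        show Isom τ W' (W'.map (ρ g⁻¹))
        have h1 := isom_map_of_mem ρ (hnorm g⁻¹) hg
        rw [← hmapmul, inv_mul_cancel, hmap1] at h1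
        exact h1.symm (simple_map_of_mem ρ (hnorm g⁻¹) hW').2.1 }
  have hyS : y ∈ S := by
    show Isom τ W' (W'.map (ρ y))
    rw [hyW']
    exact Isom.refl W'
  have hσS : σ ∈ S := hσtype W' hW'
  have hQS : Q ≤ S := by
    have hgen : ∀ a : X, ⁅a, σ⁆ ∈ S := by
      intro a
      -- the conjugate of `σ` fixes the type as well
      have h1 : Isom τ W' (W'.map (ρ (a * σ * a⁻¹))) := by
        have h2 := isom_map_of_mem ρ (hnorm a) (hσtype (W'.map (ρ a⁻¹)) (simple_map_of_mem ρ (hnorm a⁻¹) hW'))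
        rw [← hmapmul, mul_inv_cancel, hmap1, ← hmapmul, ← hmapmul] at h2
        exact h2
      rw [commutatorElement_def]
      exact S.mul_mem (show a * σ * a⁻¹ ∈ S from h1) (S.inv_mem hσS)
    have hgen' : ∀ a : X, a * σ * a⁻¹ ∈ S := fun a => by
      have h1 := S.mul_mem (hgen a) hσS
      rwa [commutatorElement_def, inv_mul_cancel_right] at h1
    rw [← hQσ, commutator_le]
    intro a _ z hz
    obtain ⟨j, rfl⟩ := mem_zpowers_iff.1 hz
    rw [commutatorElement_def, ← conj_zpow]
    exact S.mul_mem (S.zpow_mem (hgen' a) j) (S.inv_mem (S.zpow_mem hσS j))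
  -- scalars on `W'`
  let N1 : Subgroup X :=
    { carrier := {g | W'.map (ρ g) = W'}
      mul_mem' := fun {g g'} hg hg' => by
        show W'.map (ρ (g * g')) = W'
        rw [hmapmul, show W'.map (ρ g') = W' from hg']
        exact hg
      one_mem' := hmap1 W'
      inv_mem' := fun {g} hg => by
        show W'.map (ρ g⁻¹) = W'
        conv_lhs => rw [← show W'.map (ρ g) = W' from hg]
        rw [← hmapmul, inv_mul_cancel, hmap1] }
  have hTN1 : T ≤ N1 := fun g hg => by
    refine le_antisymm ?_ fun v hv => ?_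
    · rintro _ ⟨v, hv, rfl⟩
      exact hW'.2.1 ⟨g, hg⟩ v hv
    · exact ⟨ρ g⁻¹ v, hW'.2.1 ⟨g⁻¹, inv_mem hg⟩ v hv, apply_inv_apply ρ g v⟩
  let φ : N1 →* Module.End K W' :=
    { toFun := fun g => (ρ (g : X)).restrict fun v hv => by
        have h : W'.map (ρ (g : X)) = W' := g.2
        exact h.le (Submodule.mem_map_of_mem hv)
      map_one' := LinearMap.ext fun v => Subtype.ext (by simp)
      map_mul' := fun g g' => LinearMap.ext fun v => Subtype.ext (by simp) }
  set φT : T →* Module.End K W' := φ.comp (Subgroup.inclusion hTN1) with hφT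
  have hφTapp : ∀ (t : T) (v : W'), ((φT t v : W') : V) = ρ (t : X) v := fun t v => rfl
  have hirrT : Irred φT := by
    intro U' hU'
    rcases hW'.2.2 (U'.map W'.subtype) (Submodule.map_subtype_le _ _) (by
      rintro g _ ⟨v, hv, rfl⟩
      exact ⟨φT g v, hU' g v hv, rfl⟩) with h | h
    · exact Or.inl (((Submodule.map_injective_of_injective W'.injective_subtype).eq_iff' (Submodule.map_bot _)).1 h)
    · refine Or.inr (eq_top_iff.2 fun v _ => ?_)
      obtain ⟨v', hv', e⟩ := h.ge v.2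
      exact (Subtype.ext e : v' = v) ▸ hv'
  obtain ⟨v₀, hv₀⟩ := exists_ne (0 : W')
  have huniq : ∀ l l' : K, l • (1 : Module.End K W') = l' • 1 → l = l' := fun l l' h =>
    smul_left_injective K hv₀ (by simpa using LinearMap.congr_fun h v₀)
  have htrans : ∀ g ∈ S, ∀ (a : T) (l : K), φT a = l • 1 → φT (MulAut.conjNormal g a) = l • 1 := by
    intro g hg a l hl
    obtain ⟨f, hf⟩ := (hg : Isom τ W' (W'.map (ρ g)))
    refine LinearMap.ext fun v => Subtype.ext ?_
    have hmem : ρ ((MulAut.conjNormal g a : T) : X) v ∈ W' := hW'.2.1 (MulAut.conjNormal g a) v v.2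
    have h1 := hf (MulAut.conjNormal g a) v ⟨_, hmem⟩ rfl
    obtain ⟨u, hu, hue⟩ := (f v).2
    have h2 : τ (MulAut.conjNormal g a) (f v : V) = l • (f v : V) := by
      show ρ ((MulAut.conjNormal g a : T) : X) (f v : V) = _
      rw [MulAut.conjNormal_apply, ← hue, ← Module.End.mul_apply, ← map_mul, inv_mul_cancel_right, map_mul,
        Module.End.mul_apply]
      have h4 : ρ (a : X) u = l • u := congrArg Subtype.val (LinearMap.congr_fun hl ⟨u, hu⟩)
      rw [h4, map_smul]
    rw [h2] at h1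
    rw [hφTapp, LinearMap.smul_apply, Module.End.one_apply, SetLike.val_smul]
    refine congrArg Subtype.val (f.injective (Subtype.ext (h1.trans ?_)) : (⟨_, hmem⟩ : W') = l • v)
    rw [map_smul]
    rfl
  set Z := scalars φT ⊤ with hZ
  have hmemZ : ∀ a : T, a ∈ Z ↔ ∃ l : K, φT a = l • 1 := fun a =>
    ⟨fun h => h.2, fun h => ⟨mem_top a, h⟩⟩
  have hirrTop : Irred (φT.comp (⊤ : Subgroup T).subtype) := fun U' hU' =>
    hirrT U' fun g v hv => hU' ⟨g, mem_top g⟩ v hv
  have hcenZ : ∀ a : T, (∀ t : T, Commute a t) → a ∈ Z := fun a ha =>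
    (hmemZ a).2 (scalar_of_commute hirrT (φT a) fun t => by
      show φT a * φT t = φT t * φT a
      rw [← map_mul, ← map_mul, (ha t).eq])
  have hclZ : ∀ a b : T, ⁅a, b⁆ ∈ Z := fun a b =>
    hcenZ _ fun t => Subtype.ext (hcl a a.2 b b.2 t t.2).eq
  have hZS : ∀ g ∈ S, ∀ a ∈ Z, MulAut.conjNormal g a ∈ Z := fun g hg a ha => by
    obtain ⟨l, hl⟩ := (hmemZ a).1 ha
    exact (hmemZ _).2 ⟨l, htrans g hg a l hl⟩
  haveI hZn : Z.Normal := ⟨fun a ha t => by
    have := hclZ t a
    rw [show t * a * t⁻¹ = ⁅t, a⁆ * a by rw [commutatorElement_def]; group]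
    exact Z.mul_mem this ha⟩
  haveI hMcomm : IsMulCommutative (T ⧸ Z) := ⟨⟨by
    intro u v
    obtain ⟨a, rfl⟩ := QuotientGroup.mk_surjective u
    obtain ⟨b, rfl⟩ := QuotientGroup.mk_surjective v
    rw [← commutatorElement_eq_one_iff_mul_comm]
    exact (QuotientGroup.eq_one_iff _).2 (hclZ a b)⟩⟩
  set π := QuotientGroup.mk' Z with hπ
  have hπs : Function.Surjective π := QuotientGroup.mk'_surjective Z
  have hMexp : ∀ m : T ⧸ Z, m ^ s = 1 := fun m => by
    obtain ⟨a, rfl⟩ := hπs m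
    rw [← map_pow]
    exact (QuotientGroup.eq_one_iff _).2 (hcenZ _ fun t => Subtype.ext (hpow a a.2 t t.2).eq)
  -- the commutator form
  have hβex : ∀ u v : T ⧸ Z, ∃ l : K, φT u.out * φT v.out = l • (φT v.out * φT u.out) := by
    intro u v
    obtain ⟨l, hl⟩ := (hmemZ _).1 (hclZ u.out v.out)
    refine ⟨l, ?_⟩
    rw [← map_mul, ← map_mul, show u.out * v.out = ⁅u.out, v.out⁆ * (v.out * u.out) by
      rw [commutatorElement_def]; group, map_mul, hl, smul_mul_assoc, one_mul]
  choose β hβ using hβex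
  have hφ0 : ∀ a : T, φT a ≠ 0 := fun a h => by
    have h1 : φT (a⁻¹ * a) = 1 := by rw [inv_mul_cancel, map_one]
    rw [map_mul, h, mul_zero] at h1
    exact zero_ne_one h1
  have hβuniq : ∀ (u v : T) (l : K), φT u * φT v = l • (φT v * φT u) → β (π u) (π v) = l := by
    intro u v l hl
    obtain ⟨lu, hlu⟩ := (hmemZ _).1 (QuotientGroup.eq.1 (QuotientGroup.out_eq' (π u)).symm)
    obtain ⟨lv, hlv⟩ := (hmemZ _).1 (QuotientGroup.eq.1 (QuotientGroup.out_eq' (π v)).symm)
    have hu : φT (π u).out = lu • φT u := by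
      rw [show (π u).out = u * (u⁻¹ * (π u).out) by group, map_mul, hlu, mul_smul_comm, mul_one]
    have hv : φT (π v).out = lv • φT v := by
      rw [show (π v).out = v * (v⁻¹ * (π v).out) by group, map_mul, hlv, mul_smul_comm, mul_one]
    have h := hβ (π u) (π v)
    rw [hu, hv, smul_mul_smul_comm, smul_mul_smul_comm, hl, smul_smul, smul_smul, mul_comm lv lu, ← map_mul] at h
    have h2 := smul_left_injective K (hφ0 (v * u)) h
    have hlu0 : lu ≠ 0 := fun h0 => hφ0 (π u).out (by rw [hu, h0, zero_smul])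
    have hlv0 : lv ≠ 0 := fun h0 => hφ0 (π v).out (by rw [hv, h0, zero_smul])
    exact (mul_right_cancel₀ (mul_ne_zero hlu0 hlv0) (by rw [← h2, mul_comm])).symm
  have hβspec : ∀ u v : T, φT u * φT v = β (π u) (π v) • (φT v * φT u) := fun u v => by
    obtain ⟨l, hl⟩ := (hmemZ _).1 (hclZ u v)
    have h : φT u * φT v = l • (φT v * φT u) := by
      rw [← map_mul, ← map_mul, show u * v = ⁅u, v⁆ * (v * u) by rw [commutatorElement_def]; group, map_mul, hl,
        smul_mul_assoc, one_mul]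
    rw [hβuniq u v l h]
    exact h
  have hβl : ∀ a b w : T ⧸ Z, β (a * b) w = β a w * β b w := by
    intro a b w
    obtain ⟨a, rfl⟩ := hπs a
    obtain ⟨b, rfl⟩ := hπs b
    obtain ⟨w, rfl⟩ := hπs w
    rw [← map_mul]
    refine hβuniq _ _ _ ?_
    rw [map_mul, mul_assoc, hβspec b w, mul_smul_comm, ← mul_assoc, hβspec a w, smul_mul_assoc, smul_smul,
      mul_comm (β (π b) (π w)), mul_assoc]
  have hβr : ∀ a b w : T ⧸ Z, β a (b * w) = β a b * β a w := by
    intro a b w
    obtain ⟨a, rfl⟩ := hπs a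
    obtain ⟨b, rfl⟩ := hπs b
    obtain ⟨w, rfl⟩ := hπs w
    rw [← map_mul]
    refine hβuniq _ _ _ ?_
    rw [map_mul, ← mul_assoc, hβspec a b, smul_mul_assoc, mul_assoc, hβspec a w, mul_smul_comm, smul_smul,
      ← mul_assoc]
  have hβ1 : ∀ a : T ⧸ Z, β a a = 1 := fun a => by
    obtain ⟨a, rfl⟩ := hπs a
    exact hβuniq a a 1 (one_smul _ _).symm
  have hβnd : ∀ a : T ⧸ Z, (∀ w, β a w = 1) → a = 1 := by
    intro a ha
    obtain ⟨a, rfl⟩ := hπs a
    refine (QuotientGroup.eq_one_iff a).2 ((hmemZ a).2 (scalar_of_commute hirrT (φT a) fun t => ?_))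
    show φT a * φT t = φT t * φT a
    rw [hβspec, ha, one_smul]
  have hβ0 : ∀ a w : T ⧸ Z, β a w ≠ 0 := fun a w h => by
    obtain ⟨a, rfl⟩ := hπs a
    obtain ⟨w, rfl⟩ := hπs w
    have h1 := hβspec a w
    rw [h, zero_smul, ← map_mul] at h1
    exact hφ0 _ h1
  -- the action of the stabiliser
  have hmap : ∀ g : S, Z.map (MulAut.conjNormal (g : X) : MulAut T).toMonoidHom = Z := fun g => by
    refine le_antisymm ?_ fun a ha => ?_
    · rintro _ ⟨a, ha, rfl⟩; exact hZS g g.2 a ha
    · refine ⟨MulAut.conjNormal (g : X)⁻¹ a, hZS _ (S.inv_mem g.2) a ha, ?_⟩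
      show MulAut.conjNormal (g : X) (MulAut.conjNormal (g : X)⁻¹ a) = a
      rw [← MulAut.mul_apply, ← map_mul, mul_inv_cancel, map_one, MulAut.one_apply]
  let act : S →* MulAut (T ⧸ Z) :=
    MonoidHom.mk' (fun g => QuotientGroup.congr Z Z (MulAut.conjNormal (g : X)) (hmap g)) fun g g' => by
      refine MulEquiv.ext fun m => ?_
      obtain ⟨a, rfl⟩ := hπs m
      show QuotientGroup.mk (MulAut.conjNormal ((g : X) * (g' : X)) a) = _
      rw [map_mul]
      rfl
  have hact : ∀ (g : S) (a : T), act g (π a) = π (MulAut.conjNormal (g : X) a) := fun g a => rfl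
  have hactβ : ∀ (g : S) u v, β (act g u) (act g v) = β u v := by
    intro g u v
    obtain ⟨a, rfl⟩ := hπs u
    obtain ⟨w, rfl⟩ := hπs v
    rw [hact, hact]
    refine hβuniq _ _ _ ?_
    obtain ⟨l, hl⟩ := (hmemZ _).1 (hclZ a w)
    have hla : β (π a) (π w) = l := hβuniq a w l (by
      rw [← map_mul, ← map_mul, show a * w = ⁅a, w⁆ * (w * a) by rw [commutatorElement_def]; group, map_mul, hl,
        smul_mul_assoc, one_mul])
    have hl2 := htrans g g.2 _ l hl
    rw [map_commutatorElement] at hl2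
    rw [hla]
    set a' := MulAut.conjNormal (g : X) a
    set w' := MulAut.conjNormal (g : X) w
    rw [← map_mul φT a' w', ← map_mul φT w' a', show a' * w' = ⁅a', w'⁆ * (w' * a') by
      rw [commutatorElement_def]; group, map_mul, hl2, smul_mul_assoc, one_mul]
  have hactcen : ∀ g : S, (g : X) ∈ centralizer (T : Set X) → act g = 1 := fun g hg => by
    refine MulEquiv.ext fun m => ?_
    obtain ⟨a, rfl⟩ := hπs m
    rw [hact, MulAut.one_apply]
    congr 1
    refine Subtype.ext ?_
    rw [MulAut.conjNormal_apply, ← mem_centralizer_iff.1 hg a a.2, mul_inv_cancel_right]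
  set σ' := act ⟨σ, hσS⟩ with hσ'
  have hσ'2 : σ' * σ' = 1 := by
    rw [hσ', ← map_mul]
    refine hactcen _ ?_
    show σ * σ ∈ _
    rw [hσ, ← pow_add, ← two_mul, ← pow_succ', show n - 1 + 1 = n by omega, hxn]
    exact one_mem _
  have hσ'σ' : ∀ m, σ' (σ' m) = m := fun m => by rw [← MulAut.mul_apply, hσ'2, MulAut.one_apply]
  let P1 : Subgroup (T ⧸ Z) :=
    { carrier := {m | σ' m = m⁻¹}
      one_mem' := by show σ' 1 = 1⁻¹; rw [map_one, inv_one]
      mul_mem' := fun {a b} ha hb => by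
        show σ' (a * b) = (a * b)⁻¹
        rw [map_mul, show σ' a = a⁻¹ from ha, show σ' b = b⁻¹ from hb, mul_inv]
      inv_mem' := fun {a} ha => by
        show σ' a⁻¹ = a⁻¹⁻¹
        rw [map_inv, show σ' a = a⁻¹ from ha] }
  have hsodd : Odd s := hs.out.odd_of_ne_two hs2
  have hhalf : ∀ m : T ⧸ Z, m ^ (2 * ((s + 1) / 2)) = m := fun m => by
    obtain ⟨t, ht⟩ := hsodd
    rw [show 2 * ((s + 1) / 2) = s + 1 by omega, pow_succ, hMexp, one_mul]
  have hdec : ∀ m, ∃ a ∈ P1, ∃ z, σ' z = z ∧ m = a * z := by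
    intro m
    set e := (s + 1) / 2
    refine ⟨(m * (σ' m)⁻¹) ^ e, ?_, (m * σ' m) ^ e, ?_, ?_⟩
    · show σ' _ = _
      rw [map_pow, map_mul, map_inv, hσ'σ', ← inv_pow]
      congr 1
      rw [mul_inv_rev, inv_inv]
    · rw [map_pow, map_mul, hσ'σ', mul_comm]
    · rw [← mul_pow, show m * (σ' m)⁻¹ * (m * σ' m) = m ^ 2 by
        rw [mul_comm m (σ' m), mul_assoc, inv_mul_cancel_left, pow_two], ← pow_mul, hhalf]
  have horth : ∀ a ∈ P1, ∀ z, σ' z = z → β a z = 1 := by
    intro a ha z hz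
    have h1 := hactβ ⟨σ, hσS⟩ a z
    rw [← hσ', show σ' a = a⁻¹ from ha, hz] at h1
    have h2 : β a z * β a⁻¹ z = β 1 z := by rw [← hβl, mul_inv_cancel]
    have h3 : β (1 : T ⧸ Z) z = 1 := by
      have h := hβl 1 1 z
      rw [mul_one] at h
      exact (mul_eq_left₀ (hβ0 1 z)).1 h.symm
    rw [h1, h3] at h2
    have h4 : ∀ j : ℕ, β (a ^ j) z = β a z ^ j := fun j => by
      induction j with
      | zero => rw [pow_zero, pow_zero, h3]
      | succ j ih => rw [pow_succ, pow_succ, hβl, ih]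
    have h5 := h4 (2 * ((s + 1) / 2))
    rw [hhalf, pow_mul, pow_two, h2, one_pow] at h5
    exact h5
  -- `c` on `M`
  have hactQ : ∀ (g : X) (hg : g ∈ Q), ⁅σ, g⁆ ∈ centralizer (T : Set X) → Commute (act ⟨g, hQS hg⟩) σ' := by
    intro g hg hgc
    have h1 : act ⁅(⟨σ, hσS⟩ : S), ⟨g, hQS hg⟩⁆ = 1 := hactcen _ hgc
    rw [map_commutatorElement, commutatorElement_eq_one_iff_commute] at h1
    exact h1.symm
  set c' := act ⟨c, hQS hc⟩ with hc'
  have hcσ' : Commute c' σ' := hactQ c hc hcσ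
  have hP1 : ∀ a ∈ P1, c' a = a := by
    by_cases hbot : P1 = ⊥
    · intro a ha
      rw [hbot, mem_bot] at ha
      rw [ha, map_one]
    -- a constituent of the inverted part
    have hσ1 : σ' ≠ 1 := fun h => hbot ((eq_bot_iff_forall _).2 fun a ha => by
      have h2 : a⁻¹ = a := by rw [← show σ' a = a⁻¹ from ha, h, MulAut.one_apply]
      have h3 := hhalf a
      rw [pow_mul, pow_two] at h3
      nth_rewrite 1 [← h2] at h3
      rw [inv_mul_cancel, one_pow] at h3
      exact h3.symm)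
    have hord : orderOf x = 2 ^ n := by
      obtain ⟨m, rfl⟩ : ∃ m, n = m + 1 := ⟨n - 1, by omega⟩
      refine orderOf_eq_prime_pow (fun h => hσ1 ?_) hxn
      rw [hσ']
      exact hactcen _ (by
        show σ ∈ _
        rw [hσ, Nat.add_sub_cancel, h]
        exact one_mem _)
    set y' := act ⟨y, hyS⟩ with hy'
    set k := n - i with hk
    have hk1 : 1 ≤ k := by omega
    have hyk : y ^ 2 ^ k = 1 := by rw [hy, ← pow_mul, ← pow_add, show i + k = n by omega, hxn]
    have hy'k : y' ^ 2 ^ k = 1 := by rw [hy', ← map_pow]; exact hactcen _ (by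
      show y ^ 2 ^ k ∈ _
      rw [hyk]; exact one_mem _)
    have hσy : σ = y ^ 2 ^ (k - 1) := by
      rw [hσ, hy, ← pow_mul, ← pow_add, show i + (k - 1) = n - 1 by omega]
    have hfree : ∀ j, 0 < j → j < 2 ^ k → ∀ m, (y' ^ j) m = m → σ' m = m := by
      intro j hj hjk m hm
      have hz1 : y ^ j ≠ 1 := by
        rw [hy, ← pow_mul]
        refine pow_ne_one_of_lt_orderOf (Nat.mul_pos (pow_pos (by norm_num) i) hj).ne' ?_
        rw [hord, show 2 ^ n = 2 ^ i * 2 ^ k by rw [← pow_add]; congr 1; omega]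
        exact Nat.mul_lt_mul_of_pos_left hjk (pow_pos (by norm_num) i)
      have h1 : σ ∈ zpowers (y ^ j) :=
        sigma_mem_zpowers hord (by rw [hy, ← pow_mul]; exact pow_mem (mem_zpowers x) _) hz1
      obtain ⟨e, he⟩ := mem_zpowers_iff.1 h1
      have h2 : σ' = (y' ^ j) ^ e := by
        rw [hσ', hy', ← map_pow, ← map_zpow]
        congr 1
        exact Subtype.ext he.symm
      rw [h2]
      have h5 : ∀ u : MulAut (T ⧸ Z), u m = m → ∀ e : ℤ, (u ^ e) m = m := fun u hu e => by
        let F : Subgroup (MulAut (T ⧸ Z)) :=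
          { carrier := {f | f m = m}
            one_mem' := MulAut.one_apply _ m
            mul_mem' := fun {f g} hf hg => by
              show (f * g) m = m
              rw [MulAut.mul_apply, show g m = m from hg]; exact hf
            inv_mem' := fun {f} hf => by
              show f⁻¹ m = m
              conv_lhs => rw [← show f m = m from hf]
              exact MulAut.inv_apply_self _ f m }
        exact F.zpow_mem (show u ∈ F from hu) e
      exact h5 _ hm e
    -- preimage of the inverted part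
    set T1 : Subgroup N1 := (P1.comap π).map (Subgroup.inclusion hTN1) with hT1
    have hT1mem : ∀ a : T, π a ∈ P1 → Subgroup.inclusion hTN1 a ∈ T1 := fun a ha => ⟨a, ha, rfl⟩
    set y1 : N1 := ⟨y, hyW'⟩ with hy1
    have hy'P : ∀ a ∈ P1, y' a ∈ P1 := by
      intro a ha
      show σ' (y' a) = (y' a)⁻¹
      have hcomm : σ' * y' = y' * σ' := by
        rw [hσ', hy', ← map_mul, ← map_mul]
        congr 1
        exact Subtype.ext (((Commute.refl x).pow_pow _ _).eq)
      rw [← MulAut.mul_apply, hcomm, MulAut.mul_apply, show σ' a = a⁻¹ from ha, map_inv]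
    have hyT1 : y1 ∈ normalizer (T1 : Set N1) := by
      have hle : T1.map (MulAut.conj y1).toMonoidHom ≤ T1 := by
        rintro _ ⟨_, ⟨a, ha, rfl⟩, rfl⟩
        refine ⟨MulAut.conjNormal y a, ?_, ?_⟩
        · show π _ ∈ P1
          rw [show π (MulAut.conjNormal y a) = y' (π a) from rfl]
          exact hy'P _ ha
        · exact Subtype.ext (MulAut.conjNormal_apply y a)
      rw [mem_normalizer_iff_map_conj_eq]
      exact eq_of_le_of_card_ge hle (card_map_of_injective (MulEquiv.injective _)).ge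
    have hT1p : IsPGroup s T1 := (hT.to_subgroup _).map _
    set τ1 := φ.comp T1.subtype with hτ1
    obtain ⟨U, -, hUs⟩ := exists_simple_le (τ := τ1) (U := (⊤ : Submodule K W'))
      (fun h => hv₀ ((Submodule.mem_bot K).1 (h ▸ Submodule.mem_top))) (fun g v _ => Submodule.mem_top)
    have htU : ∀ t : T, IsSimpleSub τ1 (U.map (φT t)) ∧ Isom τ1 U (U.map (φT t)) := by
      intro t
      obtain ⟨a, ha, z, hz, hm⟩ := hdec (π t)
      obtain ⟨a, rfl⟩ := hπs a
      set r := a⁻¹ * t with hr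
      have hzr : π r = z := by rw [map_mul, map_inv, hm, inv_mul_cancel_left]
      have hcom : ∀ g : T1, φT r * τ1 g = τ1 g * φT r := by
        rintro ⟨_, u, hu, rfl⟩
        show φT r * φT u = φT u * φT r
        rw [hβspec u r, hzr, horth _ hu z hz, one_smul]
      let eU := Submodule.equivMapOfInjective (φT r) (apply_injective φT r) U
      have hisoR : Isom τ1 U (U.map (φT r)) := ⟨eU, fun g w w' hww => by
        show φT r (w' : W') = τ1 g (φT r (w : W'))
        rw [hww, ← Module.End.mul_apply, hcom g, Module.End.mul_apply]⟩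
      have hU2 := hisoR.simple hUs
      have e : U.map (φT t) = U.map (φT r) := by
        rw [show t = a * r by rw [hr]; group, map_mul, Module.End.mul_eq_comp, Submodule.map_comp]
        refine le_antisymm ?_ fun v hv => ?_
        · rintro _ ⟨v, hv, rfl⟩
          exact hU2.2.1 ⟨_, hT1mem a ha⟩ v hv
        · exact ⟨τ1 ⟨_, T1.inv_mem (hT1mem a ha)⟩ v, hU2.2.1 _ v hv, apply_inv_apply φT a v⟩
      rw [e]
      exact ⟨hU2, hisoR⟩
    have htop : (⊤ : Submodule K W') ≤ Finset.univ.sup fun t : T => U.map (φT t) := by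
      set B := Finset.univ.sup fun t : T => U.map (φT t) with hB
      rcases hirrT B (fun g v hv => by
        have hle : B ≤ B.comap (φT g) := Finset.sup_le fun t _ u hu => by
          obtain ⟨u, hu', rfl⟩ := hu
          show φT g (φT t u) ∈ B
          rw [← Module.End.mul_apply, ← map_mul]
          exact (Finset.le_sup (f := fun t : T => U.map (φT t)) (Finset.mem_univ (g * t))) ⟨u, hu', rfl⟩
        exact hle hv) with h | h
      · exfalso
        refine hUs.1 (le_bot_iff.1 (le_trans ?_ h.le))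
        refine le_trans (le_of_eq ?_) (Finset.le_sup (f := fun t : T => U.map (φT t)) (Finset.mem_univ 1))
        rw [map_one, Module.End.one_eq_id, Submodule.map_id]
      · exact h.ge
    have hyU : Isom τ1 U (U.map (φ y1)) := by
      have hsimp := simple_map_of_mem φ hyT1 hUs
      obtain ⟨t, -, ht⟩ := exists_isom_of_le_iSup (fun t : T => U.map (φT t)) hsimp Finset.univ
        (fun t _ => (htU t).1) (le_top.trans htop)
      exact (htU t).2.trans (ht.symm hsimp.2.1)
    obtain ⟨U', hUU', hyU'⟩ := exists_invariant_copy φ hyT1 hUs hyU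
    have hU' : IsSimpleSub τ1 U' := hUU'.simple hUs
    let N2 : Subgroup N1 :=
      { carrier := {g | U'.map (φ g) = U'}
        mul_mem' := fun {g g'} hg hg' => by
          show U'.map (φ (g * g')) = U'
          rw [map_mul, Module.End.mul_eq_comp, Submodule.map_comp, show U'.map (φ g') = U' from hg']
          exact hg
        one_mem' := by show U'.map (φ 1) = U'; rw [map_one, Module.End.one_eq_id, Submodule.map_id]
        inv_mem' := fun {g} hg => by
          show U'.map (φ g⁻¹) = U'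
          conv_lhs => rw [← show U'.map (φ g) = U' from hg]
          rw [← Submodule.map_comp, ← Module.End.mul_eq_comp, ← map_mul, inv_mul_cancel, map_one,
            Module.End.one_eq_id, Submodule.map_id] }
    have hT1N2 : T1 ≤ N2 := fun g hg => by
      refine le_antisymm ?_ fun v hv => ?_
      · rintro _ ⟨v, hv, rfl⟩
        exact hU'.2.1 ⟨g, hg⟩ v hv
      · exact ⟨φ g⁻¹ v, hU'.2.1 ⟨g⁻¹, inv_mem hg⟩ v hv, apply_inv_apply φ g v⟩
    let ψ : N2 →* Module.End K U' :=
      { toFun := fun g => (φ (g : N1)).restrict fun v hv => by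
          have h : U'.map (φ (g : N1)) = U' := g.2
          exact h.le (Submodule.mem_map_of_mem hv)
        map_one' := LinearMap.ext fun v => Subtype.ext (by simp)
        map_mul' := fun g g' => LinearMap.ext fun v => Subtype.ext (by simp) }
    haveI : Nontrivial U' := Submodule.nontrivial_iff_ne_bot.2 hU'.1
    set T2 := T1.subgroupOf N2 with hT2
    set y2 : N2 := ⟨y1, hyU'⟩ with hy2
    have hψirr : Irred (ψ.comp T2.subtype) := by
      intro R hR
      rcases hU'.2.2 (R.map U'.subtype) (Submodule.map_subtype_le _ _) (by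
        rintro g _ ⟨v, hv, rfl⟩
        exact ⟨ψ ⟨g, hT1N2 g.2⟩ v, hR ⟨⟨g, hT1N2 g.2⟩, mem_subgroupOf.2 g.2⟩ v hv, rfl⟩) with h | h
      · exact Or.inl (((Submodule.map_injective_of_injective U'.injective_subtype).eq_iff' (Submodule.map_bot _)).1 h)
      · refine Or.inr (eq_top_iff.2 fun v _ => ?_)
        obtain ⟨v', hv', e⟩ := h.ge v.2
        exact (Subtype.ext e : v' = v) ▸ hv'
    -- scalars on the constituent
    have hscal : ∀ a : T, ∀ ha : π a ∈ P1, (⟨_, hT1N2 (hT1mem a ha)⟩ : N2) ∈ scalars ψ T2 → π a = 1 := by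
      intro a ha ⟨_, l, hl⟩
      refine hβnd _ fun m => ?_
      obtain ⟨u, hu, z, hz, rfl⟩ := hdec m
      obtain ⟨u, rfl⟩ := hπs u
      rw [hβr, horth _ ha z hz, mul_one]
      obtain ⟨v, hv⟩ := exists_ne (0 : U')
      set g : N2 := ⟨_, hT1N2 (hT1mem u hu)⟩
      set ga : N2 := ⟨_, hT1N2 (hT1mem a ha)⟩
      have h1 : ψ ga * ψ g = β (π a) (π u) • (ψ g * ψ ga) := by
        refine LinearMap.ext fun w => Subtype.ext ?_
        exact LinearMap.congr_fun (hβspec a u) (w : W')
      rw [hl, smul_mul_assoc, one_mul, mul_smul_comm, mul_one, smul_smul] at h1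
      have h2 : (l - β (π a) (π u) * l) • ψ g = 0 := (sub_smul l _ (ψ g)).trans (sub_eq_zero.2 h1)
      have h3 : ψ g ≠ 0 := fun h0 => by
        have h4 : ψ (g⁻¹ * g) = 1 := by rw [inv_mul_cancel, map_one]
        rw [map_mul, h0, mul_zero] at h4
        exact zero_ne_one h4
      have hl0 : l ≠ 0 := fun h0 => by
        rw [h0, zero_smul] at hl
        have h4 : ψ (ga⁻¹ * ga) = 1 := by rw [inv_mul_cancel, map_one]
        rw [map_mul, hl, mul_zero] at h4
        exact zero_ne_one h4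
      have h6 := sub_eq_zero.1 ((smul_eq_zero.1 h2).resolve_right h3)
      exact ((mul_eq_right₀ hl0).1 h6.symm)
    have hscal' : ∀ a : T, ∀ ha : π a ∈ P1, a ∈ Z → (⟨_, hT1N2 (hT1mem a ha)⟩ : N2) ∈ scalars ψ T2 := by
      intro a ha haZ
      obtain ⟨l, hl⟩ := (hmemZ a).1 haZ
      refine ⟨mem_subgroupOf.2 (hT1mem a ha), l, LinearMap.ext fun w => Subtype.ext ?_⟩
      exact LinearMap.congr_fun hl (w : W')
    have hT2mem : ∀ g : N2, g ∈ T2 → ∃ a : T, ∃ ha : π a ∈ P1, (⟨_, hT1N2 (hT1mem a ha)⟩ : N2) = g := by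
      intro g hg
      obtain ⟨a, ha, e⟩ := mem_subgroupOf.1 hg
      exact ⟨a, ha, Subtype.ext e⟩
    have hy2T : y2 ∈ normalizer (T2 : Set N2) := by
      rw [mem_normalizer_iff]
      intro g
      exact mem_normalizer_iff.1 hyT1 g
    have hdich := fixed_or_finrank (p := 2) (q := s) (k := k) (hT1p.comap_subtype : IsPGroup s T2) hy2T
      (Subtype.ext (Subtype.ext hyk)) (by exact_mod_cast h2K) hsK ψ hψirr (by
        obtain ⟨a, ha, ha1⟩ := (P1.ne_bot_iff_exists_ne_one).1 hbot |>.elim fun a ha =>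
          (show ∃ a : T ⧸ Z, a ∈ P1 ∧ a ≠ 1 from ⟨a, a.2, fun h => ha (Subtype.ext h)⟩)
        obtain ⟨a, rfl⟩ := hπs a
        exact ⟨_, mem_subgroupOf.2 (hT1mem a ha), fun h => ha1 (hscal a ha h)⟩) (by
        intro g hg g' hg'
        obtain ⟨a, ha, rfl⟩ := hT2mem g hg
        obtain ⟨a', ha', rfl⟩ := hT2mem g' hg'
        have hcm : π ⁅a, a'⁆ ∈ P1 := by
          rw [show π ⁅a, a'⁆ = 1 from (QuotientGroup.eq_one_iff _).2 (hclZ a a')]
          exact one_mem _
        exact hscal' ⁅a, a'⁆ hcm (hclZ a a')) (by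
        intro g hg j hj hjk hmem
        obtain ⟨a, ha, rfl⟩ := hT2mem g hg
        set a' := a⁻¹ * MulAut.conjNormal (y ^ j) a with ha''
        have e : π (MulAut.conjNormal (y ^ j) a) = (y' ^ j) (π a) := by
          rw [hy', ← map_pow]; rfl
        have hy'j : ∀ j : ℕ, (y' ^ j) (π a) ∈ P1 := fun j => by
          induction j with
          | zero => simpa using ha
          | succ j ih => rw [pow_succ', MulAut.mul_apply]; exact hy'P _ ih
        have ha'P : π a' ∈ P1 := by
          rw [map_mul, map_inv, e]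
          exact P1.mul_mem (P1.inv_mem ha) (hy'j j)
        have h1 : π a' = 1 := hscal a' ha'P (by
          have e2 : (⟨_, hT1N2 (hT1mem a' ha'P)⟩ : N2) = (⟨_, hT1N2 (hT1mem a ha)⟩ : N2)⁻¹ *
              (y2 ^ j * ⟨_, hT1N2 (hT1mem a ha)⟩ * (y2 ^ j)⁻¹) :=
            Subtype.ext (Subtype.ext (by
              simp [ha'', y2, y1]
              rw [← map_pow, MulAut.conjNormal_apply]))
          rw [e2]
          exact hmem)
        rw [map_mul, map_inv, e, inv_mul_eq_one] at h1
        have h2 := hfree j hj hjk _ h1.symm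
        have h4 : π a ^ 2 = 1 := by
          rw [pow_two]
          nth_rewrite 1 [← h2]
          rw [show σ' (π a) = (π a)⁻¹ from ha, inv_mul_cancel]
        have h5 := hhalf (π a)
        rw [pow_mul, h4, one_pow] at h5
        exact hscal' a ha ((QuotientGroup.eq_one_iff a).1 h5.symm))
    rcases hdich with ⟨v, hv0, hv⟩ | hdim
    · exfalso
      have h1 := congrArg Subtype.val (congrArg Subtype.val hv)
      obtain ⟨u, hu0, hu⟩ := exists_fixed_of_orbit ρ (pow_pos (by norm_num) i) hW' hnoniso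
        (v : W').2 (fun h => hv0 (Subtype.ext (Subtype.ext h))) h1
      exact hu0 (hfix u hu)
    -- the order of the inverted part
    obtain ⟨bb, hbb⟩ := finrank_eq_pow (K := K) (Nat.card T2) T2 hT1p.comap_subtype le_rfl U'
      (ψ.comp T2.subtype) hψirr
    rw [hbb] at hdim
    have hs3 : 3 ≤ s := by have := hs.out.two_le; omega
    have hbb0 : 1 ≤ bb := by
      by_contra h0
      rw [Nat.lt_one_iff.1 (by omega : bb < 1), pow_zero] at hdim hbb
      -- dimension one: everything is scalar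
      obtain ⟨a, ha1⟩ := (P1.ne_bot_iff_exists_ne_one).1 hbot
      obtain ⟨a', ha'⟩ := hπs (a : T ⧸ Z)
      refine ha1 (Subtype.ext ?_)
      have hmem : π a' ∈ P1 := ha' ▸ a.2
      rw [← ha']
      refine hscal a' hmem ?_
      obtain ⟨v, hv⟩ := exists_ne (0 : U')
      obtain ⟨l, hl⟩ := exists_smul_eq_of_finrank_eq_one hbb hv (ψ ⟨_, hT1N2 (hT1mem a' hmem)⟩ v)
      refine ⟨mem_subgroupOf.2 (hT1mem a' hmem), l, LinearMap.ext fun w => ?_⟩
      obtain ⟨r, rfl⟩ := exists_smul_eq_of_finrank_eq_one hbb hv w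
      rw [map_smul, ← hl, LinearMap.smul_apply, Module.End.one_apply, smul_comm]
    have hb1 := pow_add_one_eq_two_pow hsodd hbb0 hs3 hdim
    subst hb1
    rw [pow_one] at hdim hbb
    have hidx : Nat.card P1 = s ^ 2 := by
      have hcl2 : ∀ g ∈ T2, ∀ g' ∈ T2, ⁅g, g'⁆ ∈ scalars ψ T2 := by
        intro g hg g' hg'
        obtain ⟨a, ha, rfl⟩ := hT2mem g hg
        obtain ⟨a', ha', rfl⟩ := hT2mem g' hg'
        have hcm : π ⁅a, a'⁆ ∈ P1 := by
          rw [show π ⁅a, a'⁆ = 1 from (QuotientGroup.eq_one_iff _).2 (hclZ a a')]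
          exact one_mem _
        exact hscal' ⁅a, a'⁆ hcm (hclZ a a')
      have hT2K : (Nat.card T2 : K) ≠ 0 := by
        obtain ⟨j, hj⟩ := IsPGroup.iff_card.1 (hT1p.comap_subtype : IsPGroup s T2)
        rw [show Nat.card T2 = s ^ j from hj, Nat.cast_pow]; exact pow_ne_zero j hsK
      have h1 := (span_and_index hψirr hcl2 (by rw [hbb]; exact hsK) hT2K).2
      rw [hbb] at h1
      rw [← h1]
      let j : (P1.comap π) →* T2 := MonoidHom.mk'
        (fun a => ⟨⟨_, hT1N2 (hT1mem a a.2)⟩, mem_subgroupOf.2 (hT1mem a a.2)⟩) (fun a a' => rfl)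
      have hjs : Function.Surjective j := fun g => by
        obtain ⟨a, ha, e⟩ := hT2mem g g.2
        exact ⟨⟨a, ha⟩, Subtype.ext e⟩
      let πP : (P1.comap π) →* P1 := MonoidHom.mk' (fun a => ⟨π a, a.2⟩) (fun a a' => Subtype.ext (map_mul π _ _))
      have hπPs : Function.Surjective πP := fun m => by
        obtain ⟨a, ha⟩ := hπs (m : T ⧸ Z)
        exact ⟨⟨a, show π a ∈ P1 from ha ▸ m.2⟩, Subtype.ext ha⟩
      have hker : ((scalars ψ T2).subgroupOf T2).comap j = πP.ker := by
        ext a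
        rw [mem_comap, mem_subgroupOf, MonoidHom.mem_ker]
        constructor
        · exact fun h => Subtype.ext (hscal a a.2 h)
        · exact fun h => hscal' a a.2 ((QuotientGroup.eq_one_iff _).1 (congrArg Subtype.val h))
      rw [relIndex, ← index_comap_of_surjective _ hjs, hker, index_ker, MonoidHom.range_eq_top.2 hπPs, card_top]
    -- restriction to the inverted part
    have hpres : ∀ g : MulAut (T ⧸ Z), g ∈ centralizer ({σ'} : Set (MulAut (T ⧸ Z))) → ∀ a ∈ P1, g a ∈ P1 := by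
      intro g hg a ha
      show σ' (g a) = (g a)⁻¹
      rw [← MulAut.mul_apply, ← mem_centralizer_singleton_iff.1 hg, MulAut.mul_apply,
        show σ' a = a⁻¹ from ha, map_inv]
    set Ce := centralizer ({σ'} : Set (MulAut (T ⧸ Z))) with hCe
    let res : Ce →* MulAut P1 := MonoidHom.mk' (fun g =>
      { toFun := fun a => ⟨(g : MulAut (T ⧸ Z)) a, hpres g g.2 a a.2⟩
        invFun := fun a => ⟨(g : MulAut (T ⧸ Z))⁻¹ a, hpres _ (inv_mem g.2) a a.2⟩
        left_inv := fun a => Subtype.ext (MulAut.inv_apply_self _ (g : MulAut (T ⧸ Z)) a)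
        right_inv := fun a => Subtype.ext (MulAut.apply_inv_self _ (g : MulAut (T ⧸ Z)) a)
        map_mul' := fun a b => Subtype.ext (map_mul _ _ _) }) fun g g' => MulEquiv.ext fun a => rfl
    let Cc : Subgroup Q :=
      { carrier := {g | ⁅σ, (g : X)⁆ ∈ centralizer (T : Set X)}
        one_mem' := by
          show ⁅σ, (1 : X)⁆ ∈ centralizer (T : Set X)
          rw [commutatorElement_one_right]; exact one_mem _
        mul_mem' := fun {g g'} hg hg' => by
          show ⁅σ, (g : X) * g'⁆ ∈ centralizer (T : Set X)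
          rw [show ⁅σ, (g : X) * g'⁆ = ⁅σ, (g : X)⁆ * ((g : X) * ⁅σ, (g' : X)⁆ * (g : X)⁻¹) by
            simp only [commutatorElement_def]; group]
          exact (centralizer (T : Set X)).mul_mem hg
            ((inferInstance : (centralizer (T : Set X)).Normal).conj_mem _ hg' _)
        inv_mem' := fun {g} hg => by
          show ⁅σ, (g : X)⁻¹⁆ ∈ centralizer (T : Set X)
          rw [show ⁅σ, (g : X)⁻¹⁆ = (g : X)⁻¹ * ⁅σ, (g : X)⁆⁻¹ * (g : X)⁻¹⁻¹ by
            simp only [commutatorElement_def]; group]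
          exact (inferInstance : (centralizer (T : Set X)).Normal).conj_mem _ ((centralizer (T : Set X)).inv_mem hg) _ }
    let toS : Cc →* S := MonoidHom.mk' (fun g => ⟨((g : Q) : X), hQS (g : Q).2⟩) (fun g g' => rfl)
    have hCcCe : ∀ g : Cc, act (toS g) ∈ Ce := fun g =>
      mem_centralizer_singleton_iff.2 (hactQ _ (g : Q).2 g.2).eq
    let ψC : Cc →* MulAut P1 := res.comp ((act.comp toS).codRestrict Ce hCcCe)
    have hyCe : y' ∈ Ce := by
      refine mem_centralizer_singleton_iff.2 ?_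
      rw [hσ', hy', ← map_mul, ← map_mul]
      congr 1
      exact Subtype.ext (((Commute.refl x).pow_pow _ _).eq)
    have hC := eq_bot_of_plane (P := P1) (s := s) (q := q) (k := k) hq2 hqs hidx
      (fun v => Subtype.ext (hMexp v)) hdim (fun u v => β u v) (fun u v w => hβl u v w) (fun u v w => hβr u v w)
      (fun u => hβ1 u) (fun u hu => Subtype.ext (hβnd _ fun m => by
        obtain ⟨a, ha, z, hz, rfl⟩ := hdec m
        rw [hβr, horth _ u.2 z hz, mul_one]
        exact hu ⟨a, ha⟩))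
      ψC.range ((hQ.to_subgroup Cc).of_surjective _ ψC.rangeRestrict_surjective) (by
        rintro _ ⟨g, rfl⟩ u v
        exact hactβ _ u v) (res ⟨y', hyCe⟩) (by
        rw [← map_pow, show (⟨y', hyCe⟩ : Ce) ^ 2 ^ k = 1 from Subtype.ext hy'k, map_one]) (by
        intro j hj hjk v hv
        rw [← map_pow] at hv
        have h1 : (y' ^ j) (v : T ⧸ Z) = v := congrArg Subtype.val hv
        have h2 := hfree j hj hjk _ h1
        refine Subtype.ext ?_
        have h4 : (v : T ⧸ Z) ^ 2 = 1 := by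
          rw [pow_two]
          nth_rewrite 1 [← h2]
          rw [show σ' (v : T ⧸ Z) = (v : T ⧸ Z)⁻¹ from v.2, inv_mul_cancel]
        have h5 := hhalf (v : T ⧸ Z)
        rw [pow_mul, h4, one_pow] at h5
        exact h5.symm) (by
        rintro _ ⟨g, rfl⟩
        have hxy : y ∈ normalizer (Q : Set X) := pow_mem hxQ _
        have hg2 : ⁅σ, y⁻¹ * ((g : Q) : X) * y⁆ ∈ centralizer (T : Set X) := by
          have hsy : y⁻¹ * σ * y = σ := by
            rw [mul_assoc, show σ * y = y * σ from ((Commute.refl x).pow_pow _ _).eq, inv_mul_cancel_left]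
          rw [show ⁅σ, y⁻¹ * ((g : Q) : X) * y⁆ = y⁻¹ * ⁅σ, ((g : Q) : X)⁆ * y⁻¹⁻¹ by
            conv_lhs => rw [← hsy]
            simp only [commutatorElement_def]; group]
          exact (inferInstance : (centralizer (T : Set X)).Normal).conj_mem _ g.2 _
        refine ⟨⟨⟨y⁻¹ * ((g : Q) : X) * y, (mem_normalizer_iff''.1 hxy _).1 (g : Q).2⟩, hg2⟩, ?_⟩
        show res _ = (res ⟨y', hyCe⟩)⁻¹ * res _ * res ⟨y', hyCe⟩
        rw [← map_inv, ← map_mul, ← map_mul]
        congr 1
        refine Subtype.ext ?_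
        show act _ = y'⁻¹ * act _ * y'
        rw [hy', ← map_inv, ← map_mul, ← map_mul]
        rfl)
    intro a ha
    have h1 : ψC ⟨⟨c, hc⟩, hcσ⟩ = 1 := by
      have h2 : ψC ⟨⟨c, hc⟩, hcσ⟩ ∈ ψC.range := ⟨_, rfl⟩
      rw [hC] at h2
      exact h2
    exact congrArg Subtype.val (DFunLike.congr_fun h1 ⟨a, ha⟩)
  -- the commutators with `c` are fixed by `Q`
  have hE : ∀ m, σ' (c' m * m⁻¹) = c' m * m⁻¹ := by
    intro m
    obtain ⟨a, ha, z, hz, rfl⟩ := hdec m
    rw [map_mul c', hP1 a ha, mul_inv_rev, mul_comm z⁻¹ a⁻¹, mul_comm a (c' z), mul_assoc,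
      mul_inv_cancel_left, map_mul σ', map_inv, hz,
      show σ' (c' z) = c' z by rw [← MulAut.mul_apply, ← hcσ'.eq, MulAut.mul_apply, hz]]
  have hEQ : ∀ g (hg : g ∈ Q), ∀ m, act ⟨g, hQS hg⟩ (c' m * m⁻¹) = c' m * m⁻¹ := by
    let FixE : Subgroup (MulAut (T ⧸ Z)) :=
      { carrier := {f | ∀ m, f (c' m * m⁻¹) = c' m * m⁻¹}
        one_mem' := fun m => MulAut.one_apply _ _
        mul_mem' := fun {f g} hf hg m => by rw [MulAut.mul_apply, hg m, hf m]
        inv_mem' := fun {f} hf m => by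
          conv_lhs => rw [← hf m]
          exact MulAut.inv_apply_self _ f _ }
    let QF : Subgroup X := (FixE.comap act).map S.subtype
    have hle : ⁅Q, zpowers σ⁆ ≤ QF := by
      rw [commutator_le]
      intro u hu z hz
      obtain ⟨j, rfl⟩ := mem_zpowers_iff.1 hz
      refine ⟨⁅(⟨u, hQS hu⟩ : S), (⟨σ, hσS⟩ : S) ^ j⁆, ?_, by simp⟩
      show act _ ∈ FixE
      rw [map_commutatorElement, map_zpow, commutatorElement_def]
      set f := act ⟨u, hQS hu⟩
      have hcf : c' * f⁻¹ = f⁻¹ * c' := by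
        have h1 : act ⁅(⟨u, hQS hu⟩ : S), ⟨c, hQS hc⟩⁆ = 1 := hactcen _ (hcQ u hu)
        rw [map_commutatorElement, commutatorElement_eq_one_iff_commute] at h1
        exact (h1.inv_left.eq).symm
      have hj : σ' ^ j ∈ FixE := FixE.zpow_mem (show σ' ∈ FixE from hE) j
      refine FixE.mul_mem ?_ (FixE.inv_mem hj)
      intro m
      have h1 : f⁻¹ (c' m * m⁻¹) = c' (f⁻¹ m) * (f⁻¹ m)⁻¹ := by
        rw [map_mul, map_inv, ← MulAut.mul_apply _ f⁻¹ c', ← hcf, MulAut.mul_apply]
      rw [MulAut.mul_apply, MulAut.mul_apply, h1, hj (f⁻¹ m), map_mul, map_inv, MulAut.apply_inv_self,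
        ← MulAut.mul_apply _ f c', show f * c' = c' * f by
          have := congrArg (fun a => f * a * f) hcf
          simpa [mul_assoc] using this, MulAut.mul_apply, MulAut.apply_inv_self]
    intro g hg m
    obtain ⟨g', hg', e⟩ := hle (hQσ.symm ▸ hg)
    rw [show (⟨g, hQS hg⟩ : S) = g' from Subtype.ext e.symm]
    exact hg' m
  have hc1 : c' = 1 := by
    refine MulEquiv.ext fun m => ?_
    set e := c' m * m⁻¹ with he
    have hit : ∀ j : ℕ, (c' ^ j) m = m * e ^ j := fun j => by
      induction j with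
      | zero => simp
      | succ j ih =>
        rw [pow_succ', MulAut.mul_apply, ih, map_mul, map_pow, show c' e = e from hEQ c hc m,
          show c' m = e * m by rw [he, inv_mul_cancel_right], mul_comm e m, mul_assoc, ← pow_succ']
    obtain ⟨a, ha⟩ := IsPGroup.iff_orderOf.1 hQ ⟨c, hc⟩
    rw [orderOf_mk] at ha
    have h0 : c' ^ q ^ a = 1 := by
      rw [hc', ← map_pow]
      exact hactcen _ (by show c ^ q ^ a ∈ _; rw [← ha, pow_orderOf_eq_one]; exact one_mem _)
    have h3 := hit (q ^ a)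
    rw [h0, MulAut.one_apply, eq_comm, mul_eq_left] at h3
    have h4 : orderOf e = 1 := Nat.eq_one_of_dvd_coprimes
      (((Nat.coprime_primes hq.out hs.out).2 hqs).pow_left a) (orderOf_dvd_of_pow_eq_one h3)
      (orderOf_dvd_of_pow_eq_one (hMexp e))
    rw [orderOf_eq_one_iff, he, mul_inv_eq_one] at h4
    rw [MulAut.one_apply, h4]
  -- back to `T`
  set t : T := ⟨t₀, ht₀⟩ with ht
  have hbZ : b ∈ Z := by
    have h1 : π b = 1 := by
      rw [show b = MulAut.conjNormal c t * t⁻¹ from Subtype.ext (by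
        rw [Subgroup.coe_mul, MulAut.conjNormal_apply]; rfl), map_mul,
        show π (MulAut.conjNormal c t) = c' (π t) from rfl, hc1, MulAut.one_apply, map_inv, mul_inv_cancel]
    exact (QuotientGroup.eq_one_iff b).1 h1
  obtain ⟨l, hl⟩ := (hmemZ b).1 hbZ
  let cr : ℕ → T := fun j => MulAut.conjNormal (c ^ j) t * t⁻¹
  have hcr : ∀ j, φT (cr j) = l ^ j • 1 := fun j => by
    induction j with
    | zero => simp [cr]
    | succ j ih =>
      have e : cr (j + 1) = MulAut.conjNormal c (cr j) * b := by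
        refine Subtype.ext ?_
        simp only [cr, Subgroup.coe_mul, MulAut.conjNormal_apply, InvMemClass.coe_inv]
        rw [show (b : X) = c * t₀ * c⁻¹ * t₀⁻¹ from commutatorElement_def c t₀, pow_succ']
        simp only [ht]
        group
      rw [e, map_mul, htrans c (hQS hc) _ _ ih, hl, smul_mul_smul_comm, one_mul, ← pow_succ]
  obtain ⟨a, ha⟩ := IsPGroup.iff_orderOf.1 hQ ⟨c, hc⟩
  rw [orderOf_mk] at ha
  have h1 := hcr (q ^ a)
  rw [show cr (q ^ a) = 1 by simp only [cr, ← ha, pow_orderOf_eq_one, map_one, MulAut.one_apply, mul_inv_cancel], map_one] at h1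
  have hlq : l ^ q ^ a = 1 := huniq _ _ (by rw [← h1, one_smul])
  obtain ⟨f, hf⟩ := hT b
  have h2 : φT (b ^ s ^ f) = l ^ s ^ f • 1 := by rw [map_pow, hl, smul_pow, one_pow]
  rw [hf, map_one] at h2
  have hls : l ^ s ^ f = 1 := huniq _ _ (by rw [← h2, one_smul])
  have hl1 : l = 1 := orderOf_eq_one_iff.1 (Nat.eq_one_of_dvd_coprimes
    (((Nat.coprime_primes hq.out hs.out).2 hqs).pow a f) (orderOf_dvd_of_pow_eq_one hlq)
    (orderOf_dvd_of_pow_eq_one hls))
  obtain ⟨fW, hfW⟩ := hWW'
  refine hw₁ne ?_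
  have h4 := hfW b ⟨w₁, hw₁⟩ ⟨τ b w₁, hW.2.1 b w₁ hw₁⟩ rfl
  have h5 : τ b (fW ⟨w₁, hw₁⟩ : V) = (fW ⟨w₁, hw₁⟩ : V) := by
    show ((φT b (fW ⟨w₁, hw₁⟩) : W') : V) = _
    rw [hl, hl1, one_smul, Module.End.one_apply]
  exact congrArg Subtype.val (fW.injective (Subtype.ext (h4.trans h5)))

end Cfsg.Agent.ShultGross
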