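import Cfsg.Agent.ShultGross.Field
import Cfsg.Agent.CoprimeFitting.Basic
import Cfsg.Agent.FixedPointFree.Prime
import Cfsg.Agent.Core.Fitting

/-!
The Shult-Gross theorem on the Fitting height of a solvable group with a fixed-point-free
automorphism of odd prime power order.
-/

set_option autoImplicit false

open Subgroup
open scoped commutatorElement IsMulCommutative

namespace Cfsg.Agent.ShultGross

universe u

variable {Γ : Type u} [Group Γ] [Finite Γ] {p : ℕ}

theorem eq_one_of_commute {G : Subgroup Γ} {x a : Γ} (hfix : G ⊓ centralizer ({x} : Set Γ) = ⊥)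
    (ha : a ∈ G) (hc : Commute x a) : a = 1 :=
  mem_bot.1 (hfix ▸ ⟨ha, mem_centralizer_singleton_iff.2 hc.symm.eq⟩)

theorem fixed_image {Δ : Type*} [Group Δ] (f : Γ →* Δ) [hp : Fact p.Prime] {G : Subgroup Γ} [G.Normal]
    (hker : f.ker ≤ G) {x : Γ} (hx : IsPGroup p (zpowers x)) (hfix : G ⊓ centralizer ({x} : Set Γ) = ⊥) :
    G.map f ⊓ centralizer ({f x} : Set Δ) = ⊥ := by
  have h := FixedPointFree.fixed_map_eq_bot f hp.out hx le_normalizer_of_normal hker
    (by rwa [FixedPointFree.centralizer_zpowers])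
  rwa [MonoidHom.map_zpowers, FixedPointFree.centralizer_zpowers] at h

/-- An `r`-core inside an ambient group. -/
noncomputable def core (G : Subgroup Γ) (r : ℕ) : Subgroup Γ := (Cfsg.pCore r G).map G.subtype

instance core_normal (G : Subgroup Γ) [G.Normal] (r : ℕ) : (core G r).Normal :=
  ConjAct.normal_of_characteristic_of_normal

theorem core_le (G : Subgroup Γ) (r : ℕ) : core G r ≤ G := map_subtype_le _

theorem core_isPGroup (G : Subgroup Γ) (r : ℕ) : IsPGroup r (core G r) := Core.pCore_isPGroup.map _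

theorem core_le_fitting {G : Subgroup Γ} (r : ℕ) [Fact r.Prime] :
    core G r ≤ (Cfsg.fittingSubgroup G).map G.subtype :=
  map_mono (Core.pCore_le_fittingSubgroup r)

/-- An element centralising all the cores outside `q` lies in the Fitting subgroup, when it lies in a
normal subgroup covered by the Fitting subgroup and a `q`-group. -/
theorem mem_fitting_of_centralizes {G H : Subgroup Γ} [G.Normal] [hHn : H.Normal] (hHG : H ≤ G) {q : ℕ}
    [Fact q.Prime] {Q : Subgroup Γ} (hQp : IsPGroup q Q) (hOq : core G q ≤ Q)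
    (hHle : H ≤ (Cfsg.fittingSubgroup G).map G.subtype ⊔ Q) {z : Γ} (hz : z ∈ H)
    (hcen : ∀ r : ℕ, r.Prime → r ≠ q → z ∈ centralizer (core G r : Set Γ)) :
    z ∈ (Cfsg.fittingSubgroup G).map G.subtype := by
  set F := (Cfsg.fittingSubgroup G).map G.subtype with hF
  set F' := ⨆ r : {r : Nat.Primes // (r : ℕ) ≠ q}, core G ((r : Nat.Primes) : ℕ) with hF'
  haveI hF'n : F'.Normal := Subgroup.iSup_normal _
  set C := H ⊓ centralizer (F' : Set Γ) with hC
  haveI hCn : C.Normal := Subgroup.normal_inf_normal _ _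
  have hFle : F ≤ F' ⊔ Q := by
    rw [hF, Core.fittingSubgroup_eq_iSup_pCore, Subgroup.map_iSup]
    refine iSup_le fun r => ?_
    by_cases hrq : (r : ℕ) = q
    · rw [hrq]
      exact le_sup_of_le_right hOq
    · exact le_sup_of_le_left (le_iSup (fun r : {r : Nat.Primes // (r : ℕ) ≠ q} => core G ((r : Nat.Primes) : ℕ)) ⟨r, hrq⟩)
  have hHle' : H ≤ F' ⊔ Q := hHle.trans (sup_le hFle le_sup_right)
  let φ := ((QuotientGroup.mk' F').comp C.subtype)
  have hCnil : Group.IsNilpotent C := by
    have hr : IsPGroup q φ.range := by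
      refine (hQp.map (QuotientGroup.mk' F')).to_le ?_
      rintro _ ⟨c, rfl⟩
      have h1 := Subgroup.mem_map_of_mem (QuotientGroup.mk' F') (hHle' c.2.1)
      rwa [Subgroup.map_sup, QuotientGroup.map_mk'_self, bot_sup_eq] at h1
    haveI := hr.isNilpotent
    refine Subgroup.isNilpotent_of_ker_le_center φ.rangeRestrict ?_
    intro c hc
    rw [MonoidHom.ker_rangeRestrict, MonoidHom.mem_ker] at hc
    refine mem_center_iff.2 fun d => Subtype.ext ?_
    exact ((mem_centralizer_iff.1 d.2.2) c ((QuotientGroup.eq_one_iff _).1 hc)).symm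
  have hCG : C ≤ G := inf_le_left.trans hHG
  have h1 : Group.IsNilpotent (C.subgroupOf G) :=
    (Group.isNilpotent_congr (subgroupOfEquivOfLe hCG)).mpr hCnil
  have h2 := map_mono (f := G.subtype) (Core.le_fittingSubgroup h1)
  rw [map_subgroupOf_eq_of_le hCG] at h2
  refine h2 ⟨hz, ?_⟩
  have hle : F' ≤ centralizer ({z} : Set Γ) := iSup_le fun r b hb =>
    mem_centralizer_singleton_iff.2 (mem_centralizer_iff.1 (hcen _ r.1.2 r.2) b hb)
  exact mem_centralizer_iff.2 fun b hb => mem_centralizer_singleton_iff.1 (hle hb)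

/-- An invariant lift of an invariant `q`-subgroup. -/
theorem exists_invariant_lift {Δ : Type*} [Group Δ] (f : Γ →* Δ) {q : ℕ} [Fact q.Prime] {Qb : Subgroup Δ}
    (hQb : IsPGroup q Qb) {H : Subgroup Γ} (hH : H.map f = Qb) {A : Subgroup Γ} (hAH : A ≤ normalizer (H : Set Γ))
    (hcop : (Nat.card A).Coprime (Nat.card H)) (hA : Group.IsSolvable A) :
    ∃ Q : Subgroup Γ, IsPGroup q Q ∧ Q ≤ H ∧ A ≤ normalizer (Q : Set Γ) ∧ Q.map f = Qb ∧
      ∀ N : Subgroup Γ, N.Normal → N ≤ H → IsPGroup q N → N ≤ Q := by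
  obtain ⟨S, hS⟩ := Coprime.exists_invariant_sylow (A := A) (K := H) hAH hcop (Or.inl hA) q
  set Q := (S : Subgroup H).map H.subtype with hQ
  refine ⟨Q, S.2.map _, map_subtype_le _, hS, ?_, fun N hN hNH hNp => ?_⟩
  · have hcoe := Sylow.coe_mapSurjective (f.subgroupMap_surjective H) S
    have htop : ((S.mapSurjective (f.subgroupMap_surjective H) : Sylow q (H.map f)) : Subgroup (H.map f)) = ⊤ := by
      refine ((S.mapSurjective (f.subgroupMap_surjective H)).is_maximal' ?_ le_top).symm
      exact ((hQb.of_equiv (MulEquiv.subgroupCongr hH.symm)).to_subgroup ⊤)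
    rw [hcoe] at htop
    have h1 := congrArg (Subgroup.map (H.map f).subtype) htop
    rw [← MonoidHom.range_eq_map, range_subtype, Subgroup.map_map] at h1
    rw [hQ, Subgroup.map_map, ← hH]
    exact h1
  · have h2 : N.subgroupOf H ≤ (S : Subgroup H) := (hNp.comap_subtype (K := H)).le_sylow_of_normal S
    rw [← map_subgroupOf_eq_of_le hNH]
    exact map_mono h2

/-- The power `x ^ p ^ (n - 1)` acts trivially modulo the Fitting subgroup, given its action on the cores. -/
theorem commutator_mem_fitting_of [hp : Fact p.Prime] {G : Subgroup Γ} [hGn : G.Normal]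
    (hsolv : Group.IsSolvable G) {x : Γ} (hx : IsPGroup p (zpowers x))
    (hfix : G ⊓ centralizer ({x} : Set Γ) = ⊥) {n : ℕ} (hn : 1 ≤ n)
    (hxn : x ^ p ^ n ∈ centralizer (G : Set Γ))
    (hmod : ∀ q : ℕ, q.Prime → q ≠ p → ∀ Q : Subgroup Γ, IsPGroup q Q → Q ≤ G →
      x ∈ normalizer (Q : Set Γ) → ∀ r : ℕ, r.Prime → r ≠ q → r ≠ p → ∀ a ∈ Q,
        ⁅x ^ p ^ (n - 1), a⁆ ∈ centralizer (core G r : Set Γ)) :
    ∀ g ∈ G, ⁅x ^ p ^ (n - 1), g⁆ ∈ (Cfsg.fittingSubgroup G).map G.subtype := by
  classical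
  set F := (Cfsg.fittingSubgroup G).map G.subtype with hF
  have hFn : F.Normal := ConjAct.normal_of_characteristic_of_normal
  have hFG : F ≤ G := map_subtype_le _
  set π := QuotientGroup.mk' F with hπ
  have hπker : π.ker = F := QuotientGroup.ker_mk' F
  set σ := x ^ p ^ (n - 1) with hσ
  have hcop : (Nat.card (zpowers x)).Coprime (Nat.card G) :=
    FixedPointFree.coprime_of_fixed hp.out hx le_normalizer_of_normal (by rwa [FixedPointFree.centralizer_zpowers])
  set Gb := G.map π with hGb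
  have hGbn : Gb.Normal := hGn.map π (QuotientGroup.mk'_surjective F)
  haveI hGbs : Group.IsSolvable Gb := Core.isSolvable_map hsolv _
  set F2 := (Cfsg.fittingSubgroup Gb).map Gb.subtype with hF2
  have hF2n : F2.Normal := ConjAct.normal_of_characteristic_of_normal
  have hF2G : F2 ≤ Gb := map_subtype_le _
  have hF2nil : Group.IsNilpotent F2 := Core.isNilpotent_map Core.fittingSubgroup_isNilpotent _
  have hzσ : zpowers σ ≤ zpowers x := zpowers_le.2 (pow_mem (mem_zpowers x) _)
  -- the automorphism centralises the second Fitting term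
  have hcen2 : F2 ≤ centralizer ({π σ} : Set (Γ ⧸ F)) := by
    refine Coprime.le_of_forall_sylow_le fun q hq => ?_
    haveI := Fact.mk hq
    obtain ⟨Qb, hQbn, hQb2, hQbp, hQbmax⟩ := CoprimeFitting.exists_sylow_normal hF2nil q
    obtain ⟨P⟩ : Nonempty (Sylow q F2) := inferInstance
    suffices hQbc : Qb ≤ centralizer ({π σ} : Set (Γ ⧸ F)) by
      refine ⟨P, ?_⟩
      rintro _ ⟨y, hy, rfl⟩
      obtain ⟨e, he⟩ := P.2 ⟨y, hy⟩
      exact hQbc (hQbmax _ y.2 e (congrArg Subtype.val (congrArg Subtype.val he)))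
    by_cases hQb1 : Qb = ⊥
    · rw [hQb1]; exact bot_le
    set H := G ⊓ Qb.comap π with hH
    have hQbc' : (Qb.comap π).Normal := hQbn.comap π
    have hHn : H.Normal := Subgroup.normal_inf_normal _ _
    have hHG : H ≤ G := inf_le_left
    have hHmap : H.map π = Qb := by
      refine le_antisymm ?_ fun b hb => ?_
      · rintro _ ⟨a, ha, rfl⟩; exact ha.2
      · obtain ⟨a, ha, rfl⟩ := hF2G (hQb2 hb)
        exact ⟨a, ⟨ha, hb⟩, rfl⟩
    have hqp : p ≠ q := by
      rintro rfl
      obtain ⟨j, hj⟩ := IsPGroup.iff_card.1 hQbp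
      have hj0 : j ≠ 0 := fun h => hQb1 (card_eq_one.1 (by rw [hj, h, pow_zero]))
      have h1 : p ∣ Nat.card G := ((dvd_pow_self p hj0).trans (hj ▸ card_dvd_of_le (hQb2.trans hF2G))).trans
        (card_map_dvd _ _)
      obtain ⟨l, hl⟩ := IsPGroup.iff_card.1 hx
      rcases Nat.eq_zero_or_pos l with rfl | hl0
      · rw [pow_zero, card_eq_one, zpowers_eq_bot] at hl
        subst hl
        have hG : G = ⊥ := eq_bot_iff.2 fun g hg => mem_bot.2 (eq_one_of_commute hfix hg (Commute.one_left g))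
        rw [hG, card_bot] at h1
        exact hp.out.not_dvd_one h1
      · exact hp.out.not_dvd_one (hcop.gcd_eq_one ▸ Nat.dvd_gcd (hl ▸ dvd_pow_self p hl0.ne') h1)
    obtain ⟨Q, hQp, hQH, hAQ, hQmap, hQmax⟩ := exists_invariant_lift π hQbp hHmap le_normalizer_of_normal
      (hcop.coprime_dvd_right (card_dvd_of_le hHG))
      (Group.isSolvable_of_comm fun a b => setLike_mul_comm (s := zpowers x) a.2 b.2 |> Subtype.ext)
    have hxQ : x ∈ normalizer (Q : Set Γ) := hAQ (mem_zpowers x)
    have hOcen : ∀ r : ℕ, r.Prime → r ≠ q → ∀ a ∈ Q, ⁅σ, a⁆ ∈ centralizer (core G r : Set Γ) := by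
      intro r hr hrq a ha
      by_cases hrp : r = p
      · subst hrp
        have h1 : core G r = ⊥ := by
          obtain ⟨j, hj⟩ := IsPGroup.iff_card.1 (core_isPGroup G r)
          rcases Nat.eq_zero_or_pos j with rfl | hj0
          · exact card_eq_one.1 (by rw [hj, pow_zero])
          · obtain ⟨l, hl⟩ := IsPGroup.iff_card.1 hx
            rcases Nat.eq_zero_or_pos l with rfl | hl0
            · rw [pow_zero, card_eq_one, zpowers_eq_bot] at hl
              subst hl
              exact eq_bot_iff.2 fun g hg => mem_bot.2 (eq_one_of_commute hfix (core_le G r hg) (Commute.one_left g))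
            · exact absurd (hcop.gcd_eq_one ▸ Nat.dvd_gcd (hl ▸ dvd_pow_self r hl0.ne')
                ((dvd_pow_self r hj0.ne').trans (hj ▸ card_dvd_of_le (core_le G r)))) hr.not_dvd_one
        rw [h1, mem_centralizer_iff]
        intro b hb
        rw [mem_bot.1 hb, one_mul, mul_one]
      · exact hmod q hq hqp.symm Q hQp (hQH.trans hHG) hxQ r hr hrq hrp a ha
    have hOqH : core G q ≤ H := le_inf (core_le G q) fun g hg => by
      show π g ∈ Qb
      rw [show π g = 1 from (QuotientGroup.eq_one_iff g).2 (core_le_fitting q hg)]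
      exact one_mem _
    have hHle : H ≤ F ⊔ Q := by
      intro h hh
      obtain ⟨a, ha, hae⟩ := hQmap.ge hh.2
      have h1 : h * a⁻¹ ∈ F := by
        rw [← hπker, MonoidHom.mem_ker, map_mul, map_inv, hae, mul_inv_cancel]
      rw [show h = (h * a⁻¹) * a by group]
      exact mul_mem_sup h1 ha
    rw [← hQmap]
    rintro _ ⟨a, ha, rfl⟩
    refine mem_centralizer_singleton_iff.2 ?_
    have hz : ⁅σ, a⁆ ∈ F := mem_fitting_of_centralizes hHG hQp (hQmax _ inferInstance hOqH (core_isPGroup G q)) hHle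
      (by rw [commutatorElement_def]; exact H.mul_mem (hHn.conj_mem a (hQH ha) σ) (H.inv_mem (hQH ha)))
      (fun r hr hrq => hOcen r hr hrq a ha)
    have h3 : π ⁅σ, a⁆ = 1 := (QuotientGroup.eq_one_iff _).2 hz
    rw [map_commutatorElement, commutatorElement_eq_one_iff_mul_comm] at h3
    exact h3.symm
  -- hence on the whole quotient
  set A := zpowers (π σ) with hA
  have hAF2 : ⁅A, F2⁆ = ⊥ := by
    rw [commutator_eq_bot_iff_le_centralizer, zpowers_le, mem_centralizer_iff]
    exact fun b hb => mem_centralizer_singleton_iff.1 (hcen2 hb)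
  have hAF2' : ⁅F2, A⁆ = ⊥ := by rw [commutator_comm]; exact hAF2
  have hAN : A ≤ normalizer (Gb : Set (Γ ⧸ F)) := le_normalizer_of_normal
  have hK2 : ⁅Gb, A⁆ ≤ F2 := by
    have h0 : ⁅⁅Gb, A⁆, F2⁆ = ⊥ := by
      refine commutator_commutator_eq_bot_of_rotate ?_ ?_
      · rw [hAF2, commutator_bot_left]
      · refine eq_bot_iff.2 (le_trans (commutator_mono ?_ le_rfl) hAF2'.le)
        exact commutator_le_left F2 Gb
    have h1 : ⁅Gb, A⁆ ≤ Gb := Coprime.commutator_le_of_le_normalizer hAN
    rw [commutator_eq_bot_iff_le_centralizer] at h0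
    intro g hg
    have h2 : (⟨g, h1 hg⟩ : Gb) ∈ centralizer (Cfsg.fittingSubgroup Gb : Set Gb) := by
      rw [mem_centralizer_iff]
      intro b hb
      exact Subtype.ext (mem_centralizer_iff.1 (h0 hg) b ⟨b, hb, rfl⟩)
    exact ⟨_, Core.centralizer_fittingSubgroup_le h2, rfl⟩
  have hbot : ⁅Gb, A⁆ = ⊥ := by
    rw [← Coprime.commutator_commutator_eq hAN ?_ (Or.inr inferInstance)]
    · exact eq_bot_iff.2 (le_trans (commutator_mono hK2 le_rfl) hAF2'.le)
    · rw [hA, ← MonoidHom.map_zpowers]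
      exact ((hcop.coprime_dvd_left (card_dvd_of_le hzσ)).coprime_dvd_left (card_map_dvd _ _)).coprime_dvd_right
        (card_map_dvd _ _)
  intro g hg
  rw [← hπker, MonoidHom.mem_ker, map_commutatorElement]
  refine mem_bot.1 (hbot.le ?_)
  rw [← commutatorElement_inv]
  exact inv_mem (commutator_mem_commutator (mem_map_of_mem π hg) (mem_zpowers _))

/-- The action of an element of a group on a core, read modulo its Frattini subgroup. -/
theorem mem_centralizer_core_of_frattini {G : Subgroup Γ} [G.Normal] {r q : ℕ} [hr : Fact r.Prime]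
    [hq : Fact q.Prime] (hrq : r ≠ q) {Q : Subgroup Γ} (hQ : IsPGroup q Q) {z : Γ} (hz : z ∈ Q)
    (h : ∀ b ∈ core G r, ⁅z, b⁆ ∈ (frattini (core G r)).map (core G r).subtype) :
    z ∈ centralizer (core G r : Set Γ) := by
  refine Coprime.le_centralizer_of_trivial_mod_frattini (A := zpowers z) le_normalizer_of_normal ?_ ?_
    (mem_zpowers _)
  · obtain ⟨j, hj⟩ := IsPGroup.iff_card.1 (hQ.to_le (zpowers_le.2 hz))
    obtain ⟨l, hl⟩ := IsPGroup.iff_card.1 ((core_isPGroup G r).to_subgroup (frattini (core G r)))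
    rw [hj, hl]
    exact ((Nat.coprime_primes hq.out hr.out).2 (Ne.symm hrq)).pow j l
  · intro c hc b hb
    set Φ := (frattini (core G r)).map (core G r).subtype with hΦ
    haveI : Φ.Normal := ConjAct.normal_of_characteristic_of_normal
    rw [← QuotientGroup.eq_one_iff (N := Φ)]
    show QuotientGroup.mk' Φ (c * b * c⁻¹ * b⁻¹) = 1
    obtain ⟨e, rfl⟩ := mem_zpowers_iff.1 hc
    have h1 : Commute (QuotientGroup.mk' Φ z) (QuotientGroup.mk' Φ b) := by
      rw [← commutatorElement_eq_one_iff_commute, ← map_commutatorElement]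
      exact (QuotientGroup.eq_one_iff _).2 (h b hb)
    rw [map_mul, map_mul, map_mul, map_inv, map_inv, map_zpow, (h1.zpow_left e).eq, mul_inv_cancel_right,
      mul_inv_cancel]

/-- The Frattini quotient of a core as an elementary abelian group. -/
theorem core_image_props (G : Subgroup Γ) [G.Normal] (r : ℕ) [hr : Fact r.Prime] {Δ : Type*} [Group Δ]
    (f : Γ →* Δ) (hf : (frattini (core G r)).map (core G r).subtype ≤ f.ker) :
    IsMulCommutative ((core G r).map f) ∧ ∀ v ∈ (core G r).map f, v ^ r = 1 := by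
  haveI := (core_isPGroup G r).isNilpotent
  refine ⟨⟨⟨?_⟩⟩, ?_⟩
  · rintro ⟨_, b, hb, rfl⟩ ⟨_, c, hc, rfl⟩
    refine Subtype.ext ?_
    show f b * f c = f c * f b
    rw [← commutatorElement_eq_one_iff_mul_comm, ← map_commutatorElement]
    exact hf ⟨⁅(⟨b, hb⟩ : core G r), ⟨c, hc⟩⁆,
      Core.commutator_le_frattini (commutator_mem_commutator (mem_top _) (mem_top _)), rfl⟩
  · rintro _ ⟨b, hb, rfl⟩
    rw [← map_pow]
    exact hf ⟨⟨b, hb⟩ ^ r, Core.pow_mem_frattini (core_isPGroup G r) _, rfl⟩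

/-- The power `x ^ p ^ (n - 1)` acts trivially modulo the Fitting subgroup, for odd `p`. -/
theorem commutator_mem_fitting [hp : Fact p.Prime] (hp2 : p ≠ 2) {G : Subgroup Γ} [hGn : G.Normal]
    (hsolv : Group.IsSolvable G) {x : Γ} (hx : IsPGroup p (zpowers x))
    (hfix : G ⊓ centralizer ({x} : Set Γ) = ⊥) {n : ℕ} (hn : 1 ≤ n)
    (hxn : x ^ p ^ n ∈ centralizer (G : Set Γ)) :
    ∀ g ∈ G, ⁅x ^ p ^ (n - 1), g⁆ ∈ (Cfsg.fittingSubgroup G).map G.subtype := by
  refine commutator_mem_fitting_of hsolv hx hfix hn hxn fun q hq hqp Q hQp hQG hxQ r hr hrq hrp a ha => ?_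
  haveI := Fact.mk hq
  haveI := Fact.mk hr
  set Φ := (frattini (core G r)).map (core G r).subtype with hΦ
  haveI hΦn : Φ.Normal := ConjAct.normal_of_characteristic_of_normal
  set πr := QuotientGroup.mk' Φ with hπr
  have hkr : πr.ker ≤ G := by rw [QuotientGroup.ker_mk']; exact (map_subtype_le _).trans (core_le G r)
  set V := (core G r).map πr with hV
  haveI : V.Normal := (core_normal G r).map πr (QuotientGroup.mk'_surjective Φ)
  obtain ⟨hVc, hexp⟩ := core_image_props G r πr (QuotientGroup.ker_mk' Φ).ge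
  haveI := hVc
  have hfixb := fixed_image (p := p) πr hkr hx hfix
  have hxb : IsPGroup p (zpowers (πr x)) := by
    rw [← MonoidHom.map_zpowers]; exact hx.map πr
  have hxnb : πr x ^ p ^ n ∈ centralizer (V : Set (Γ ⧸ Φ)) := by
    rw [mem_centralizer_iff]
    rintro _ ⟨b, hb, rfl⟩
    rw [← map_pow, ← map_mul, ← map_mul, mem_centralizer_iff.1 hxn b (core_le G r hb)]
  have h := commutator_mem_centralizer (V := V) hp2 hqp.symm hrp hrq hexp hn (hQp.map πr) hxb
    (le_normalizer_map πr ⟨x, hxQ, rfl⟩) hxnb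
    (fun b hb => eq_one_of_commute hfixb (map_mono hQG hb))
    (fun b hb => eq_one_of_commute hfixb (map_mono (core_le G r) hb)) (πr a) ⟨a, ha, rfl⟩
  rw [← map_pow, ← map_commutatorElement] at h
  refine mem_centralizer_core_of_frattini hrq hQp ?_ fun b hb => ?_
  · rw [commutatorElement_def]
    exact mul_mem ((mem_normalizer_iff.1 (pow_mem hxQ _) a).1 ha) (inv_mem ha)
  · rw [← QuotientGroup.eq_one_iff (N := Φ)]
    show πr _ = 1
    rw [map_commutatorElement, commutatorElement_eq_one_iff_mul_comm]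
    exact (mem_centralizer_iff.1 h (πr b) ⟨b, hb, rfl⟩).symm

/-- **The Shult-Gross theorem**, inside an ambient group. -/
theorem ser_eq_bot [hp : Fact p.Prime] (hp2 : p ≠ 2) : ∀ (n : ℕ), ∀ {Γ : Type u} [Group Γ] [Finite Γ]
    (G : Subgroup Γ) [G.Normal], Group.IsSolvable G → ∀ x : Γ, IsPGroup p (zpowers x) →
    G ⊓ centralizer ({x} : Set Γ) = ⊥ → x ^ p ^ n ∈ centralizer (G : Set Γ) →
    CoprimeFitting.ser G n = ⊥ := by
  intro n
  induction n with
  | zero =>
    intro Γ _ _ G _ _ x _ hfix hxn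
    rw [pow_zero, pow_one] at hxn
    exact eq_bot_iff.2 fun g hg => mem_bot.2 (eq_one_of_commute hfix hg (mem_centralizer_iff.1 hxn g hg).symm)
  | succ n ih =>
    intro Γ _ _ G hGn hsolv x hx hfix hxn
    have hcomm := commutator_mem_fitting (n := n + 1) hp2 hsolv hx hfix (by omega) hxn
    rw [Nat.add_sub_cancel] at hcomm
    set F := (Cfsg.fittingSubgroup G).map G.subtype with hF
    haveI hFn : F.Normal := ConjAct.normal_of_characteristic_of_normal
    set π := QuotientGroup.mk' F with hπ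
    haveI := hGn.map π (QuotientGroup.mk'_surjective F)
    have hxb : IsPGroup p (zpowers (π x)) := by
      rw [← MonoidHom.map_zpowers]; exact hx.map π
    have hker : π.ker ≤ G := by rw [QuotientGroup.ker_mk']; exact map_subtype_le _
    have h := ih (G.map π) (Core.isSolvable_map hsolv _) (π x) hxb (fixed_image π hker hx hfix) (by
      rw [mem_centralizer_iff]
      rintro _ ⟨g, hg, rfl⟩
      have h1 : π ⁅x ^ p ^ n, g⁆ = 1 := (QuotientGroup.eq_one_iff _).2 (hcomm g hg)
      rw [map_commutatorElement, commutatorElement_eq_one_iff_mul_comm, map_pow] at h1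
      exact h1.symm)
    rw [← CoprimeFitting.map_ser, Subgroup.map_eq_bot_iff, QuotientGroup.ker_mk'] at h
    refine le_bot_iff.1 ((CoprimeFitting.nres_mono h).trans_eq ?_)
    exact CoprimeFitting.nres_of_isNilpotent (Core.isNilpotent_map Core.fittingSubgroup_isNilpotent _)

end Cfsg.Agent.ShultGross
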