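import Cfsg.Agent.ShultGross.Operator
import Cfsg.Agent.FittingPQ.Aut

/-!
Shult's fixed point theorem over an arbitrary field, and in group form.
-/

set_option autoImplicit false

open Subgroup
open scoped commutatorElement IsMulCommutative

namespace Cfsg.Agent.ShultGross

variable {G : Type*} [Group G] [Finite G]

theorem commute_of_no_fixed_closed {K : Type*} [Field K] [IsAlgClosed K] {V : Type*} [AddCommGroup V]
    [Module K V] [FiniteDimensional K V] {p q n : ℕ} [hp : Fact p.Prime] (hp2 : p ≠ 2) [hq : Fact q.Prime]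
    (hpq : p ≠ q) (hn : 1 ≤ n) (hpK : (p : K) ≠ 0) (hqK : (q : K) ≠ 0) (ρ : G →* Module.End K V)
    {Q : Subgroup G} (hQ : IsPGroup q Q) {x : G} (hx : IsPGroup p (zpowers x))
    (hxQ : x ∈ normalizer (Q : Set G)) (hxn : ρ (x ^ p ^ n) = 1) (hfpf : ∀ a ∈ Q, Commute x a → a = 1)
    (hV : ∀ v : V, ρ x v = v → v = 0) :
    ∀ a ∈ Q, Commute (ρ (x ^ p ^ (n - 1))) (ρ a) := by
  by_contra hns
  set f := QuotientGroup.mk' ρ.ker with hf
  set ρ' := QuotientGroup.lift ρ.ker ρ le_rfl with hρ'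
  have hρ'f : ∀ g, ρ' (f g) = ρ g := fun g => rfl
  have hinj : Function.Injective ρ' := by
    intro u v huv
    obtain ⟨u, rfl⟩ := QuotientGroup.mk'_surjective ρ.ker u
    obtain ⟨v, rfl⟩ := QuotientGroup.mk'_surjective ρ.ker v
    replace huv : ρ u = ρ v := huv
    refine QuotientGroup.eq.2 (MonoidHom.mem_ker.2 ?_)
    rw [map_mul, ← huv, ← map_mul, inv_mul_cancel, map_one]
  set Q' := Q.map f with hQ'
  have hQ'p : IsPGroup q Q' := hQ.map f
  have hxQ' : f x ∈ normalizer (Q' : Set (G ⧸ ρ.ker)) := le_normalizer_map f ⟨x, hxQ, rfl⟩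
  have hxn' : f x ^ p ^ n = 1 := hinj (by rw [← map_pow f, hρ'f, hxn, map_one])
  have hfpf' : ∀ b ∈ Q', Commute (f x) b → b = 1 := by
    rintro _ ⟨a, ha, rfl⟩ hc
    set Nk := ρ.ker ⊓ Q with hNk
    have hAN : zpowers x ≤ normalizer (Nk : Set G) :=
      Coprime.le_normalizer_inf le_normalizer_of_normal (zpowers_le.2 hxQ)
    have hcop : (Nat.card (zpowers x)).Coprime (Nat.card Nk) := by
      obtain ⟨j, hj⟩ := IsPGroup.iff_card.1 (hQ.to_le (show Nk ≤ Q from inf_le_right))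
      obtain ⟨l, hl⟩ := IsPGroup.iff_card.1 hx
      rw [hl, hj]
      exact ((Nat.coprime_primes hp.out hq.out).2 hpq).pow l j
    have hfix : ∀ c ∈ zpowers x, a⁻¹ * (c * a * c⁻¹) ∈ Nk := by
      intro c hc'
      obtain ⟨e, rfl⟩ := mem_zpowers_iff.1 hc'
      refine ⟨?_, Q.mul_mem (Q.inv_mem ha) ((mem_normalizer_iff.1 (zpow_mem hxQ e) a).1 ha)⟩
      have h1 : f (a⁻¹ * (x ^ e * a * (x ^ e)⁻¹)) = 1 := by
        rw [map_mul, map_mul, map_mul, map_inv, map_inv, map_zpow, (hc.zpow_left e).eq, mul_inv_cancel_right,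
          inv_mul_cancel]
      exact (QuotientGroup.eq_one_iff _).1 h1
    obtain ⟨z, hz, hcz⟩ := Coprime.exists_fixed_mem_leftCoset hAN hcop
      (Or.inl (Group.isSolvable_of_comm fun a b => setLike_mul_comm (s := zpowers x) a.2 b.2 |> Subtype.ext)) hfix
    have h1 := hfpf _ (mul_mem ha hz.2) (mem_centralizer_iff.1 hcz x (mem_zpowers x))
    rw [mul_eq_one_iff_eq_inv] at h1
    rw [h1]
    exact (QuotientGroup.eq_one_iff _).2 (ρ.ker.inv_mem hz.1)
  have hns' : ¬ ∀ b ∈ Q', f x ^ p ^ (n - 1) * b = b * f x ^ p ^ (n - 1) := fun h => hns fun a ha => by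
    have h1 := congrArg ρ' (h (f a) ⟨a, ha, rfl⟩)
    rw [← map_pow f, map_mul, map_mul, hρ'f, hρ'f] at h1
    exact h1
  obtain ⟨Q₀, hmin⟩ := (Set.toFinite {R : Subgroup (G ⧸ ρ.ker) | R ≤ Q' ∧ f x ∈ normalizer (R : Set (G ⧸ ρ.ker)) ∧
    ¬ ∀ b ∈ R, f x ^ p ^ (n - 1) * b = b * f x ^ p ^ (n - 1)}).exists_minimal ⟨Q', le_rfl, hxQ', hns'⟩
  obtain ⟨hle, hx₀, hns₀⟩ := hmin.1
  obtain ⟨v, hv0, hv⟩ := exists_fixed_minimal hp2 hpq hn hpK hqK ρ' hinj (hQ'p.to_le hle) hx₀ hxn'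
    (fun b hb => hfpf' b (hle hb)) hns₀ (fun R h1 h2 h3 => le_antisymm h1 (hmin.2 ⟨h1.trans hle, h2, h3⟩ h1))
  exact hv0 (hV v hv)

theorem commute_of_no_fixed {F : Type*} [Field F] {V : Type*} [AddCommGroup V] [Module F V]
    [FiniteDimensional F V] {p q n : ℕ} [hp : Fact p.Prime] (hp2 : p ≠ 2) [hq : Fact q.Prime]
    (hpq : p ≠ q) (hn : 1 ≤ n) (hpF : (p : F) ≠ 0) (hqF : (q : F) ≠ 0) (ρ : G →* Module.End F V)
    {Q : Subgroup G} (hQ : IsPGroup q Q) {x : G} (hx : IsPGroup p (zpowers x))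
    (hxQ : x ∈ normalizer (Q : Set G)) (hxn : ρ (x ^ p ^ n) = 1) (hfpf : ∀ a ∈ Q, Commute x a → a = 1)
    (hV : ∀ v : V, ρ x v = v → v = 0) :
    ∀ a ∈ Q, Commute (ρ (x ^ p ^ (n - 1))) (ρ a) := by
  classical
  let bas := Module.finBasis F V
  let k := AlgebraicClosure F
  let Φ : Module.End F V →+* Module.End k (Fin (Module.finrank F V) → k) :=
    (Matrix.toLinAlgEquiv' (R := k) (n := Fin (Module.finrank F V))).toAlgHom.toRingHom.comp
      ((algebraMap F k).mapMatrix.comp (LinearMap.toMatrixAlgEquiv bas).toAlgHom.toRingHom)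
  have hΦ : Function.Injective Φ :=
    (Matrix.toLinAlgEquiv' (R := k) (n := Fin (Module.finrank F V))).injective.comp
      ((Matrix.map_injective (algebraMap F k).injective).comp (LinearMap.toMatrixAlgEquiv bas).injective)
  have hcast : ∀ m : ℕ, (m : F) ≠ 0 → (m : k) ≠ 0 := fun m hm h => hm ((algebraMap F k).injective (by
    rw [map_natCast, map_zero, h]))
  intro a ha
  refine hΦ (?_ : Φ (ρ _ * ρ a) = Φ (ρ a * ρ _))
  rw [map_mul, map_mul]
  refine commute_of_no_fixed_closed hp2 hpq hn (hcast p hpF) (hcast q hqF) (Φ.toMonoidHom.comp ρ) hQ hx hxQ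
    (by show Φ (ρ _) = 1; rw [hxn, map_one]) hfpf (fun v hv => ?_) a ha
  have hu : IsUnit (ρ x - 1) := (Module.End.isUnit_iff _).2
    (let hi := (injective_iff_map_eq_zero (ρ x - 1)).2 fun w hw => hV w (sub_eq_zero.1 hw)
     ⟨hi, LinearMap.injective_iff_surjective.1 hi⟩)
  refine ((Module.End.isUnit_iff _).1 (hu.map Φ)).1 ?_
  rw [map_sub, map_one, LinearMap.sub_apply, Module.End.one_apply, map_zero]
  exact sub_eq_zero.2 hv

/-- Group form. -/
theorem commutator_mem_centralizer {V : Subgroup G} [hVn : V.Normal] [IsMulCommutative V] {p q r n : ℕ}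
    [hp : Fact p.Prime] (hp2 : p ≠ 2) [hq : Fact q.Prime] (hpq : p ≠ q) [hr : Fact r.Prime] (hrp : r ≠ p)
    (hrq : r ≠ q) (hexp : ∀ v ∈ V, v ^ r = 1) (hn : 1 ≤ n) {Q : Subgroup G} (hQ : IsPGroup q Q) {x : G}
    (hx : IsPGroup p (zpowers x)) (hxQ : x ∈ normalizer (Q : Set G))
    (hxn : x ^ p ^ n ∈ centralizer (V : Set G)) (hfQ : ∀ a ∈ Q, Commute x a → a = 1)
    (hfV : ∀ v ∈ V, Commute x v → v = 1) :
    ∀ a ∈ Q, ⁅x ^ p ^ (n - 1), a⁆ ∈ centralizer (V : Set G) := by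
  haveI : Module (ZMod r) (Additive V) := AddCommGroup.zmodModule fun v =>
    Subtype.ext (hexp _ (Additive.toMul v).2)
  haveI : Finite (Additive V) := inferInstanceAs (Finite V)
  haveI : FiniteDimensional (ZMod r) (Additive V) := Module.Finite.of_finite
  let ρ : G →* Module.End (ZMod r) (Additive V) := FittingPQ.linAut.comp MulAut.conjNormal
  have happ : ∀ (g : G) (v : V), ((Additive.toMul (ρ g (Additive.ofMul v)) : V) : G) = g * v * g⁻¹ :=
    fun g v => MulAut.conjNormal_apply g v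
  have hone : ∀ g : G, ρ g = 1 ↔ g ∈ centralizer (V : Set G) := by
    intro g
    rw [mem_centralizer_iff]
    constructor
    · intro h v hv
      have h1 := happ g ⟨v, hv⟩
      rw [h] at h1
      exact (eq_mul_inv_iff_mul_eq.1 h1)
    · intro h
      refine LinearMap.ext fun w => ?_
      obtain ⟨v, rfl⟩ := Additive.ofMul.surjective w
      refine Additive.toMul.injective (Subtype.ext ?_)
      rw [happ, ← h v v.2, mul_inv_cancel_right]
      rfl
  have hcast : ∀ m : ℕ, m.Prime → r ≠ m → (m : ZMod r) ≠ 0 := fun m hm hne h =>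
    hne ((Nat.prime_dvd_prime_iff_eq hr.out hm).1 ((ZMod.natCast_eq_zero_iff m r).1 h))
  intro a ha
  have h := commute_of_no_fixed hp2 hpq hn (hcast p hp.out hrp) (hcast q hq.out hrq) ρ hQ hx hxQ
    ((hone _).2 hxn) hfQ (fun w hw => ?_) a ha
  · rw [← hone, commutatorElement_def, map_mul, map_mul, map_mul, h.eq, mul_assoc _ (ρ (x ^ p ^ (n - 1))) _,
      ← map_mul, mul_inv_cancel, map_one, mul_one, ← map_mul, mul_inv_cancel, map_one]
  · obtain ⟨v, rfl⟩ := Additive.ofMul.surjective w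
    have h1 := happ x v
    rw [hw] at h1
    have h2 := hfV v v.2 (eq_mul_inv_iff_mul_eq.1 h1).symm
    exact Additive.toMul.injective (Subtype.ext h2)

end Cfsg.Agent.ShultGross
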