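import Cfsg.Agent.ShultGross.TwoLayer
import Cfsg.Agent.ShultGross.Field
import Cfsg.Agent.Fusion.Critical

/-!
The two-layer argument in group form, and the abelian case of Shult's theorem for the prime two.
-/

set_option autoImplicit false

open Subgroup
open scoped commutatorElement IsMulCommutative

namespace Cfsg.Agent.ShultGross

open Cfsg.Agent.HallHigman

variable {X : Type*} [Group X] [Finite X]

section Closed

variable {K : Type*} [Field K] [IsAlgClosed K] {V : Type*} [AddCommGroup V] [Module K V] [FiniteDimensional K V]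

/-- The two-layer argument for any representation. -/
theorem commutator_acts_trivially {q s n : ℕ} [hq : Fact q.Prime] [hs : Fact s.Prime] (hq2 : q ≠ 2)
    (hs2 : s ≠ 2) (hqs : q ≠ s) (hn : 1 ≤ n) (h2K : (2 : K) ≠ 0) (hsK : (s : K) ≠ 0)
    (ρ : X →* Module.End K V) {T Q : Subgroup X} (hT : IsPGroup s T) (hQ : IsPGroup q Q) {x : X}
    (hxT : x ∈ normalizer (T : Set X)) (hxQ : x ∈ normalizer (Q : Set X))
    (hQT : Q ≤ normalizer (T : Set X)) (hxn : ρ (x ^ 2 ^ n) = 1)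
    (hQσ : ⁅Q, zpowers (x ^ 2 ^ (n - 1))⁆ = Q) (hfix : ∀ v : V, ρ x v = v → v = 0) {c : X} (hc : c ∈ Q)
    (hcσ : ∀ t ∈ T, ρ ⁅⁅x ^ 2 ^ (n - 1), c⁆, t⁆ = 1)
    (hcQ : ∀ a ∈ Q, ∀ t ∈ T, ρ ⁅⁅a, c⁆, t⁆ = 1) : ∀ t ∈ T, ρ ⁅c, t⁆ = 1 := by
  classical
  set σ := x ^ 2 ^ (n - 1) with hσ
  set N := normalizer (T : Set X) with hN
  set ρN := ρ.comp N.subtype with hρN
  set f := QuotientGroup.mk' ρN.ker with hf
  set ρ' := QuotientGroup.lift ρN.ker ρN le_rfl with hρ'
  have hρ'f : ∀ g : N, ρ' (f g) = ρ (g : X) := fun g => rfl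
  have hinj : Function.Injective ρ' := by
    intro u v huv
    obtain ⟨u, rfl⟩ := QuotientGroup.mk'_surjective ρN.ker u
    obtain ⟨v, rfl⟩ := QuotientGroup.mk'_surjective ρN.ker v
    replace huv : ρN u = ρN v := huv
    refine QuotientGroup.eq.2 (MonoidHom.mem_ker.2 ?_)
    rw [map_mul, ← huv, ← map_mul, inv_mul_cancel, map_one]
  have hTN : T ≤ N := le_normalizer
  set T1 := (T.subgroupOf N).map f with hT1
  haveI : (T.subgroupOf N).Normal := normal_in_normalizer
  haveI hT1n : T1.Normal := Subgroup.Normal.map inferInstance f (QuotientGroup.mk'_surjective _)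
  have hT1p : IsPGroup s T1 := hT.comap_subtype.map f
  set Q1 := (Q.subgroupOf N).map f with hQ1
  have hQ1p : IsPGroup q Q1 := hQ.comap_subtype.map f
  set xN : N := ⟨x, hxT⟩ with hxN
  have hx1n : f xN ^ 2 ^ n = 1 := hinj (by rw [← map_pow f, hρ'f, map_one]; exact hxn)
  have hxQ1 : f xN ∈ normalizer (Q1 : Set (N ⧸ ρN.ker)) := by
    refine le_normalizer_map f ⟨xN, ?_, rfl⟩
    show xN ∈ normalizer ((Q.subgroupOf N : Subgroup N) : Set N)
    rw [mem_normalizer_iff]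
    intro a
    exact mem_normalizer_iff.1 hxQ a
  have hQ1σ : ⁅Q1, zpowers (f xN ^ 2 ^ (n - 1))⁆ = Q1 := by
    rw [hQ1, ← map_pow, ← MonoidHom.map_zpowers, ← map_commutator]
    congr 1
    apply map_injective N.subtype_injective
    rw [map_commutator, map_subgroupOf_eq_of_le hQT, MonoidHom.map_zpowers]
    exact hQσ
  -- a critical subgroup
  obtain ⟨H0, hH0c, hH0cl, hH0f, hH0T, hH0cen⟩ := Fusion.exists_critical (p := s) hT1p
  set H := H0.map T1.subtype with hH
  haveI hHn : H.Normal := ConjAct.normal_of_characteristic_of_normal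
  have hHT : H ≤ T1 := map_subtype_le _
  have hHp : IsPGroup s H := hT1p.to_le hHT
  set cN : N := ⟨c, hQT hc⟩ with hcN
  have hcentr : ∀ g : N, (∀ t ∈ T, ρ ⁅(g : X), t⁆ = 1) → f g ∈ centralizer (T1 : Set (N ⧸ ρN.ker)) := by
    intro g hg
    rw [mem_centralizer_iff]
    rintro _ ⟨t, ht, rfl⟩
    refine (commutatorElement_eq_one_iff_mul_comm.1 ?_).symm
    rw [← map_commutatorElement]
    exact hinj ((hρ'f _).trans ((hg t ht).trans (map_one ρ').symm))
  have hH0mem : ∀ {a : T1}, (a : N ⧸ ρN.ker) ∈ H → a ∈ H0 := by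
    rintro a ⟨b, hb, e⟩
    rwa [← show b = a from Subtype.ext e]
  have hcl : ∀ a ∈ H, ∀ b ∈ H, ∀ d ∈ H, Commute ⁅a, b⁆ d := by
    rintro _ ⟨a, ha, rfl⟩ _ ⟨b, hb, rfl⟩ _ ⟨d, hd, rfl⟩
    have h1 : ⁅(⟨a, ha⟩ : H0), ⟨b, hb⟩⁆ ∈ center H0 :=
      hH0cl (commutator_mem_commutator (mem_top _) (mem_top _))
    have h2 := congrArg Subtype.val (mem_center_iff.1 h1 ⟨d, hd⟩)
    exact (congrArg Subtype.val h2.symm : _)
  haveI := (hT1p.to_subgroup H0).isNilpotent
  have hpow : ∀ a ∈ H, ∀ d ∈ H, Commute (a ^ s) d := by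
    rintro _ ⟨a, ha, rfl⟩ _ ⟨d, hd, rfl⟩
    have h1 : ((⟨a, ha⟩ : H0) ^ s : H0).1 ∈ centralizer (H0 : Set T1) :=
      hH0f ⟨_, Core.pow_mem_frattini (hT1p.to_subgroup H0) _, rfl⟩
    have h2 := (mem_centralizer_iff.1 h1 d hd).symm
    exact (congrArg Subtype.val h2 : _)
  have hsub : centralizer (T1 : Set (N ⧸ ρN.ker)) ≤ centralizer (H : Set (N ⧸ ρN.ker)) := centralizer_le hHT
  have hmain : f cN ∈ centralizer (H : Set (N ⧸ ρN.ker)) := by
    refine mem_centralizer_core hq2 hs2 hqs hn h2K hsK ρ' hinj hHp hcl hpow hQ1p hx1n hxQ1 hQ1σ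
      (fun v hv => hfix v hv) ⟨cN, mem_subgroupOf.2 hc, rfl⟩ ?_ ?_
    · rw [← map_pow, ← map_commutatorElement]
      exact hsub (hcentr _ fun t ht => hcσ t ht)
    · rintro _ ⟨a, ha, rfl⟩
      rw [← map_commutatorElement]
      exact hsub (hcentr _ fun t ht => hcQ (a : X) ha t ht)
  -- from the critical subgroup to `T1`
  set A := zpowers (f cN) with hA
  have hAT : A ≤ normalizer (T1 : Set (N ⧸ ρN.ker)) := le_normalizer_of_normal
  have hAH : ⁅A, H⁆ = ⊥ := by
    rw [commutator_eq_bot_iff_le_centralizer, zpowers_le]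
    exact hmain
  have hTA : ⁅T1, A⁆ ≤ H := by
    have h0 : ⁅⁅T1, A⁆, H⁆ = ⊥ := by
      refine commutator_commutator_eq_bot_of_rotate ?_ ?_
      · rw [hAH, commutator_bot_left]
      · refine eq_bot_iff.2 (le_trans (commutator_mono (commutator_le_left H T1) le_rfl) ?_)
        rw [commutator_comm, hAH]
    rw [commutator_eq_bot_iff_le_centralizer] at h0
    intro g hg
    have hg1 : g ∈ T1 := Coprime.commutator_le_of_le_normalizer hAT hg
    have h2 : (⟨g, hg1⟩ : T1) ∈ centralizer (H0 : Set T1) := by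
      rw [mem_centralizer_iff]
      intro b hb
      exact Subtype.ext (mem_centralizer_iff.1 (h0 hg) b ⟨b, hb, rfl⟩)
    exact ⟨_, hH0cen h2, rfl⟩
  have hbot : ⁅T1, A⁆ = ⊥ := by
    rw [← Coprime.commutator_commutator_eq hAT ?_ (Or.inl inferInstance)]
    · refine eq_bot_iff.2 (le_trans (commutator_mono hTA le_rfl) ?_)
      rw [commutator_comm, hAH]
    · obtain ⟨j, hj⟩ := IsPGroup.iff_card.1 (hQ1p.to_le (zpowers_le.2
        (⟨cN, mem_subgroupOf.2 hc, rfl⟩ : f cN ∈ Q1)))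
      obtain ⟨l, hl⟩ := IsPGroup.iff_card.1 hT1p
      rw [hA, hj, hl]
      exact ((Nat.coprime_primes hq.out hs.out).2 hqs).pow j l
  intro t ht
  have h1 : ⁅f (⟨t, hTN ht⟩ : N), f cN⁆ = 1 :=
    mem_bot.1 (hbot ▸ commutator_mem_commutator ⟨_, mem_subgroupOf.2 ht, rfl⟩ (mem_zpowers _))
  rw [← commutatorElement_inv, inv_eq_one, ← map_commutatorElement] at h1
  exact (hρ'f _).symm.trans ((congrArg ρ' h1).trans (map_one ρ'))

/-- An abelian operator group: the involution of the cyclic 2-group acts trivially. -/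
theorem commute_of_abelian {q n : ℕ} [hq : Fact q.Prime] (hn : 1 ≤ n) (hqK : (q : K) ≠ 0)
    (ρ : X →* Module.End K V) {Q : Subgroup X} (hQ : IsPGroup q Q) {x : X} (hxQ : x ∈ normalizer (Q : Set X))
    (hxn : ρ (x ^ 2 ^ n) = 1) (hab : ∀ a ∈ Q, ∀ b ∈ Q, Commute (ρ a) (ρ b))
    (hfix : ∀ v : V, ρ x v = v → v = 0) : ∀ a ∈ Q, Commute (ρ (x ^ 2 ^ (n - 1))) (ρ a) := by
  classical
  set σ := x ^ 2 ^ (n - 1) with hσ
  set N := normalizer (Q : Set X) with hN
  set ρN := ρ.comp N.subtype with hρN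
  set Q1 := Q.subgroupOf N with hQ1
  haveI hQ1n : Q1.Normal := normal_in_normalizer
  set xN : N := ⟨x, hxQ⟩ with hxN
  by_contra hcon
  push Not at hcon
  obtain ⟨a, ha, hne⟩ := hcon
  have hσN : σ ∈ N := pow_mem hxQ _
  let b : Q1 := ⟨⁅xN ^ 2 ^ (n - 1), ⟨a, le_normalizer ha⟩⁆, mem_subgroupOf.2 (by
    show ⁅σ, a⁆ ∈ Q
    rw [commutatorElement_def]
    exact mul_mem ((mem_normalizer_iff.1 hσN a).1 ha) (inv_mem ha))⟩
  set τ := ρN.comp Q1.subtype with hτ
  have hb : τ b ≠ 1 := by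
    intro h
    refine hne ?_
    have h1 : ρ ⁅σ, a⁆ = 1 := h
    show ρ σ * ρ a = ρ a * ρ σ
    rw [← map_mul, ← map_mul, show σ * a = ⁅σ, a⁆ * (a * σ) by rw [commutatorElement_def]; group, map_mul, h1,
      one_mul]
  haveI : Nontrivial V := by
    by_contra hV
    rw [not_nontrivial_iff_subsingleton] at hV
    exact hb (LinearMap.ext fun v => Subsingleton.elim _ _)
  haveI := Fintype.ofFinite Q1
  have hcard : (Fintype.card Q1 : K) ≠ 0 := by
    obtain ⟨j, hj⟩ := IsPGroup.iff_card.1 (hQ.comap_subtype : IsPGroup q Q1)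
    rw [← Nat.card_eq_fintype_card, show Nat.card Q1 = q ^ j from hj, Nat.cast_pow]
    exact pow_ne_zero j hqK
  obtain ⟨W, hW, w₁, hw₁, hw₁ne⟩ := exists_simple_nontrivial (τ := τ) hcard hb
  haveI : Nontrivial W := Submodule.nontrivial_iff_ne_bot.2 hW.1
  have hnorm : ∀ g : N, g ∈ normalizer (Q1 : Set N) := fun g => by
    rw [normalizer_eq_top_iff.mpr hQ1n]; exact mem_top _
  have hmapmul : ∀ (g g' : N) (U : Submodule K V), U.map (ρN (g * g')) = (U.map (ρN g')).map (ρN g) :=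
    fun g g' U => by rw [map_mul, Module.End.mul_eq_comp, Submodule.map_comp]
  have hmap1 : ∀ U : Submodule K V, U.map (ρN 1) = U := fun U => by
    rw [map_one, Module.End.one_eq_id, Submodule.map_id]
  have hx1 : ∀ v : V, ρN (xN ^ 2 ^ n) v = v := fun v => by
    show ρ (x ^ 2 ^ n) v = v
    rw [hxn, Module.End.one_apply]
  have hmapx : W.map (ρN (xN ^ 2 ^ n)) = W := by
    rw [show ρN (xN ^ 2 ^ n) = LinearMap.id from LinearMap.ext hx1, Submodule.map_id]
  let S : Subgroup N :=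
    { carrier := {g | Isom τ W (W.map (ρN g))}
      mul_mem' := fun {g g'} hg hg' => by
        show Isom τ W (W.map (ρN (g * g')))
        rw [hmapmul]
        exact hg.trans (isom_map_of_mem ρN (hnorm g) hg')
      one_mem' := by
        show Isom τ W (W.map (ρN 1))
        rw [hmap1]
        exact Isom.refl W
      inv_mem' := fun {g} hg => by
        show Isom τ W (W.map (ρN g⁻¹))
        have h1 := isom_map_of_mem ρN (hnorm g⁻¹) hg
        rw [← hmapmul, inv_mul_cancel, hmap1] at h1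
        exact h1.symm (simple_map_of_mem ρN (hnorm g⁻¹) hW).2.1 }
  have hxnS : xN ^ 2 ^ n ∈ S := by
    show Isom τ W (W.map (ρN (xN ^ 2 ^ n)))
    rw [hmapx]
    exact Isom.refl W
  have hex : ∃ i, xN ^ 2 ^ i ∈ S := ⟨n, hxnS⟩
  set i := Nat.find hex with hi
  have hin : i ≤ n := Nat.find_min' hex hxnS
  have hσS : xN ^ 2 ^ (n - 1) ∈ S := by
    rcases eq_or_lt_of_le hin with hin' | hin'
    · exfalso
      obtain ⟨w, hw, hw0⟩ := Submodule.exists_mem_ne_zero_of_ne_bot hW.1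
      obtain ⟨v, hv0, hv⟩ := exists_fixed_of_orbit ρN (x := xN) (N := 2 ^ i) (pow_pos (by norm_num) i) hW (by
        intro d hd hdi hmem
        obtain ⟨t, -, hg⟩ := (Nat.dvd_prime_pow Nat.prime_two).1 (Nat.gcd_dvd_right d (2 ^ n))
        have hti : t < i := by
          by_contra hcon'
          have h3 := Nat.le_of_dvd hd (hg ▸ Nat.gcd_dvd_left d (2 ^ n))
          have h4 : 2 ^ i ≤ 2 ^ t := Nat.pow_le_pow_right (by norm_num) (by omega)
          omega
        refine Nat.find_min hex hti ?_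
        have h5 : xN ^ 2 ^ t = (xN ^ d) ^ (Nat.gcdA d (2 ^ n)) * (xN ^ 2 ^ n) ^ (Nat.gcdB d (2 ^ n)) := by
          rw [← zpow_natCast xN d, ← zpow_natCast xN (2 ^ n), ← zpow_mul, ← zpow_mul, ← zpow_add,
            ← zpow_natCast xN]
          congr 1
          have h6 := Nat.gcd_eq_gcd_ab d (2 ^ n)
          rw [hg] at h6
          rw [h6]
        rw [h5]
        exact mul_mem (zpow_mem (show xN ^ d ∈ S from hmem) _) (zpow_mem hxnS _)) hw hw0 (by rw [hin']; exact hx1 w)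
      exact hv0 (hfix v hv)
    · rw [show 2 ^ (n - 1) = 2 ^ i * 2 ^ (n - 1 - i) by rw [← pow_add]; congr 1; omega, pow_mul]
      exact pow_mem (Nat.find_spec hex) _
  -- `W` is a character
  have hsimple : Irred ({ toFun := fun g => (τ g).restrict (fun v hv => hW.2.1 g v hv)
                          map_one' := LinearMap.ext fun v => Subtype.ext (by simp)
                          map_mul' := fun g g' => LinearMap.ext fun v => Subtype.ext (by simp) } :
      Q1 →* Module.End K W) := by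
    intro U' hU'
    rcases hW.2.2 (U'.map W.subtype) (Submodule.map_subtype_le _ _) (by
      rintro g _ ⟨v, hv, rfl⟩
      exact ⟨_, hU' g v hv, rfl⟩) with h | h
    · exact Or.inl (((Submodule.map_injective_of_injective W.injective_subtype).eq_iff' (Submodule.map_bot _)).1 h)
    · refine Or.inr (eq_top_iff.2 fun v _ => ?_)
      obtain ⟨v', hv', e⟩ := h.ge v.2
      exact (Subtype.ext e : v' = v) ▸ hv'
  have hscalar : ∀ g : Q1, ∃ l : K, ∀ v ∈ W, τ g v = l • v := by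
    intro g
    obtain ⟨l, hl⟩ := scalar_of_commute hsimple ((τ g).restrict (fun v hv => hW.2.1 g v hv)) (fun g' =>
      LinearMap.ext fun v => Subtype.ext
        (LinearMap.congr_fun (hab ((g : N) : X) g.2 ((g' : N) : X) g'.2).eq (v : V)))
    exact ⟨l, fun v hv => congrArg Subtype.val (LinearMap.congr_fun hl ⟨v, hv⟩)⟩
  set σN := xN ^ 2 ^ (n - 1) with hσN'
  obtain ⟨f, hf⟩ := (hσS : Isom τ W (W.map (ρN σN)))
  set aN : Q1 := ⟨⟨a, le_normalizer ha⟩, mem_subgroupOf.2 ha⟩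
  set a' : Q1 := ⟨σN * aN * σN⁻¹, hQ1n.conj_mem _ aN.2 σN⟩
  obtain ⟨l, hl⟩ := hscalar aN
  obtain ⟨l', hl'⟩ := hscalar a'
  obtain ⟨w₀, hw₀, hw₀0⟩ := Submodule.exists_mem_ne_zero_of_ne_bot hW.1
  have hll : l' = l := by
    have h1 := hf a' ⟨w₀, hw₀⟩ ⟨_, hW.2.1 a' w₀ hw₀⟩ rfl
    obtain ⟨u, hu, hue⟩ := (f ⟨w₀, hw₀⟩).2
    have h2 : τ a' (f ⟨w₀, hw₀⟩ : V) = l • (f ⟨w₀, hw₀⟩ : V) := by
      show ρN (σN * aN * σN⁻¹) (f ⟨w₀, hw₀⟩ : V) = _
      rw [← hue, ← Module.End.mul_apply, ← map_mul, inv_mul_cancel_right, map_mul, Module.End.mul_apply,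
        show ρN (aN : N) u = l • u from hl u hu, map_smul]
    rw [h2] at h1
    have h3 : (⟨_, hW.2.1 a' w₀ hw₀⟩ : W) = l • ⟨w₀, hw₀⟩ :=
      f.injective (Subtype.ext (h1.trans (by rw [map_smul]; rfl)))
    have h4 : τ a' w₀ = l • w₀ := congrArg Subtype.val h3
    exact smul_left_injective K hw₀0 ((hl' w₀ hw₀).symm.trans h4)
  refine hw₁ne ?_
  show ρN (σN * aN * σN⁻¹ * (aN : N)⁻¹) w₁ = w₁
  rw [map_mul, Module.End.mul_apply]
  have h5 : ρN (aN : N)⁻¹ w₁ ∈ W := hW.2.1 aN⁻¹ w₁ hw₁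
  rw [show ρN (σN * aN * σN⁻¹) (ρN (aN : N)⁻¹ w₁) = l' • ρN (aN : N)⁻¹ w₁ from hl' _ h5, hll]
  refine (hl _ h5).symm.trans ?_
  exact apply_inv_apply ρN (aN : N) w₁

end Closed

section GroupForm

/-- Linear extension to an algebraic closure of the conjugation action on an elementary abelian group. -/
theorem exists_closed_rep {V : Subgroup X} [V.Normal] [IsMulCommutative V] {r : ℕ} [hr : Fact r.Prime]
    (hexp : ∀ v ∈ V, v ^ r = 1) {x : X} (hfV : ∀ v ∈ V, Commute x v → v = 1) :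
    ∃ (d : ℕ) (ρ : X →* Module.End (AlgebraicClosure (ZMod r)) (Fin d → AlgebraicClosure (ZMod r))),
      (∀ g, ρ g = 1 ↔ g ∈ centralizer (V : Set X)) ∧ ∀ v, ρ x v = v → v = 0 := by
  classical
  haveI : Module (ZMod r) (Additive V) := AddCommGroup.zmodModule fun v =>
    Subtype.ext (hexp _ (Additive.toMul v).2)
  haveI : Finite (Additive V) := inferInstanceAs (Finite V)
  haveI : FiniteDimensional (ZMod r) (Additive V) := Module.Finite.of_finite
  let ρ : X →* Module.End (ZMod r) (Additive V) := FittingPQ.linAut.comp MulAut.conjNormal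
  have happ : ∀ (g : X) (v : V), ((Additive.toMul (ρ g (Additive.ofMul v)) : V) : X) = g * v * g⁻¹ :=
    fun g v => MulAut.conjNormal_apply g v
  have hone : ∀ g : X, ρ g = 1 ↔ g ∈ centralizer (V : Set X) := by
    intro g
    rw [mem_centralizer_iff]
    constructor
    · intro h v hv
      have h1 := happ g ⟨v, hv⟩
      rw [h] at h1
      exact (eq_mul_inv_iff_mul_eq.1 h1)
    · intro h
      refine LinearMap.ext fun w => ?_
      obtain ⟨v, rfl⟩ := Additive.ofMul.surjective w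
      refine Additive.toMul.injective (Subtype.ext ?_)
      rw [happ, ← h v v.2, mul_inv_cancel_right]
      rfl
  let bas := Module.finBasis (ZMod r) (Additive V)
  let k := AlgebraicClosure (ZMod r)
  let Φ : Module.End (ZMod r) (Additive V) →+*
      Module.End k (Fin (Module.finrank (ZMod r) (Additive V)) → k) :=
    (Matrix.toLinAlgEquiv' (R := k) (n := Fin (Module.finrank (ZMod r) (Additive V)))).toAlgHom.toRingHom.comp
      ((algebraMap (ZMod r) k).mapMatrix.comp (LinearMap.toMatrixAlgEquiv bas).toAlgHom.toRingHom)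
  have hΦ : Function.Injective Φ :=
    (Matrix.toLinAlgEquiv' (R := k) (n := Fin (Module.finrank (ZMod r) (Additive V)))).injective.comp
      ((Matrix.map_injective (algebraMap (ZMod r) k).injective).comp (LinearMap.toMatrixAlgEquiv bas).injective)
  refine ⟨_, Φ.toMonoidHom.comp ρ, fun g => ?_, fun v hv => ?_⟩
  · rw [← hone]
    exact ⟨fun h => hΦ (h.trans (map_one Φ).symm), fun h => (congrArg Φ h).trans (map_one Φ)⟩
  · have hu : IsUnit (ρ x - 1) := (Module.End.isUnit_iff _).2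
      (let hi := (injective_iff_map_eq_zero (ρ x - 1)).2 fun w hw => by
        obtain ⟨u, rfl⟩ := Additive.ofMul.surjective w
        have h1 := happ x u
        rw [sub_eq_zero.1 hw] at h1
        exact Additive.toMul.injective (Subtype.ext (hfV u u.2 (eq_mul_inv_iff_mul_eq.1 h1).symm))
       ⟨hi, LinearMap.injective_iff_surjective.1 hi⟩)
    refine ((Module.End.isUnit_iff _).1 (hu.map Φ)).1 ?_
    rw [map_sub, map_one, LinearMap.sub_apply, Module.End.one_apply, map_zero]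
    exact sub_eq_zero.2 hv

theorem natCast_closure_ne_zero {r m : ℕ} [hr : Fact r.Prime] (hm : m.Prime) (hne : r ≠ m) :
    (m : AlgebraicClosure (ZMod r)) ≠ 0 := fun h =>
  hne ((Nat.prime_dvd_prime_iff_eq hr.out hm).1 ((CharP.cast_eq_zero_iff _ r m).1 h))

/-- Two layers, in group form. -/
theorem commutator_mem_centralizer_two {V : Subgroup X} [V.Normal] [IsMulCommutative V] {q s r n : ℕ}
    [hq : Fact q.Prime] [hs : Fact s.Prime] [hr : Fact r.Prime] (hq2 : q ≠ 2) (hs2 : s ≠ 2) (hr2 : r ≠ 2)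
    (hqs : q ≠ s) (hrs : r ≠ s) (hexp : ∀ v ∈ V, v ^ r = 1) (hn : 1 ≤ n) {T Q : Subgroup X}
    (hT : IsPGroup s T) (hQ : IsPGroup q Q) {x : X} (hxT : x ∈ normalizer (T : Set X))
    (hxQ : x ∈ normalizer (Q : Set X)) (hQT : Q ≤ normalizer (T : Set X))
    (hxn : x ^ 2 ^ n ∈ centralizer (V : Set X)) (hQσ : ⁅Q, zpowers (x ^ 2 ^ (n - 1))⁆ = Q)
    (hfV : ∀ v ∈ V, Commute x v → v = 1) {c : X} (hc : c ∈ Q)
    (hcσ : ∀ t ∈ T, ⁅⁅x ^ 2 ^ (n - 1), c⁆, t⁆ ∈ centralizer (V : Set X))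
    (hcQ : ∀ a ∈ Q, ∀ t ∈ T, ⁅⁅a, c⁆, t⁆ ∈ centralizer (V : Set X)) :
    ∀ t ∈ T, ⁅c, t⁆ ∈ centralizer (V : Set X) := by
  obtain ⟨d, ρ, hone, hfix⟩ := exists_closed_rep hexp hfV
  intro t ht
  refine (hone _).1 (commutator_acts_trivially hq2 hs2 hqs hn
    (by exact_mod_cast natCast_closure_ne_zero (r := r) Nat.prime_two hr2) (natCast_closure_ne_zero hs.out hrs)
    ρ hT hQ hxT hxQ hQT ((hone _).2 hxn) hQσ hfix hc (fun t ht => (hone _).2 (hcσ t ht))
    (fun a ha t ht => (hone _).2 (hcQ a ha t ht)) t ht)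

/-- The abelian case, in group form. -/
theorem commutator_mem_centralizer_abelian {V : Subgroup X} [V.Normal] [IsMulCommutative V] {q r n : ℕ}
    [hq : Fact q.Prime] [hr : Fact r.Prime] (hrq : r ≠ q) (hexp : ∀ v ∈ V, v ^ r = 1) (hn : 1 ≤ n)
    {Q : Subgroup X} (hQ : IsPGroup q Q) {x : X} (hxQ : x ∈ normalizer (Q : Set X))
    (hxn : x ^ 2 ^ n ∈ centralizer (V : Set X))
    (hab : ∀ a ∈ Q, ∀ b ∈ Q, ⁅a, b⁆ ∈ centralizer (V : Set X))
    (hfV : ∀ v ∈ V, Commute x v → v = 1) :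
    ∀ a ∈ Q, ⁅x ^ 2 ^ (n - 1), a⁆ ∈ centralizer (V : Set X) := by
  obtain ⟨d, ρ, hone, hfix⟩ := exists_closed_rep hexp hfV
  have hcomm : ∀ g h : X, ρ ⁅g, h⁆ = 1 ↔ Commute (ρ g) (ρ h) := fun g h => by
    constructor
    · intro h1
      show ρ g * ρ h = ρ h * ρ g
      rw [← map_mul, ← map_mul, show g * h = ⁅g, h⁆ * (h * g) by rw [commutatorElement_def]; group, map_mul, h1,
        one_mul]
    · intro h1
      rw [commutatorElement_def, map_mul, map_mul, map_mul, h1.eq, mul_assoc _ (ρ g) _, ← map_mul, mul_inv_cancel,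
        map_one, mul_one, ← map_mul, mul_inv_cancel, map_one]
  intro a ha
  exact (hone _).1 ((hcomm _ _).2 (commute_of_abelian hn (natCast_closure_ne_zero hq.out hrq) ρ hQ hxQ
    ((hone _).2 hxn) (fun a ha b hb => (hcomm _ _).1 ((hone _).2 (hab a ha b hb))) hfix a ha))

end GroupForm

end Cfsg.Agent.ShultGross
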