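import Cfsg.Agent.ShultGross.Main
import Cfsg.Agent.ShultGross.TwoForm
import Cfsg.Agent.FixedPointFree.OrderFour

/-!
Gross's theorem on the Fitting height of a solvable group with a fixed-point-free automorphism of
2-power order.
-/

set_option autoImplicit false

open Subgroup
open scoped Pointwise
open scoped commutatorElement IsMulCommutative

namespace Cfsg.Agent.ShultGross

universe u

variable {Γ : Type u} [Group Γ] [Finite Γ]

omit [Finite Γ] in
theorem solvable_zpowers (g : Γ) : Group.IsSolvable (zpowers g) :=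
  Group.isSolvable_of_comm fun a b => setLike_mul_comm (s := zpowers g) a.2 b.2 |> Subtype.ext

theorem normalizer_commutator_zpowers {Q : Subgroup Γ} {x : Γ} (hxQ : x ∈ normalizer (Q : Set Γ)) (j : ℕ) :
    x ∈ normalizer ((⁅Q, zpowers (x ^ j)⁆ : Subgroup Γ) : Set Γ) := by
  rw [mem_normalizer_iff_map_conj_eq, Subgroup.map_commutator, mem_normalizer_iff_map_conj_eq.1 hxQ,
    MonoidHom.map_zpowers]
  congr 2
  show x * x ^ j * x⁻¹ = x ^ j
  rw [((Commute.refl x).pow_right j).eq, mul_inv_cancel_right]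

/-- Odd order: a fixed-point-free 2-element forces the cores at two to vanish. -/
theorem odd_card_of_fixed {G : Subgroup Γ} [G.Normal] {x : Γ} (hx : IsPGroup 2 (zpowers x))
    (hfix : G ⊓ centralizer ({x} : Set Γ) = ⊥) : ¬ 2 ∣ Nat.card G := by
  intro h2
  have hcop : (Nat.card (zpowers x)).Coprime (Nat.card G) :=
    FixedPointFree.coprime_of_fixed Nat.prime_two hx le_normalizer_of_normal
      (by rwa [FixedPointFree.centralizer_zpowers])
  haveI : Fact (Nat.Prime 2) := ⟨Nat.prime_two⟩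
  obtain ⟨l, hl⟩ := IsPGroup.iff_card.1 hx
  rcases Nat.eq_zero_or_pos l with rfl | hl0
  · rw [pow_zero, card_eq_one, zpowers_eq_bot] at hl
    subst hl
    have hG : G = ⊥ := eq_bot_iff.2 fun g hg => mem_bot.2 (eq_one_of_commute hfix hg (Commute.one_left g))
    rw [hG, card_bot] at h2
    exact Nat.prime_two.not_dvd_one h2
  · exact Nat.prime_two.not_dvd_one (hcop.gcd_eq_one ▸ Nat.dvd_gcd (hl ▸ dvd_pow_self 2 hl0.ne') h2)

/-- The involutory power acts trivially modulo the second Fitting subgroup. -/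
theorem commutator_mem_fitting_two {G : Subgroup Γ} [hGn : G.Normal] (hsolv : Group.IsSolvable G) {x : Γ}
    (hx : IsPGroup 2 (zpowers x)) (hfix : G ⊓ centralizer ({x} : Set Γ) = ⊥) {n : ℕ} (hn : 1 ≤ n)
    (hxn : x ^ 2 ^ n ∈ centralizer (G : Set Γ)) (F : Subgroup Γ) [F.Normal]
    (hF : F = (Cfsg.fittingSubgroup G).map G.subtype) :
    ∀ g ∈ G.map (QuotientGroup.mk' F), ⁅QuotientGroup.mk' F x ^ 2 ^ (n - 1), g⁆ ∈
      (Cfsg.fittingSubgroup (G.map (QuotientGroup.mk' F))).map (G.map (QuotientGroup.mk' F)).subtype := by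
  classical
  haveI : Fact (Nat.Prime 2) := ⟨Nat.prime_two⟩
  have hFG : F ≤ G := hF.trans_le (map_subtype_le _)
  set π := QuotientGroup.mk' F with hπ
  have hπker : π.ker = F := QuotientGroup.ker_mk' F
  set Gb := G.map π with hGb
  haveI hGbn : Gb.Normal := hGn.map π (QuotientGroup.mk'_surjective F)
  have hxb : IsPGroup 2 (zpowers (π x)) := by
    rw [← MonoidHom.map_zpowers]; exact hx.map π
  have hfixb := fixed_image π (hπker.trans_le hFG) hx hfix
  have hxnb : π x ^ 2 ^ n ∈ centralizer (Gb : Set (Γ ⧸ F)) := by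
    rw [mem_centralizer_iff]
    rintro _ ⟨g, hg, rfl⟩
    rw [← map_pow, ← map_mul, ← map_mul, mem_centralizer_iff.1 hxn g hg]
  refine commutator_mem_fitting_of (Core.isSolvable_map hsolv _) hxb hfixb hn hxnb
    fun q hq hq2 Q hQp hQG hxQ s hs hsq hs2 a ha => ?_
  haveI := Fact.mk hq
  haveI := Fact.mk hs
  set σb := π x ^ 2 ^ (n - 1) with hσb
  set Tb := core Gb s with hTb
  set CT := centralizer (Tb : Set (Γ ⧸ F)) with hCT
  haveI hCTn : CT.Normal := inferInstance
  by_contra hnot
  obtain ⟨Q1, hmin⟩ := (Set.toFinite {R : Subgroup (Γ ⧸ F) | R ≤ Q ∧ π x ∈ normalizer (R : Set (Γ ⧸ F)) ∧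
    ¬ ∀ b ∈ R, ⁅σb, b⁆ ∈ CT}).exists_minimal ⟨Q, le_rfl, hxQ, fun h => hnot (h a ha)⟩
  obtain ⟨hQ1Q, hxQ1, hns⟩ := hmin.1
  have hsmall : ∀ R : Subgroup (Γ ⧸ F), R ≤ Q1 → π x ∈ normalizer (R : Set (Γ ⧸ F)) → R ≠ Q1 →
      ∀ b ∈ R, ⁅σb, b⁆ ∈ CT := by
    intro R h1 h2 h3
    by_contra h4
    exact h3 (le_antisymm h1 (hmin.2 ⟨h1.trans hQ1Q, h2, h4⟩ h1))
  have hQ1p : IsPGroup q Q1 := hQp.to_le hQ1Q
  have hσx : σb ∈ zpowers (π x) := pow_mem (mem_zpowers _) _
  have hσQ1 : σb ∈ normalizer (Q1 : Set (Γ ⧸ F)) := pow_mem hxQ1 _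
  have hcopσ : (Nat.card (zpowers σb)).Coprime (Nat.card Q1) := by
    obtain ⟨j, hj⟩ := IsPGroup.iff_card.1 (hxb.to_le (zpowers_le.2 hσx))
    obtain ⟨l, hl⟩ := IsPGroup.iff_card.1 hQ1p
    rw [hj, hl]
    exact ((Nat.coprime_primes Nat.prime_two hq).2 (Ne.symm hq2)).pow j l
  -- `Q1` is its own commutator with the involutory power
  have hcomm : ⁅Q1, zpowers σb⁆ = Q1 := by
    by_contra hne
    have hR := hsmall _ (Coprime.commutator_le_of_le_normalizer (zpowers_le.2 hσQ1))
      (normalizer_commutator_zpowers hxQ1 _) hne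
    refine hns fun b hb => ?_
    set θ := QuotientGroup.mk' CT with hθ
    have h1 : ⁅(⁅Q1, zpowers σb⁆).map θ, (zpowers σb).map θ⁆ = ⊥ := by
      rw [commutator_eq_bot_iff_le_centralizer, MonoidHom.map_zpowers]
      rintro _ ⟨c, hc, rfl⟩
      rw [mem_centralizer_iff]
      intro z hz
      obtain ⟨j, rfl⟩ := mem_zpowers_iff.1 hz
      have h2 : Commute (θ σb) (θ c) := by
        rw [← commutatorElement_eq_one_iff_commute, ← map_commutatorElement]
        exact (QuotientGroup.eq_one_iff _).2 (hR c hc)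
      exact (h2.zpow_left j).eq
    rw [← map_commutator, Coprime.commutator_commutator_eq (zpowers_le.2 hσQ1) hcopσ
      (Or.inl (solvable_zpowers _)), Subgroup.map_eq_bot_iff, QuotientGroup.ker_mk'] at h1
    rw [← commutatorElement_inv]
    exact inv_mem (h1 (commutator_mem_commutator hb (mem_zpowers _)))
  have hQ1bot : Q1 ≠ ⊥ := fun h => hns fun b hb => by
    rw [h, mem_bot] at hb
    rw [hb, commutatorElement_one_right]
    exact one_mem _
  -- commutators of `Q1` are fixed and central modulo the centraliser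
  have hder : ∀ u ∈ Q1, ∀ v ∈ Q1, ⁅σb, ⁅u, v⁆⁆ ∈ CT := by
    intro u hu v hv
    have hlt := Coprime.commutator_lt_of_isPGroup hQ1p hQ1p le_normalizer hQ1bot
    refine hsmall _ hlt.le ?_ hlt.ne _ (commutator_mem_commutator hu hv)
    rw [mem_normalizer_iff_map_conj_eq, Subgroup.map_commutator, mem_normalizer_iff_map_conj_eq.1 hxQ1]
  have hcen : ∀ u ∈ Q1, ∀ v ∈ Q1, ∀ b ∈ Q1, ⁅b, ⁅u, v⁆⁆ ∈ CT := by
    intro u hu v hv b hb
    set θ := QuotientGroup.mk' CT with hθ
    have hcQ1 : ⁅u, v⁆ ∈ Q1 := by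
      rw [commutatorElement_def]
      exact mul_mem (mul_mem (mul_mem hu hv) (inv_mem hu)) (inv_mem hv)
    have hθcomm : ∀ {g h : Γ ⧸ F}, ⁅g, h⁆ ∈ CT ↔ θ g * θ h = θ h * θ g := fun {g h} => by
      rw [← commutatorElement_eq_one_iff_mul_comm, ← map_commutatorElement]
      exact (QuotientGroup.eq_one_iff _).symm
    have hns' : ¬ ∀ c ∈ Q1.map θ, θ σb * c = c * θ σb := fun h => hns fun c hc => hθcomm.2 (h _ ⟨c, hc, rfl⟩)
    have hσ2 : θ σb ^ 2 ^ 1 = 1 := by
      rw [pow_one, hσb, ← map_pow, ← pow_mul, ← pow_succ, show n - 1 + 1 = n by omega]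
      exact (QuotientGroup.eq_one_iff _).2 (centralizer_le (core_le Gb s) hxnb)
    refine hθcomm.2 ?_
    refine (HallHigman.central_of_minimal (p := 2) (q := q) (Ne.symm hq2) (hQ1p.map θ) (x := θ (π x))
      (σ := θ σb) (by rw [hσb, map_pow]; exact pow_mem (mem_zpowers _) _)
      (le_normalizer_map θ ⟨_, hxQ1, rfl⟩) hσ2 hns' ?_ ⟨_, hcQ1, rfl⟩ (hθcomm.1 (hder u hu v hv))
      (θ b) ⟨b, hb, rfl⟩).symm
    intro R hR hxR hnsR
    have hR' : (Q1 ⊓ R.comap θ).map θ = R := by
      refine le_antisymm ?_ fun r hr => ?_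
      · rintro _ ⟨c, hc, rfl⟩; exact hc.2
      · obtain ⟨c, hc, rfl⟩ := hR hr
        exact ⟨c, ⟨hc, hr⟩, rfl⟩
    by_contra hne
    refine hnsR ?_
    rw [← hR']
    rintro _ ⟨c, hc, rfl⟩
    refine hθcomm.1 (hsmall (Q1 ⊓ R.comap θ) inf_le_left ?_ (fun h => hne ?_) c hc)
    · refine (Coprime.le_normalizer_inf (A := zpowers (π x)) (zpowers_le.2 hxQ1) (zpowers_le.2 ?_)) (mem_zpowers _)
      rw [mem_normalizer_iff]
      intro c
      rw [mem_comap, mem_comap, map_mul, map_mul, map_inv]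
      exact mem_normalizer_iff.1 hxR (θ c)
    · rw [← hR', h]
  -- lifts
  have hcop : (Nat.card (zpowers x)).Coprime (Nat.card G) :=
    FixedPointFree.coprime_of_fixed Nat.prime_two hx le_normalizer_of_normal
      (by rwa [FixedPointFree.centralizer_zpowers])
  set H := G ⊓ Tb.comap π with hH
  haveI : (Tb.comap π).Normal := (core_normal Gb s).comap π
  haveI hHn : H.Normal := Subgroup.normal_inf_normal _ _
  have hHmap : H.map π = Tb := by
    refine le_antisymm ?_ fun b hb => ?_
    · rintro _ ⟨c, hc, rfl⟩; exact hc.2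
    · obtain ⟨c, hc, rfl⟩ := core_le Gb s hb
      exact ⟨c, ⟨hc, hb⟩, rfl⟩
  obtain ⟨T, hTp, hTH, hxT', hTmap, hTmax⟩ := exists_invariant_lift π (core_isPGroup Gb s) hHmap
    le_normalizer_of_normal (hcop.coprime_dvd_right (card_dvd_of_le inf_le_left)) (solvable_zpowers x)
  have hxT : x ∈ normalizer (T : Set Γ) := hxT' (mem_zpowers x)
  set Hq := (G ⊓ normalizer (T : Set Γ)) ⊓ Q1.comap π with hHq
  have hHqmap : Hq.map π = Q1 := by
    refine le_antisymm ?_ fun b hb => ?_
    · rintro _ ⟨c, hc, rfl⟩; exact hc.2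
    · obtain ⟨g, hg, rfl⟩ := hQG (hQ1Q hb)
      have hgT : MulAut.conj g • T ≤ H := by
        rw [Coprime.conj_smul_eq_map]
        rintro _ ⟨t, ht, rfl⟩
        exact hHn.conj_mem t (hTH ht) g
      -- both lifts are Sylow subgroups of `H`
      have hsyl : ∀ R : Subgroup Γ, R ≤ H → IsPGroup s R → Nat.card T ≤ Nat.card R →
          ∃ h ∈ H, MulAut.conj h • R = T := by
        intro R hRH hRp hRc
        have hTS : IsPGroup s (T.subgroupOf H) := hTp.comap_subtype
        have hRS : IsPGroup s (R.subgroupOf H) := hRp.comap_subtype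
        obtain ⟨P, hP⟩ := hTS.exists_le_sylow
        obtain ⟨P', hP'⟩ := hRS.exists_le_sylow
        have hFH : F ≤ H := le_inf hFG fun c hc => by
          show π c ∈ Tb
          rw [show π c = 1 from (QuotientGroup.eq_one_iff c).2 hc]
          exact one_mem _
        have hTfull : (P : Subgroup H).map H.subtype ≤ T := by
          -- a Sylow subgroup over `T` is covered by `T` and the normal core
          intro c hc
          obtain ⟨c, hc, rfl⟩ := hc
          obtain ⟨t, ht, hte⟩ := hTmap.ge ((c : H).2.2)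
          have h1 : (c : Γ) * t⁻¹ ∈ F := by
            rw [← hπker, MonoidHom.mem_ker, map_mul, map_inv, hte]
            exact mul_inv_cancel _
          have hPt : (⟨t, hTH ht⟩ : H) ∈ (P : Subgroup H) := hP (mem_subgroupOf.2 ht)
          have hz : (c : H) * (⟨t, hTH ht⟩ : H)⁻¹ ∈ (P : Subgroup H) := (P : Subgroup H).mul_mem hc (inv_mem hPt)
          obtain ⟨e, he⟩ := IsPGroup.iff_orderOf.1 P.2 ⟨_, hz⟩
          obtain ⟨Ns, hNsn, hNsF, hNsp, hNsmax⟩ := CoprimeFitting.exists_sylow_normal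
            (T := F) (by rw [hF]; exact Core.isNilpotent_map Core.fittingSubgroup_isNilpotent _) s
          have h2 : (c : Γ) * t⁻¹ ∈ Ns := hNsmax _ h1 e (by
            have h5 : (⟨_, hz⟩ : (P : Subgroup H)) ^ s ^ e = 1 := by rw [← he, pow_orderOf_eq_one]
            exact congrArg (fun z : (P : Subgroup H) => ((z : H) : Γ)) h5)
          have h3 := T.mul_mem (hTmax Ns hNsn (hNsF.trans hFH) hNsp h2) ht
          simpa using h3
        obtain ⟨h, hh⟩ := MulAction.exists_smul_eq H P' P
        refine ⟨h, h.2, eq_of_le_of_card_ge ?_ ?_⟩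
        · rw [Coprime.conj_smul_eq_map]
          rintro _ ⟨r, hr, rfl⟩
          have h4 : MulAut.conj h (⟨r, hRH hr⟩ : H) ∈ (P : Subgroup H) := by
            rw [← hh]
            exact ⟨⟨r, hRH hr⟩, hP' (mem_subgroupOf.2 hr), rfl⟩
          exact hTfull ⟨_, h4, rfl⟩
        · rw [Coprime.card_conj_smul]
          exact hRc
      obtain ⟨h, hh, hhe⟩ := hsyl _ hgT (by
        rw [Coprime.conj_smul_eq_map]; exact hTp.map _) (Coprime.card_conj_smul g T).ge
      rw [← Coprime.conj_mul_smul] at hhe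
      have hn' : h * g ∈ G ⊓ normalizer (T : Set Γ) :=
        ⟨G.mul_mem hh.1 hg, Coprime.mem_normalizer_of_conj_smul_eq hhe⟩
      obtain ⟨t, ht, hte⟩ := hTmap.ge hh.2
      refine ⟨t⁻¹ * (h * g), ⟨?_, ?_⟩, ?_⟩
      · exact ⟨G.mul_mem (G.inv_mem (hTH ht).1) hn'.1, Subgroup.mul_mem _ (Subgroup.inv_mem _ (le_normalizer ht)) hn'.2⟩
      · show π (t⁻¹ * (h * g)) ∈ Q1
        rw [map_mul, map_mul, map_inv, hte, inv_mul_cancel_left]
        exact hb
      · rw [map_mul, map_mul, map_inv, hte, inv_mul_cancel_left]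
  have hxHq : zpowers x ≤ normalizer (Hq : Set Γ) := by
    refine Coprime.le_normalizer_inf (Coprime.le_normalizer_inf le_normalizer_of_normal
      ((zpowers_le.2 hxT).trans le_normalizer)) (zpowers_le.2 ?_)
    rw [mem_normalizer_iff]
    intro c
    rw [mem_comap, mem_comap, map_mul, map_mul, map_inv]
    exact mem_normalizer_iff.1 hxQ1 (π c)
  obtain ⟨Q2, hQ2p, hQ2H, hxQ2', hQ2map, -⟩ := exists_invariant_lift π hQ1p hHqmap hxHq
    (hcop.coprime_dvd_right (card_dvd_of_le (inf_le_left.trans inf_le_left))) (solvable_zpowers x)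
  have hxQ2 : x ∈ normalizer (Q2 : Set Γ) := hxQ2' (mem_zpowers x)
  set σ := x ^ 2 ^ (n - 1) with hσ
  have hσQ2 : zpowers σ ≤ normalizer (Q2 : Set Γ) := zpowers_le.2 (pow_mem hxQ2 _)
  set Q3 := ⁅Q2, zpowers σ⁆ with hQ3
  have hQ32 : Q3 ≤ Q2 := Coprime.commutator_le_of_le_normalizer hσQ2
  have hQ3map : Q3.map π = Q1 := by
    rw [hQ3, Subgroup.map_commutator, hQ2map, MonoidHom.map_zpowers, hσ, map_pow]
    exact hcomm
  have hQ3σ : ⁅Q3, zpowers σ⁆ = Q3 := by
    refine Coprime.commutator_commutator_eq hσQ2 ?_ (Or.inl (solvable_zpowers _))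
    exact (hcop.coprime_dvd_left (card_dvd_of_le (zpowers_le.2 (pow_mem (mem_zpowers x) _)))).coprime_dvd_right
      (card_dvd_of_le (hQ2H.trans (inf_le_left.trans inf_le_left)))
  have hQ3T : Q3 ≤ normalizer (T : Set Γ) := fun c hc => (hQ2H (hQ32 hc)).1.2
  have hσT : σ ∈ normalizer (T : Set Γ) := pow_mem hxT _
  have hxQ3 : x ∈ normalizer (Q3 : Set Γ) := normalizer_commutator_zpowers hxQ2 _
  -- commutators of `Q1` centralise the core
  have habel : ∀ u ∈ Q1, ∀ v ∈ Q1, ⁅u, v⁆ ∈ CT := by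
    intro u hu v hv
    obtain ⟨u', hu', rfl⟩ := hQ3map.ge hu
    obtain ⟨v', hv', rfl⟩ := hQ3map.ge hv
    rw [← map_commutatorElement, hCT, mem_centralizer_iff]
    intro tb htb
    obtain ⟨t, ht, rfl⟩ := hTmap.ge htb
    set c := ⁅u', v'⁆ with hc
    have hcQ3 : c ∈ Q3 := by
      rw [hc, commutatorElement_def]
      exact mul_mem (mul_mem (mul_mem hu' hv') (inv_mem hu')) (inv_mem hv')
    have hTN : ∀ {g : Γ}, g ∈ normalizer (T : Set Γ) → ∀ t ∈ T, ⁅g, t⁆ ∈ T := fun {g} hg t ht => by
      rw [commutatorElement_def]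
      exact mul_mem ((mem_normalizer_iff.1 hg t).1 ht) (inv_mem ht)
    have hz : ⁅c, t⁆ ∈ T := hTN (hQ3T hcQ3) t ht
    have hHle : H ≤ (Cfsg.fittingSubgroup G).map G.subtype ⊔ T := by
      intro h hh
      obtain ⟨a, ha, hae⟩ := hTmap.ge hh.2
      have h1 : h * a⁻¹ ∈ F := by
        rw [← hπker, MonoidHom.mem_ker, map_mul, map_inv, hae, mul_inv_cancel]
      rw [show h = (h * a⁻¹) * a by group]
      exact mul_mem_sup (hF ▸ h1) ha
    have hOs : core G s ≤ T := hTmax _ inferInstance (le_inf (core_le G s) fun g hg => by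
      show π g ∈ Tb
      rw [show π g = 1 from (QuotientGroup.eq_one_iff g).2 (hF ▸ core_le_fitting s hg)]
      exact one_mem _) (core_isPGroup G s)
    have hzF : ⁅c, t⁆ ∈ F := by
      rw [hF]
      refine mem_fitting_of_centralizes (inf_le_left : H ≤ G) hTp hOs hHle (hTH hz) fun r hr hrs => ?_
      haveI := Fact.mk hr
      by_cases hr2 : r = 2
      · subst hr2
        have h1 : core G 2 = ⊥ := by
          obtain ⟨j, hj⟩ := IsPGroup.iff_card.1 (core_isPGroup G 2)
          rcases Nat.eq_zero_or_pos j with rfl | hj0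
          · exact card_eq_one.1 (by rw [hj, pow_zero])
          · exact absurd ((dvd_pow_self 2 hj0.ne').trans (hj ▸ card_dvd_of_le (core_le G 2)))
              (odd_card_of_fixed hx hfix)
        rw [h1, mem_centralizer_iff]
        intro b hb
        rw [mem_bot.1 hb, one_mul, mul_one]
      set Φ := (frattini (core G r)).map (core G r).subtype with hΦ
      haveI hΦn : Φ.Normal := ConjAct.normal_of_characteristic_of_normal
      set πr := QuotientGroup.mk' Φ with hπr
      have hkr : πr.ker ≤ G := by rw [QuotientGroup.ker_mk']; exact (map_subtype_le _).trans (core_le G r)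
      set V := (core G r).map πr with hV
      haveI : V.Normal := (core_normal G r).map πr (QuotientGroup.mk'_surjective Φ)
      obtain ⟨hVc, hexp⟩ := core_image_props G r πr (QuotientGroup.ker_mk' Φ).ge
      haveI := hVc
      have hxnr : πr x ^ 2 ^ n ∈ centralizer (V : Set (Γ ⧸ Φ)) := by
        rw [mem_centralizer_iff]
        rintro _ ⟨b, hb, rfl⟩
        rw [← map_pow, ← map_mul, ← map_mul, mem_centralizer_iff.1 hxn b (core_le G r hb)]
      -- elements of `T` in the Fitting subgroup act trivially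
      have htriv : ∀ w ∈ T, π w = 1 → πr w ∈ centralizer (V : Set (Γ ⧸ Φ)) := by
        intro w hw hw1
        have hwF : w ∈ F := by rw [← hπker]; exact hw1
        obtain ⟨Ns, hNsn, -, hNsp, hNsmax⟩ := CoprimeFitting.exists_sylow_normal
          (T := F) (by rw [hF]; exact Core.isNilpotent_map Core.fittingSubgroup_isNilpotent _) s
        obtain ⟨e, he⟩ := hTp ⟨w, hw⟩
        have hwN : w ∈ Ns := hNsmax w hwF e (congrArg Subtype.val he)
        rw [mem_centralizer_iff]
        rintro _ ⟨b, hb, rfl⟩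
        rw [← map_mul, ← map_mul]
        exact congrArg πr (Subgroup.commute_of_normal_of_disjoint _ _ (core_normal G r) hNsn
          (IsPGroup.disjoint_of_ne r s hrs _ _ (core_isPGroup G r) hNsp) b w hb hwN).eq
      have hcTb : ∀ {g : Γ}, g ∈ normalizer (T : Set Γ) → π g ∈ CT → ∀ t ∈ T,
          πr ⁅g, t⁆ ∈ centralizer (V : Set (Γ ⧸ Φ)) := fun {g} hg hgC t ht => by
        refine htriv _ (hTN hg t ht) ?_
        rw [map_commutatorElement, commutatorElement_eq_one_iff_mul_comm]
        exact (mem_centralizer_iff.1 hgC (π t) (hTmap.le ⟨t, ht, rfl⟩)).symm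
      have hmain := commutator_mem_centralizer_two (V := V) (q := q) (s := s) hq2 hs2 hr2 (Ne.symm hsq) hrs hexp hn
        (hTp.map πr) ((hQ2p.to_le hQ32).map πr) (le_normalizer_map πr ⟨x, hxT, rfl⟩)
        (le_normalizer_map πr ⟨x, hxQ3, rfl⟩) ((map_mono hQ3T).trans (le_normalizer_map πr)) hxnr
        (by rw [← map_pow, ← MonoidHom.map_zpowers, ← map_commutator, hQ3σ])
        (fun b hb => eq_one_of_commute (fixed_image πr hkr hx hfix) (map_mono (core_le G r) hb))
        ⟨c, hcQ3, rfl⟩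
        (by
          rintro _ ⟨t', ht', rfl⟩
          rw [← map_pow, ← map_commutatorElement, ← map_commutatorElement]
          refine hcTb ?_ ?_ t' ht'
          · rw [commutatorElement_def]
            exact mul_mem (mul_mem (mul_mem hσT (hQ3T hcQ3)) (inv_mem hσT)) (inv_mem (hQ3T hcQ3))
          · rw [map_commutatorElement, map_pow, hc, map_commutatorElement]
            exact hder _ hu _ hv)
        (by
          rintro _ ⟨b, hb, rfl⟩ _ ⟨t', ht', rfl⟩
          rw [← map_commutatorElement, ← map_commutatorElement]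
          refine hcTb ?_ ?_ t' ht'
          · rw [commutatorElement_def]
            exact mul_mem (mul_mem (mul_mem (hQ3T hb) (hQ3T hcQ3)) (inv_mem (hQ3T hb))) (inv_mem (hQ3T hcQ3))
          · rw [map_commutatorElement, hc, map_commutatorElement]
            exact hcen _ hu _ hv _ (hQ3map.le ⟨b, hb, rfl⟩))
        (πr t) ⟨t, ht, rfl⟩
      rw [← map_commutatorElement] at hmain
      refine mem_centralizer_core_of_frattini hrs hTp hz fun b hb => ?_
      rw [← QuotientGroup.eq_one_iff (N := Φ)]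
      show πr _ = 1
      rw [map_commutatorElement, commutatorElement_eq_one_iff_mul_comm]
      exact (mem_centralizer_iff.1 hmain (πr b) ⟨b, hb, rfl⟩).symm
    have h3 : π ⁅c, t⁆ = 1 := (QuotientGroup.eq_one_iff _).2 hzF
    rw [map_commutatorElement, commutatorElement_eq_one_iff_mul_comm] at h3
    exact h3.symm
  -- the abelian case
  refine hns fun b hb => ?_
  set Φ := (frattini Tb).map Tb.subtype with hΦ
  haveI hΦn : Φ.Normal := ConjAct.normal_of_characteristic_of_normal
  set πs := QuotientGroup.mk' Φ with hπs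
  have hks : πs.ker ≤ Gb := by rw [QuotientGroup.ker_mk']; exact (map_subtype_le _).trans (core_le Gb s)
  set V := Tb.map πs with hV
  haveI : V.Normal := (core_normal Gb s).map πs (QuotientGroup.mk'_surjective Φ)
  obtain ⟨hVc, hexp⟩ := core_image_props Gb s πs (QuotientGroup.ker_mk' Φ).ge
  haveI := hVc
  have hCTV : ∀ {g : Γ ⧸ F}, g ∈ CT → πs g ∈ centralizer (V : Set ((Γ ⧸ F) ⧸ Φ)) := fun {g} hg => by
    rw [mem_centralizer_iff]
    rintro _ ⟨c, hc, rfl⟩
    rw [← map_mul, ← map_mul, mem_centralizer_iff.1 hg c hc]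
  have hmain := commutator_mem_centralizer_abelian (V := V) (q := q) hsq hexp hn (hQ1p.map πs)
    (le_normalizer_map πs ⟨_, hxQ1, rfl⟩)
    (by rw [← map_pow]; exact hCTV (centralizer_le (core_le Gb s) hxnb))
    (by
      rintro _ ⟨u, hu, rfl⟩ _ ⟨v, hv, rfl⟩
      rw [← map_commutatorElement]
      exact hCTV (habel u hu v hv))
    (fun v hv => eq_one_of_commute (fixed_image πs hks hxb hfixb) (map_mono (core_le Gb s) hv))
    (πs b) ⟨b, hb, rfl⟩
  rw [← map_pow, ← map_commutatorElement] at hmain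
  refine mem_centralizer_core_of_frattini hsq hQ1p ?_ fun c hc => ?_
  · rw [commutatorElement_def]
    exact mul_mem ((mem_normalizer_iff.1 hσQ1 b).1 hb) (inv_mem hb)
  · rw [← QuotientGroup.eq_one_iff (N := Φ)]
    show πs _ = 1
    rw [map_commutatorElement, commutatorElement_eq_one_iff_mul_comm]
    exact (mem_centralizer_iff.1 hmain (πs c) ⟨c, hc, rfl⟩).symm

/-- **Gross's theorem**, inside an ambient group. -/
theorem ser_eq_bot_two : ∀ (n : ℕ), ∀ {Γ : Type u} [Group Γ] [Finite Γ] (G : Subgroup Γ) [G.Normal],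
    Group.IsSolvable G → ∀ x : Γ, IsPGroup 2 (zpowers x) → G ⊓ centralizer ({x} : Set Γ) = ⊥ →
    x ^ 2 ^ (n + 2) ∈ centralizer (G : Set Γ) → CoprimeFitting.ser G (2 * (n + 1)) = ⊥ := by
  haveI : Fact (Nat.Prime 2) := ⟨Nat.prime_two⟩
  intro n
  induction n with
  | zero =>
    intro Γ _ _ G hGn hsolv x hx hfix hxn
    let α : MulAut G := MulAut.conjNormal x
    have hα4 : α ^ 4 = 1 := by
      refine MulEquiv.ext fun g => Subtype.ext ?_
      show (((MulAut.conjNormal x : MulAut G) ^ 4) g : Γ) = g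
      rw [← map_pow, MulAut.conjNormal_apply]
      have h := mem_centralizer_iff.1 hxn g g.2
      rw [show x ^ 4 = x ^ 2 ^ (0 + 2) by norm_num, ← h, mul_inv_cancel_right]
    have hαf : ∀ g, α g = g → g = 1 := fun g hg => Subtype.ext (eq_one_of_commute hfix g.2 (by
      have h := congrArg Subtype.val hg
      rw [MulAut.conjNormal_apply] at h
      exact mul_inv_eq_iff_eq_mul.1 h))
    have hnil := FixedPointFree.isNilpotent_commutator_aux (Nat.card G) G le_rfl hsolv α hα4 hαf
    have h1 : CoprimeFitting.ser G 1 ≤ (commutator G).map G.subtype := by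
      refine (CoprimeFitting.ser_le_derived G 0).trans (le_of_eq ?_)
      rw [_root_.commutator_def, Subgroup.map_commutator, ← MonoidHom.range_eq_map, range_subtype]
      rfl
    refine le_bot_iff.1 ((CoprimeFitting.nres_mono h1).trans_eq ?_)
    exact CoprimeFitting.nres_of_isNilpotent (Core.isNilpotent_map hnil _)
  | succ n ih =>
    intro Γ _ _ G hGn hsolv x hx hfix hxn
    set F := (Cfsg.fittingSubgroup G).map G.subtype with hF
    haveI hFn : F.Normal := ConjAct.normal_of_characteristic_of_normal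
    have hcomm := commutator_mem_fitting_two (n := n + 3) hsolv hx hfix (by omega) hxn F hF
    rw [show n + 3 - 1 = n + 2 from rfl] at hcomm
    set π := QuotientGroup.mk' F with hπ
    have hker : π.ker ≤ G := by rw [QuotientGroup.ker_mk']; exact map_subtype_le _
    set Gb := G.map π with hGb
    haveI hGbn : Gb.Normal := hGn.map π (QuotientGroup.mk'_surjective F)
    have hxb : IsPGroup 2 (zpowers (π x)) := by
      rw [← MonoidHom.map_zpowers]; exact hx.map π
    have hfixb := fixed_image π hker hx hfix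
    set F2 := (Cfsg.fittingSubgroup Gb).map Gb.subtype with hF2
    haveI hF2n : F2.Normal := ConjAct.normal_of_characteristic_of_normal
    set π2 := QuotientGroup.mk' F2 with hπ2
    haveI := hGbn.map π2 (QuotientGroup.mk'_surjective F2)
    have hker2 : π2.ker ≤ Gb := by rw [QuotientGroup.ker_mk']; exact map_subtype_le _
    have hxb2 : IsPGroup 2 (zpowers (π2 (π x))) := by
      rw [← MonoidHom.map_zpowers]; exact hxb.map π2
    have h := ih (Gb.map π2) (Core.isSolvable_map (Core.isSolvable_map hsolv _) _) (π2 (π x)) hxb2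
      (fixed_image π2 hker2 hxb hfixb) (by
        rw [mem_centralizer_iff]
        rintro _ ⟨g, hg, rfl⟩
        have h1 : π2 ⁅π x ^ 2 ^ (n + 2), g⁆ = 1 := (QuotientGroup.eq_one_iff _).2 (hcomm g hg)
        rw [map_commutatorElement, commutatorElement_eq_one_iff_mul_comm, map_pow] at h1
        exact h1.symm)
    rw [← CoprimeFitting.map_ser, Subgroup.map_eq_bot_iff, QuotientGroup.ker_mk'] at h
    have hGb1 : CoprimeFitting.ser Gb (2 * (n + 1) + 1) = ⊥ :=
      le_bot_iff.1 ((CoprimeFitting.nres_mono h).trans_eq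
        (CoprimeFitting.nres_of_isNilpotent (Core.isNilpotent_map Core.fittingSubgroup_isNilpotent _)))
    rw [hGb, ← CoprimeFitting.map_ser, Subgroup.map_eq_bot_iff, QuotientGroup.ker_mk'] at hGb1
    rw [show 2 * (n + 1 + 1) = 2 * (n + 1) + 1 + 1 by omega]
    refine le_bot_iff.1 ((CoprimeFitting.nres_mono hGb1).trans_eq ?_)
    exact CoprimeFitting.nres_of_isNilpotent (Core.isNilpotent_map Core.fittingSubgroup_isNilpotent _)

end Cfsg.Agent.ShultGross
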