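import Cfsg.Agent.ShultGross.TwoComponents
import Cfsg.Agent.PLength.Exponent

/-!
Gross's bound on the 2-length of a solvable group by the exponent of the Sylow 2-subgroups.
-/

set_option autoImplicit false

open Subgroup

namespace Cfsg.Agent.ShultGross

universe u

theorem pow_eq_one_second_layer_two {G : Type u} [Group G] [Finite G] (hG : Group.IsSolvable G)
    (hO : Cfsg.pPrimeCore 2 G = ⊥) {n : ℕ}
    (hexp : ∀ (P : Sylow 2 G), ∀ x ∈ (P : Subgroup G), x ^ 2 ^ n = 1) :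
    let X := G ⧸ Cfsg.pCore 2 G
    let X₂ := X ⧸ Cfsg.pPrimeCore 2 X
    ∀ (P : Sylow 2 (X₂ ⧸ Cfsg.pCore 2 X₂)), ∀ x ∈ (P : Subgroup (X₂ ⧸ Cfsg.pCore 2 X₂)),
      x ^ 2 ^ (n - 1) = 1 := by
  intro X X₂ P y hy
  haveI : Fact (Nat.Prime 2) := ⟨Nat.prime_two⟩
  haveI := hG
  set U₂ := Cfsg.pPrimeCore 2 X with hU₂
  set R₂ := Cfsg.pCore 2 X₂ with hR₂
  obtain ⟨T, hT⟩ := PLength.exists_sylow_map (f := (QuotientGroup.mk' R₂).comp (QuotientGroup.mk' U₂))
    ((QuotientGroup.mk'_surjective R₂).comp (QuotientGroup.mk'_surjective U₂)) P.2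
  obtain ⟨z, hz, rfl⟩ := hT hy
  obtain ⟨S, hS⟩ := PLength.exists_sylow_map (QuotientGroup.mk'_surjective (Cfsg.pCore 2 G)) T.2
  obtain ⟨g, hg, hgz⟩ := hS hz
  obtain ⟨V, i1, i2, i3, π, ρ, ρ', hπ, hsurj, hρ, hρ', hinj⟩ :=
    PLength.exists_frattini_module (p := 2) (Fusion.isPSolvable_of_isSolvable G) hO
  have hzn : z ^ 2 ^ n = 1 := PLength.exp_map (QuotientGroup.mk'_surjective _) hexp T z hz
  have hs : (ρ' z - 1) ^ (2 ^ n - 1) = 0 := by
    rw [← PLength.geom_sum_pow_eq, ← PLength.norm_eq_zero_of_exponent hπ hsurj hρ hexp S hg]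
    refine Finset.sum_congr rfl fun j _ => ?_
    rw [← map_pow, ← hgz, ← map_pow, QuotientGroup.mk'_apply, hρ']
  haveI : Module.Finite (ZMod 2) V := Module.Finite.of_finite
  let bas := Module.finBasis (ZMod 2) V
  let k := AlgebraicClosure (ZMod 2)
  haveI : CharP k 2 := charP_of_injective_algebraMap (algebraMap (ZMod 2) k).injective 2
  let Φ : Module.End (ZMod 2) V →+* Module.End k (Fin (Module.finrank (ZMod 2) V) → k) :=
    (Matrix.toLinAlgEquiv' (R := k)).toAlgHom.toRingHom.comp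
      ((algebraMap (ZMod 2) k).mapMatrix.comp (LinearMap.toMatrixAlgEquiv bas).toAlgHom.toRingHom)
  have hΦ : Function.Injective Φ :=
    (Matrix.toLinAlgEquiv' (R := k) (n := Fin (Module.finrank (ZMod 2) V))).injective.comp
      ((Matrix.map_injective (algebraMap (ZMod 2) k).injective).comp (LinearMap.toMatrixAlgEquiv bas).injective)
  have hmem := pow_mem_pPrimePCore_two (X := X) inferInstance Core.pCore_quotient_eq_bot
    (Φ.toMonoidHom.comp ρ') (hΦ.comp hinj) hzn (show (Φ (ρ' z) - 1) ^ (2 ^ n - 1) = 0 by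
      rw [← map_one Φ, ← map_sub, ← map_pow, hs, map_zero])
  rw [← map_pow]
  show QuotientGroup.mk' R₂ (QuotientGroup.mk' U₂ (z ^ 2 ^ (n - 1))) = 1
  exact (QuotientGroup.eq_one_iff _).2 hmem

/-- **Gross**: exponent `2 ^ (m + 1)` gives 2-length at most `2 m + 1`. -/
theorem pLengthLE_exponent_two : ∀ (m : ℕ) (G : Type u) [Group G] [Finite G], Group.IsSolvable G →
    (∀ (P : Sylow 2 G), ∀ x ∈ (P : Subgroup G), x ^ 2 ^ (m + 1) = 1) → Cfsg.PLengthLE 2 (2 * m + 1) G := by
  haveI : Fact (Nat.Prime 2) := ⟨Nat.prime_two⟩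
  intro m
  induction m with
  | zero =>
    intro G _ _ hG hexp
    haveI := hG
    set U := Cfsg.pPrimeCore 2 G with hU
    have hexp₁ := PLength.exp_map (QuotientGroup.mk'_surjective U) hexp
    set R := Cfsg.pCore 2 (G ⧸ U) with hR
    have hX : (Nat.card ((G ⧸ U) ⧸ R)).Coprime 2 := by
      obtain ⟨P⟩ : Nonempty (Sylow 2 (G ⧸ U)) := inferInstance
      have hab : ∀ a ∈ (P : Subgroup (G ⧸ U)), ∀ b ∈ (P : Subgroup (G ⧸ U)), a * b = b * a := by
        intro a ha b hb
        have h1 : ∀ c ∈ (P : Subgroup (G ⧸ U)), c⁻¹ = c := fun c hc =>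
          inv_eq_of_mul_eq_one_right (by simpa [pow_two] using hexp₁ P c hc)
        conv_lhs => rw [← h1 _ (mul_mem ha hb), mul_inv_rev, h1 a ha, h1 b hb]
      have hPR : (P : Subgroup (G ⧸ U)) ≤ R := fun a ha =>
        Layer.pCoreSelfCentral_of_isPSolvable (Fusion.isPSolvable_of_isSolvable _)
          Core.pPrimeCore_quotient_eq_bot
          (mem_centralizer_iff.2 fun r hr => hab r (Core.pCore_le_sylow P hr) a ha)
      rw [Nat.coprime_comm, Nat.prime_two.coprime_iff_not_dvd, ← index_eq_card]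
      exact fun hd => P.not_dvd_index (hd.trans (index_dvd_of_le hPR))
    have h1 := PLength.of_extension R (PLength.pLengthLE_one_of_isPGroup Core.pCore_isPGroup)
      (PLength.pLengthLE_zero_of_coprime hX)
    have h2 := PLength.of_extension U (PLength.pLengthLE_zero_of_coprime Core.coprime_card_pPrimeCore) h1
    simpa using h2
  | succ m ih =>
    intro G _ _ hG hexp
    haveI := hG
    set U := Cfsg.pPrimeCore 2 G with hU
    have hexp₁ := PLength.exp_map (QuotientGroup.mk'_surjective U) hexp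
    set R := Cfsg.pCore 2 (G ⧸ U) with hR
    set U₂ := Cfsg.pPrimeCore 2 ((G ⧸ U) ⧸ R) with hU₂
    set R₂ := Cfsg.pCore 2 (((G ⧸ U) ⧸ R) ⧸ U₂) with hR₂
    have hL : Cfsg.PLengthLE 2 (2 * m + 1) ((((G ⧸ U) ⧸ R) ⧸ U₂) ⧸ R₂) :=
      ih _ inferInstance (pow_eq_one_second_layer_two inferInstance Core.pPrimeCore_quotient_eq_bot hexp₁)
    have h1 := PLength.of_extension R₂ (PLength.pLengthLE_one_of_isPGroup Core.pCore_isPGroup) hL
    have h2 := PLength.of_extension U₂ (PLength.pLengthLE_zero_of_coprime Core.coprime_card_pPrimeCore) h1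
    have h3 := PLength.of_extension R (PLength.pLengthLE_one_of_isPGroup Core.pCore_isPGroup) h2
    have h4 := PLength.of_extension U (PLength.pLengthLE_zero_of_coprime Core.coprime_card_pPrimeCore) h3
    rwa [show 0 + (1 + (0 + (1 + (2 * m + 1)))) = 2 * (m + 1) + 1 by omega] at h4

end Cfsg.Agent.ShultGross
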