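import Mathlib

/-!
The order of two modulo a power of a prime `p` when `p ^ k = 2 ^ b + 1`.
-/

set_option autoImplicit false

namespace Cfsg.Agent.ShultGross

theorem dvd_exponent {p k i b e : ℕ} [hp : Fact p.Prime] (hp2 : p ≠ 2) (hk : 1 ≤ k) (hpk : 2 ^ b + 1 = p ^ k)
    (hdvd : p ^ (k + i) ∣ 2 ^ e - 1) : 2 * b * p ^ i ∣ e := by
  have hodd : Odd p := hp.out.odd_of_ne_two hp2
  have hb : 1 ≤ b := by
    by_contra hb0
    rw [Nat.lt_one_iff.1 (by omega : b < 1), pow_zero] at hpk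
    have := (hodd.pow (n := k))
    rw [← hpk] at this
    exact Nat.not_odd_iff_even.2 (by decide) this
  have h4 : 2 ≤ 2 ^ b := le_self_pow₀ (by norm_num) (by omega)
  -- the order modulo `p ^ k`
  have hz : ((2 : ZMod (p ^ k))) ^ b = -1 := by
    have h1 := congrArg (Nat.cast : ℕ → ZMod (p ^ k)) hpk
    rw [ZMod.natCast_self] at h1
    push_cast at h1
    exact eq_neg_of_add_eq_zero_left h1
  have h2b : ((2 : ZMod (p ^ k))) ^ (2 * b) = 1 := by rw [mul_comm, pow_mul, hz, neg_one_sq]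
  have hcast : ∀ m : ℕ, ((2 : ZMod (p ^ k))) ^ m = 1 ↔ p ^ k ∣ 2 ^ m - 1 := fun m => by
    rw [← ZMod.natCast_eq_zero_iff, Nat.cast_sub Nat.one_le_two_pow, sub_eq_zero]
    push_cast
    rfl
  have hord : orderOf (2 : ZMod (p ^ k)) = 2 * b := by
    set o := orderOf (2 : ZMod (p ^ k)) with ho
    have hdo : o ∣ 2 * b := orderOf_dvd_of_pow_eq_one h2b
    have ho0 : 0 < o := orderOf_pos_iff.2 (isOfFinOrder_iff_pow_eq_one.2 ⟨2 * b, by omega, h2b⟩)
    by_contra hne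
    obtain ⟨c, hc⟩ := hdo
    have hle : o ≤ b := by
      rcases Nat.lt_or_ge c 2 with hc2 | hc2
      · interval_cases c <;> omega
      · nlinarith
    have h1 := Nat.le_of_dvd (by
      have := Nat.one_lt_two_pow (n := o) (by omega); omega) ((hcast o).1 (pow_orderOf_eq_one _))
    have h2 := Nat.pow_le_pow_right (show 0 < 2 by norm_num) hle
    omega
  have hdv : p ^ k ∣ 2 ^ e - 1 := (pow_dvd_pow p (Nat.le_add_right k i)).trans hdvd
  obtain ⟨t, rfl⟩ : 2 * b ∣ e := hord ▸ orderOf_dvd_of_pow_eq_one ((hcast e).2 hdv)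
  refine Nat.mul_dvd_mul_left _ ?_
  rcases Nat.eq_zero_or_pos t with rfl | ht
  · exact dvd_zero _
  set A := 2 ^ (2 * b) with hA
  have hfac : A - 1 = p ^ k * (2 ^ b - 1) := by
    rw [← hpk, hA, mul_comm 2 b, pow_mul, ← Nat.sq_sub_sq, one_pow]
  have hnp : ¬ p ∣ 2 ^ b - 1 := fun h => by
    have h1 : p ∣ 2 ^ b + 1 := hpk ▸ dvd_pow_self p (by omega)
    have h2 := Nat.dvd_sub h1 h
    rw [show 2 ^ b + 1 - (2 ^ b - 1) = 2 by omega] at h2
    exact hp2 ((Nat.prime_dvd_prime_iff_eq hp.out Nat.prime_two).1 h2)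
  have hA1 : 1 < A := Nat.one_lt_two_pow (by omega)
  have hpA : p ∣ A - 1 := hfac ▸ Dvd.dvd.mul_right (dvd_pow_self p (by omega)) _
  have hnA : ¬ p ∣ A := fun h => hp2 ((Nat.prime_dvd_prime_iff_eq hp.out Nat.prime_two).1
    (hp.out.dvd_of_dvd_pow h))
  have hlte := padicValNat.pow_sub_pow hodd hA1 hpA hnA ht.ne'
  have hv : padicValNat p (A - 1) = k := by
    rw [hfac, padicValNat.mul (pow_ne_zero k hp.out.ne_zero) (by omega), padicValNat.prime_pow,
      padicValNat.eq_zero_of_not_dvd hnp, add_zero]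
  rw [one_pow, hv, hA, ← pow_mul] at hlte
  have hne : 2 ^ (2 * b * t) - 1 ≠ 0 := by
    have := Nat.one_lt_two_pow (n := 2 * b * t) (by positivity)
    omega
  have h3 := (padicValNat_dvd_iff_le hne).1 hdvd
  exact (padicValNat_dvd_iff_le ht.ne').2 (by omega)

end Cfsg.Agent.ShultGross
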