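import Cfsg.Agent.HallHigman.TheoremB
import Cfsg.Agent.ShultGross.Critical
import Cfsg.Agent.ShultGross.Ord

/-!
Shult's fixed point theorem for a cyclic group of odd prime power order acting without fixed points
on a group of operators of coprime order.
-/

set_option autoImplicit false

open Subgroup
open scoped commutatorElement IsMulCommutative

namespace Cfsg.Agent.ShultGross

open Cfsg.Agent.HallHigman

variable {G : Type*} [Group G] [Finite G] {K : Type*} [Field K] {V : Type*} [AddCommGroup V] [Module K V]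
  [IsAlgClosed K] [FiniteDimensional K V]

/-- A cyclic product over the powers of `x` in a commutative normalised subgroup is fixed by `x`. -/
theorem exists_fixed_product {D : Subgroup G} [IsMulCommutative D] {x : G}
    (hxD : x ∈ normalizer (D : Set G)) {N : ℕ} (hxN : x ^ N = 1) {c : G} (hc : c ∈ D) :
    ∃ (e : G) (g : ℕ → D), (∀ j, (g j : G) = (x ^ j)⁻¹ * c * x ^ j) ∧
      e = ((∏ j ∈ Finset.range N, g j : D) : G) ∧ Commute x e := by
  let g : ℕ → D := fun j => ⟨(x ^ j)⁻¹ * c * x ^ j, (mem_normalizer_iff''.1 (pow_mem hxD j) c).1 hc⟩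
  refine ⟨_, g, fun j => rfl, rfl, ?_⟩
  let ψ : D →* D :=
    { toFun := fun a => ⟨x⁻¹ * a * x, (mem_normalizer_iff''.1 hxD a).1 a.2⟩
      map_one' := Subtype.ext (by simp)
      map_mul' := fun a b => Subtype.ext (by simp [mul_assoc]) }
  have h1 : ψ (∏ j ∈ Finset.range N, g j) = ∏ j ∈ Finset.range N, g j := by
    rw [map_prod]
    have hstep : ∀ j, ψ (g j) = g (j + 1) := fun j => Subtype.ext (by
      show x⁻¹ * ((x ^ j)⁻¹ * c * x ^ j) * x = (x ^ (j + 1))⁻¹ * c * x ^ (j + 1)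
      rw [pow_succ]; group)
    rw [Finset.prod_congr rfl fun j _ => hstep j]
    cases N with
    | zero => rfl
    | succ m =>
      rw [Finset.prod_range_succ, Finset.prod_range_succ']
      congr 1
      exact Subtype.ext (by simp [g, hxN])
  have h2 : x⁻¹ * ((∏ j ∈ Finset.range N, g j : D) : G) * x = ((∏ j ∈ Finset.range N, g j : D) : G) :=
    congrArg Subtype.val h1
  calc x * ((∏ j ∈ Finset.range N, g j : D) : G)
      = x * (x⁻¹ * ((∏ j ∈ Finset.range N, g j : D) : G) * x) := by rw [h2]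
    _ = _ := by group

set_option maxHeartbeats 1600000 in
theorem exists_fixed_minimal {p q n : ℕ} [hp : Fact p.Prime] (hp2 : p ≠ 2) [hq : Fact q.Prime] (hpq : p ≠ q)
    (hn : 1 ≤ n) (hpK : (p : K) ≠ 0) (hqK : (q : K) ≠ 0) (ρ : G →* Module.End K V)
    (hinj : Function.Injective ρ) {Q : Subgroup G} (hQ : IsPGroup q Q) {x : G}
    (hxQ : x ∈ normalizer (Q : Set G)) (hxn : x ^ p ^ n = 1)
    (hfpf : ∀ a ∈ Q, Commute x a → a = 1)
    (hns : ¬ ∀ a ∈ Q, x ^ p ^ (n - 1) * a = a * x ^ p ^ (n - 1))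
    (hmin : ∀ Q' : Subgroup G, Q' ≤ Q → x ∈ normalizer (Q' : Set G) →
      (¬ ∀ a ∈ Q', x ^ p ^ (n - 1) * a = a * x ^ p ^ (n - 1)) → Q' = Q) :
    ∃ v : V, v ≠ 0 ∧ ρ x v = v := by
  classical
  set σ := x ^ p ^ (n - 1) with hσ
  have hσp : σ ^ p = 1 := by rw [hσ, ← pow_mul, ← pow_succ, show n - 1 + 1 = n by omega, hxn]
  have hσ1 : σ ≠ 1 := fun h => hns fun a _ => by rw [h, one_mul, mul_one]
  have hord : orderOf x = p ^ n := by
    obtain ⟨m, rfl⟩ : ∃ m, n = m + 1 := ⟨n - 1, by omega⟩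
    exact orderOf_eq_prime_pow (by simpa [hσ] using hσ1) hxn
  have hσx : σ ∈ zpowers x := pow_mem (mem_zpowers x) _
  have hσQ : σ ∈ normalizer (Q : Set G) := pow_mem hxQ _
  have hxσ : Commute x σ := (Commute.refl x).pow_right _
  have hcopQ : ∀ Q' : Subgroup G, Q' ≤ Q → ∀ z ∈ zpowers x, (Nat.card (zpowers z)).Coprime (Nat.card Q') := by
    intro Q' hQ' z hz
    obtain ⟨j, hj⟩ := IsPGroup.iff_card.1 (hQ.to_le hQ')
    obtain ⟨l, -, hl⟩ := (Nat.dvd_prime_pow hp.out).1 (hord ▸ orderOf_dvd_of_mem_zpowers hz)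
    rw [Nat.card_zpowers, hl, hj]
    exact ((Nat.coprime_primes hp.out hq.out).2 hpq).pow l j
  -- the centre part
  set D := Q ⊓ centralizer ({σ} : Set G) with hD
  have hDQ : D ≤ Q := inf_le_left
  have hDcen : ∀ d ∈ D, ∀ a ∈ Q, d * a = a * d := fun d hd =>
    central_of_minimal hpq hQ hσx hxQ (m := 1) (by rw [pow_one, hσp]) hns hmin hd.1
      (mem_centralizer_singleton_iff.1 hd.2).symm
  haveI hDcomm : IsMulCommutative D :=
    ⟨⟨fun a b => Subtype.ext (hDcen a a.2 b (hDQ b.2))⟩⟩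
  have hxC : x ∈ normalizer (centralizer ({σ} : Set G) : Set G) :=
    le_normalizer (mem_centralizer_singleton_iff.2 hxσ.eq)
  have hxD : x ∈ normalizer (D : Set G) :=
    (Coprime.le_normalizer_inf (A := zpowers x) (zpowers_le.2 hxQ) (zpowers_le.2 hxC)) (mem_zpowers x)
  have hsmall : ∀ Q' : Subgroup G, Q' ≤ Q → x ∈ normalizer (Q' : Set G) → Q' ≠ Q → Q' ≤ D := by
    intro Q' h1 h2 h3 a ha
    refine ⟨h1 ha, mem_centralizer_singleton_iff.2 ?_⟩
    by_contra h4
    exact h3 (hmin Q' h1 h2 fun hall => h4 (hall a ha).symm)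
  have hmemD : ∀ {a : G}, a ∈ Q → σ * a = a * σ → a ∈ D := fun ha h =>
    ⟨ha, mem_centralizer_singleton_iff.2 h.symm⟩
  have hDne : D ≠ Q := fun h => hns fun a ha => (mem_centralizer_singleton_iff.1 (h.ge ha).2).symm
  -- elementary quotient
  haveI := hQ.isNilpotent
  set F := (frattini Q).map Q.subtype with hF
  have hFD : F ≤ D := by
    set M := D ⊔ F with hM
    have hMQ : M ≤ Q := sup_le hDQ (map_subtype_le _)
    have hxF : x ∈ normalizer (F : Set G) := by
      apply Coprime.mem_normalizer_of_conj_smul_eq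
      have h : (frattini Q).map (Q.normalizerMonoidHom ⟨x, hxQ⟩).toMonoidHom = frattini Q :=
        characteristic_iff_map_eq.mp inferInstance _
      conv_rhs => rw [hF, ← h]
      rw [Coprime.conj_smul_eq_map, Subgroup.map_map, Subgroup.map_map]
      rfl
    have hxM : x ∈ normalizer (M : Set G) := by
      rw [mem_normalizer_iff_map_conj_eq, hM, Subgroup.map_sup, mem_normalizer_iff_map_conj_eq.1 hxD,
        mem_normalizer_iff_map_conj_eq.1 hxF]
    refine le_trans le_sup_right (hsmall M hMQ hxM fun hMeq => hDne ?_)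
    have h1 : D.subgroupOf Q ⊔ frattini Q = ⊤ := by
      apply map_injective Q.subtype_injective
      rw [Subgroup.map_sup, map_subgroupOf_eq_of_le hDQ, ← MonoidHom.range_eq_map, Q.range_subtype]
      exact hMeq
    exact le_antisymm hDQ (subgroupOf_eq_top.1 (Core.eq_top_of_sup_frattini le_rfl h1))
  have hpowD : ∀ a ∈ Q, a ^ q ∈ D := fun a ha => hFD ⟨⟨a, ha⟩ ^ q, Core.pow_mem_frattini hQ _, rfl⟩
  have hcomD : ∀ a ∈ Q, ∀ b ∈ Q, ⁅a, b⁆ ∈ D := fun a ha b hb => hFD
    ⟨⁅(⟨a, ha⟩ : Q), ⟨b, hb⟩⁆, Core.commutator_le_frattini (commutator_mem_commutator (mem_top _) (mem_top _)), rfl⟩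
  -- fixed cosets of `σ`
  have hcoset : ∀ a ∈ Q, a⁻¹ * (σ * a * σ⁻¹) ∈ D → a ∈ D := by
    intro a ha hd
    set d := a⁻¹ * (σ * a * σ⁻¹) with hd'
    have hcd : Commute σ d := (mem_centralizer_singleton_iff.1 hd.2).symm
    have hj : ∀ j : ℕ, σ ^ j * a * (σ ^ j)⁻¹ = a * d ^ j := by
      intro j
      induction j with
      | zero => simp
      | succ j ih =>
        calc σ ^ (j + 1) * a * (σ ^ (j + 1))⁻¹ = σ * (σ ^ j * a * (σ ^ j)⁻¹) * σ⁻¹ := by rw [pow_succ']; group
          _ = σ * a * σ⁻¹ * (σ * d ^ j * σ⁻¹) := by rw [ih]; group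
          _ = a * d * d ^ j := by rw [(hcd.pow_right j).eq, mul_inv_cancel_right, hd']; group
          _ = a * d ^ (j + 1) := by rw [pow_succ', mul_assoc]
    have h1 := hj p
    rw [hσp, one_mul, inv_one, mul_one, eq_comm, mul_eq_left] at h1
    obtain ⟨i, hi⟩ := IsPGroup.iff_orderOf.1 hQ ⟨d, hDQ hd⟩
    rw [orderOf_mk] at hi
    have h2 : orderOf d = 1 := Nat.eq_one_of_dvd_coprimes
      (((Nat.coprime_primes hp.out hq.out).2 hpq).pow_right i) (orderOf_dvd_of_pow_eq_one h1) hi.dvd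
    rw [orderOf_eq_one_iff, hd'] at h2
    refine hmemD ha ?_
    rw [inv_mul_eq_one, eq_mul_inv_iff_mul_eq] at h2
    exact h2.symm
  -- a constituent
  obtain ⟨a₀, ha₀, hne⟩ := not_forall₂.1 hns
  let bq : Q := ⟨a₀, ha₀⟩
  have hbq : (bq : G) ≠ 1 := fun h => hne (by rw [show a₀ = 1 from h, one_mul, mul_one])
  haveI : Nontrivial V := by
    by_contra hV
    rw [not_nontrivial_iff_subsingleton] at hV
    exact hbq (hinj (LinearMap.ext fun v => Subsingleton.elim _ _))
  set τ := ρ.comp Q.subtype with hτ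
  haveI := Fintype.ofFinite Q
  have hQcard : (Fintype.card Q : K) ≠ 0 := by
    obtain ⟨j, hj⟩ := IsPGroup.iff_card.1 hQ
    rw [← Nat.card_eq_fintype_card, hj, Nat.cast_pow]
    exact pow_ne_zero j hqK
  obtain ⟨W, hW, w₁, hw₁, hw₁ne⟩ := exists_simple_nontrivial (τ := τ) hQcard (b := bq)
    (fun h => hbq (hinj (h.trans (map_one ρ).symm)))
  have hmapmul : ∀ (g g' : G) (U : Submodule K V), U.map (ρ (g * g')) = (U.map (ρ g')).map (ρ g) :=
    fun g g' U => by rw [map_mul, Module.End.mul_eq_comp, Submodule.map_comp]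
  have hmap1 : ∀ U : Submodule K V, U.map (ρ 1) = U := fun U => by
    rw [map_one, Module.End.one_eq_id, Submodule.map_id]
  let S : Subgroup (normalizer (Q : Set G)) :=
    { carrier := {g | Isom τ W (W.map (ρ (g : G)))}
      mul_mem' := fun {g g'} hg hg' => by
        show Isom τ W (W.map (ρ ((g : G) * g')))
        rw [hmapmul]
        exact hg.trans (isom_map_of_mem ρ g.2 hg')
      one_mem' := by
        show Isom τ W (W.map (ρ ((1 : normalizer (Q : Set G)) : G)))
        rw [OneMemClass.coe_one, hmap1]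
        exact Isom.refl W
      inv_mem' := fun {g} hg => by
        show Isom τ W (W.map (ρ ((g⁻¹ : normalizer (Q : Set G)) : G)))
        have h1 := isom_map_of_mem ρ (inv_mem g.2) hg
        rw [← hmapmul, inv_mul_cancel, hmap1] at h1
        exact h1.symm (simple_map_of_mem ρ (inv_mem g.2) hW).2.1 }
  set xn : normalizer (Q : Set G) := ⟨x, hxQ⟩ with hxn'
  have hxnord : orderOf xn = p ^ n := by rw [← hord, ← orderOf_coe xn]
  have hex : ∃ i, xn ^ p ^ i ∈ S := ⟨n, by rw [← hxnord, pow_orderOf_eq_one]; exact one_mem S⟩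
  set i := Nat.find hex with hi
  have hin : i ≤ n := Nat.find_min' hex (by rw [← hxnord, pow_orderOf_eq_one]; exact one_mem S)
  set N := p ^ i with hN
  have hpi : 0 < N := pow_pos hp.out.pos i
  have hnotS : ∀ d, 0 < d → d < N → xn ^ d ∉ S := by
    intro d hd hdi hmem
    obtain ⟨t, ht, hg⟩ := (Nat.dvd_prime_pow hp.out).1 (Nat.gcd_dvd_right d (p ^ n))
    have hti : t < i := by
      by_contra hcon
      have h3 := Nat.le_of_dvd hd (hg ▸ Nat.gcd_dvd_left d (p ^ n))
      have h4 : p ^ i ≤ p ^ t := Nat.pow_le_pow_right hp.out.pos (by omega)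
      omega
    refine Nat.find_min hex hti ?_
    have h5 : xn ^ p ^ t = (xn ^ d) ^ (Nat.gcdA d (p ^ n)) := by
      rw [← zpow_natCast xn d, ← zpow_mul, ← zpow_natCast]
      refine orderOf_dvd_sub_iff_zpow_eq_zpow.1 ⟨Nat.gcdB d (p ^ n), ?_⟩
      have h6 := Nat.gcd_eq_gcd_ab d (p ^ n)
      rw [hg] at h6
      rw [hxnord, h6]
      ring
    rw [h5]
    exact zpow_mem hmem _
  set y := x ^ N with hy
  have hyN : y ∈ normalizer (Q : Set G) := pow_mem hxQ _
  obtain ⟨W', hWW', hyW'⟩ := exists_invariant_copy ρ hyN hW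
    (show Isom τ W (W.map (ρ y)) by
      have h := Nat.find_spec hex
      rw [← hi] at h
      simpa [S, hy, hxn'] using h)
  have hW' : IsSimpleSub τ W' := hWW'.simple hW
  have hxr : ∀ r : ℕ, x ^ r ∈ normalizer (Q : Set G) := fun r => pow_mem hxQ r
  have hnoniso : ∀ d, 0 < d → d < N → ¬ Isom τ W' (W'.map (ρ (x ^ d))) := fun d hd hdi h => by
    refine hnotS d hd hdi ?_
    show Isom τ W (W.map (ρ (((xn ^ d : normalizer (Q : Set G))) : G)))
    rw [SubgroupClass.coe_pow, hxn']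
    exact hWW'.trans (h.trans (isom_map_of_mem ρ (hxr d) (hWW'.symm hW.2.1)))
  -- the orbit sum
  have horbit : ∀ w ∈ W', w ≠ 0 → ρ y w = w → ∃ v, v ≠ 0 ∧ ρ x v = v := by
    intro w hw hw0 hyw
    refine ⟨∑ r ∈ Finset.range N, ρ (x ^ r) w, fun hzero => ?_, ?_⟩
    · obtain ⟨e, he⟩ := Nat.exists_eq_succ_of_ne_zero hpi.ne'
      rw [he, Finset.sum_range_succ, add_eq_zero_iff_eq_neg'] at hzero
      set others := (Finset.range e).sup fun r => W'.map (ρ (x ^ r)) with hothers
      have hin' : ρ (x ^ e) w ∈ others := by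
        rw [hzero]
        exact others.neg_mem (others.sum_mem fun r hr =>
          (Finset.le_sup (f := fun r => W'.map (ρ (x ^ r))) hr) ⟨w, hw, rfl⟩)
      have hsimp := simple_map_of_mem ρ (hxr e) hW'
      have hOinv : Inv τ others := by
        intro g v hv
        have hle' : others ≤ others.comap (τ g) := Finset.sup_le fun r hr u hu =>
          (Finset.le_sup (f := fun r => W'.map (ρ (x ^ r))) hr) ((simple_map_of_mem ρ (hxr r) hW').2.1 g u hu)
        exact hle' hv
      have hle : W'.map (ρ (x ^ e)) ≤ others := by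
        have h1 := hsimp.2.2 (W'.map (ρ (x ^ e)) ⊓ others) inf_le_left
          (fun g v hv => ⟨hsimp.2.1 g v hv.1, hOinv g v hv.2⟩)
        refine (h1.resolve_left fun hb => ?_).ge.trans inf_le_right
        have h2 : ρ (x ^ e) w ∈ W'.map (ρ (x ^ e)) ⊓ others := ⟨Submodule.mem_map_of_mem hw, hin'⟩
        rw [hb, Submodule.mem_bot] at h2
        exact hw0 (apply_injective ρ _ (h2.trans (map_zero _).symm))
      obtain ⟨r, hr, hiso⟩ := exists_isom_of_le_iSup (fun r => W'.map (ρ (x ^ r))) hsimp (Finset.range e)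
        (fun r _ => simple_map_of_mem ρ (hxr r) hW') hle
      rw [Finset.mem_range] at hr
      refine hnoniso (e - r) (by omega) (by omega) ?_
      have h3 := isom_map_of_mem ρ (inv_mem (hxr r)) hiso
      rw [← hmapmul, ← hmapmul, inv_mul_cancel, hmap1,
        show (x ^ r)⁻¹ * x ^ e = x ^ (e - r) by
          rw [inv_mul_eq_iff_eq_mul, ← pow_add, show r + (e - r) = e by omega]] at h3
      exact h3.symm (simple_map_of_mem ρ (hxr (e - r)) hW').2.1
    · rw [map_sum]
      have hshift : ∀ r, ρ x (ρ (x ^ r) w) = ρ (x ^ (r + 1)) w := fun r => by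
        rw [← Module.End.mul_apply, ← map_mul, pow_succ']
      rw [Finset.sum_congr rfl fun r _ => hshift r]
      obtain ⟨e, he⟩ := Nat.exists_eq_succ_of_ne_zero hpi.ne'
      rw [he]
      conv_rhs => rw [Finset.sum_range_succ']
      rw [Finset.sum_range_succ]
      congr 1
      rw [show x ^ (e + 1) = y by rw [hy, he], hyw, pow_zero, map_one, Module.End.one_apply]
  obtain ⟨w₂, hw₂, hw₂0⟩ := Submodule.exists_mem_ne_zero_of_ne_bot hW'.1
  rcases eq_or_lt_of_le hin with hin' | hin'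
  · refine horbit w₂ hw₂ hw₂0 ?_
    rw [hy, hN, hin', hxn, map_one, Module.End.one_apply]
  -- restriction to `W'`
  let Stab : Subgroup G :=
    { carrier := {g | W'.map (ρ g) = W'}
      mul_mem' := fun {g g'} hg hg' => by
        show W'.map (ρ (g * g')) = W'
        rw [hmapmul, show W'.map (ρ g') = W' from hg']
        exact hg
      one_mem' := hmap1 W'
      inv_mem' := fun {g} hg => by
        show W'.map (ρ g⁻¹) = W'
        conv_lhs => rw [← show W'.map (ρ g) = W' from hg]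
        rw [← hmapmul, inv_mul_cancel, hmap1] }
  have hQStab : Q ≤ Stab := fun g hg => by
    refine le_antisymm ?_ fun v hv => ?_
    · rintro _ ⟨v, hv, rfl⟩
      exact hW'.2.1 ⟨g, hg⟩ v hv
    · exact ⟨ρ g⁻¹ v, hW'.2.1 ⟨g⁻¹, inv_mem hg⟩ v hv, apply_inv_apply ρ g v⟩
  set N1 := Q ⊔ zpowers y with hN1
  have hN1S : N1 ≤ Stab := sup_le hQStab (zpowers_le.2 hyW')
  let φ : N1 →* Module.End K W' :=
    { toFun := fun g => (ρ (g : G)).restrict fun v hv => by
        have h : W'.map (ρ (g : G)) = W' := hN1S g.2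
        exact h.le (Submodule.mem_map_of_mem hv)
      map_one' := LinearMap.ext fun v => Subtype.ext (by simp)
      map_mul' := fun g g' => LinearMap.ext fun v => Subtype.ext (by simp) }
  set Q1 := Q.subgroupOf N1 with hQ1
  set y1 : N1 := ⟨y, mem_sup_right (mem_zpowers y)⟩ with hy1
  have hQN : ∀ {a : G}, a ∈ Q → a ∈ N1 := fun h => mem_sup_left h
  have hQ1p : IsPGroup q Q1 := hQ.comap_subtype
  haveI : Nontrivial W' := Submodule.nontrivial_iff_ne_bot.2 hW'.1
  have hirr : Irred (φ.comp Q1.subtype) := by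
    intro U' hU'
    rcases hW'.2.2 (U'.map W'.subtype) (Submodule.map_subtype_le _ _) (by
      rintro g _ ⟨v, hv, rfl⟩
      exact ⟨φ ⟨g, hQN g.2⟩ v, hU' ⟨⟨g, hQN g.2⟩, mem_subgroupOf.2 g.2⟩ v hv, rfl⟩) with h | h
    · exact Or.inl (((Submodule.map_injective_of_injective W'.injective_subtype).eq_iff' (Submodule.map_bot _)).1 h)
    · refine Or.inr (eq_top_iff.2 fun v _ => ?_)
      obtain ⟨v', hv', e⟩ := h.ge v.2
      exact (Subtype.ext e : v' = v) ▸ hv'
  set Z := scalars φ Q1 with hZ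
  -- central elements are scalar
  have hDZ : ∀ a (ha : a ∈ D), (⟨a, hQN (hDQ ha)⟩ : N1) ∈ Z := by
    intro a ha
    obtain ⟨c, hc⟩ := scalar_of_commute hirr (φ ⟨a, hQN (hDQ ha)⟩) (fun k => by
      show φ _ * φ k = φ k * φ _
      rw [← map_mul, ← map_mul]
      exact congrArg φ (Subtype.ext (hDcen a ha _ k.2)))
    exact ⟨mem_subgroupOf.2 (hDQ ha), c, hc⟩
  have hZG : ∀ {a : G}, a ∈ Z.map N1.subtype → ∃ h : a ∈ Q, (⟨a, hQN h⟩ : N1) ∈ Z := by
    rintro a ⟨b, hb, rfl⟩
    exact ⟨hb.1, hb⟩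
  have hy1Q : y1 ∈ normalizer (Q1 : Set N1) := by
    rw [mem_normalizer_iff]
    intro a
    exact mem_normalizer_iff.1 hyN a
  have hσy : ∃ e, σ = y ^ e := ⟨p ^ (n - 1 - i), by
    rw [hy, hN, ← pow_mul, ← pow_add, show i + (n - 1 - i) = n - 1 by omega]⟩
  obtain ⟨eσ, hσe⟩ := hσy
  -- `W'` sees a nontrivial action
  obtain ⟨aN, haN, haNZ⟩ : ∃ a ∈ Q1, a ∉ Z := by
    by_contra hall
    push Not at hall
    have htriv : ∀ a, a ∈ Q → ∀ v ∈ W', ρ ⁅σ, a⁆ v = v := by
      intro a ha v hv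
      have h1 := commute_of_scalar (hall ⟨a, hQN ha⟩ (mem_subgroupOf.2 ha)) (y1 ^ eσ)
      have h2 : φ ⁅y1 ^ eσ, ⟨a, hQN ha⟩⁆ = 1 := by
        rw [commutatorElement_def, map_mul, map_mul, map_mul, ← h1.eq, mul_assoc _ (φ (y1 ^ eσ)) _, ← map_mul,
          mul_inv_cancel, map_one, mul_one, ← map_mul, mul_inv_cancel, map_one]
      have h3 := congrArg Subtype.val (LinearMap.congr_fun h2 ⟨v, hv⟩)
      have h4 : ((⁅y1 ^ eσ, ⟨a, hQN ha⟩⁆ : N1) : G) = ⁅σ, a⁆ := by
        rw [hσe]; rfl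
      rw [← h4]
      exact h3
    let A : Subgroup G := Subgroup.closure {g | ∃ a ∈ Q, g = ⁅σ, a⁆}
    have hAQ : A ≤ Q := (closure_le _).2 (by
      rintro _ ⟨a, ha, rfl⟩
      rw [commutatorElement_def, SetLike.mem_coe]
      exact mul_mem ((mem_normalizer_iff.1 hσQ a).1 ha) (inv_mem ha))
    have hxA : x ∈ normalizer (A : Set G) := by
      rw [mem_normalizer_iff_map_conj_eq, MonoidHom.map_closure]
      congr 1
      ext g
      constructor
      · rintro ⟨_, ⟨a, ha, rfl⟩, rfl⟩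
        refine ⟨x * a * x⁻¹, (mem_normalizer_iff.1 hxQ a).1 ha, ?_⟩
        rw [map_commutatorElement]
        congr 1
        simp [hxσ.eq]
      · rintro ⟨a, ha, rfl⟩
        refine ⟨⁅σ, x⁻¹ * a * x⁆, ⟨_, (mem_normalizer_iff''.1 hxQ a).1 ha, rfl⟩, ?_⟩
        rw [map_commutatorElement]
        congr 1
        · simp [hxσ.eq]
        · simp [mul_assoc]
    have hAeq : A = Q := by
      by_contra hne'
      refine hne (((mem_centralizer_singleton_iff.1 (hcoset a₀ ha₀ ?_).2)).symm)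
      have h1 := hsmall A hAQ hxA hne' (subset_closure ⟨a₀, ha₀, rfl⟩)
      have hx0 : a₀ ∈ normalizer (D : Set G) := by
        rw [mem_normalizer_iff]
        intro g
        constructor
        · intro hg
          rwa [← hDcen g hg a₀ ha₀, mul_inv_cancel_right]
        · intro hg
          have h5 := hDcen _ hg a₀ ha₀
          rwa [mul_left_cancel (a := a₀) (show a₀ * g = a₀ * (a₀ * g * a₀⁻¹) by rw [← h5, inv_mul_cancel_right])]
      rw [show a₀⁻¹ * (σ * a₀ * σ⁻¹) = a₀⁻¹ * ⁅σ, a₀⁆ * a₀ by rw [commutatorElement_def]; group]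
      exact (mem_normalizer_iff''.1 hx0 _).1 h1
    have hfixW : ∀ g ∈ Q, ∀ v ∈ W', ρ g v = v := by
      intro g hg
      rw [← hAeq] at hg
      induction hg using closure_induction with
      | mem g hg => obtain ⟨a, ha, rfl⟩ := hg; exact htriv a ha
      | one => intro v _; rw [map_one, Module.End.one_apply]
      | mul g g' _ _ hg hg' => intro v hv; rw [map_mul, Module.End.mul_apply, hg' v hv, hg v hv]
      | inv g _ hg => intro v hv; conv_lhs => rw [← hg v hv]
                      rw [inv_apply_apply]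
    obtain ⟨f, hf⟩ := hWW'
    refine hw₁ne ?_
    have h4 : (f ⟨τ bq w₁, hW.2.1 bq w₁ hw₁⟩ : V) = τ bq (f ⟨w₁, hw₁⟩) := hf bq ⟨w₁, hw₁⟩ _ rfl
    have h5 : τ bq (f ⟨w₁, hw₁⟩ : V) = (f ⟨w₁, hw₁⟩ : V) := hfixW a₀ ha₀ _ (f ⟨w₁, hw₁⟩).2
    exact congrArg Subtype.val (f.injective (Subtype.ext (h4.trans h5)))
  have hcl : ∀ a ∈ Q1, ∀ b ∈ Q1, ⁅a, b⁆ ∈ Z := fun a ha b hb =>
    hDZ _ (hcomD (a : G) (mem_subgroupOf.1 ha) (b : G) (mem_subgroupOf.1 hb))
  set k := n - i with hk
  have hyk : y ^ p ^ k = 1 := by rw [hy, hN, ← pow_mul, ← pow_add, show i + k = n by omega, hxn]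
  have hy1k : y1 ^ p ^ k = 1 := Subtype.ext hyk
  have hfpf1 : ∀ a ∈ Q1, ∀ j, 0 < j → j < p ^ k → a⁻¹ * (y1 ^ j * a * (y1 ^ j)⁻¹) ∈ Z → a ∈ Z := by
    intro a ha j hj hjk hmem
    have hz1 : y ^ j ≠ 1 := by
      rw [hy, ← pow_mul]
      refine pow_ne_one_of_lt_orderOf (Nat.mul_pos hpi hj).ne' ?_
      rw [hord, show p ^ n = N * p ^ k by rw [hN, ← pow_add]; congr 1; omega]
      exact Nat.mul_lt_mul_of_pos_left hjk hpi
    have hzy : y ^ j ∈ zpowers x := by rw [hy, ← pow_mul]; exact pow_mem (mem_zpowers x) _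
    set Zg := Z.map N1.subtype with hZg
    have hAN : zpowers (y ^ j) ≤ normalizer (Zg : Set G) := by
      refine zpowers_le.2 ?_
      have h1 : y1 ^ j ∈ normalizer (Z : Set N1) := pow_mem (by
        rw [mem_normalizer_iff]
        intro b
        refine ⟨conj_mem_scalars hy1Q, fun hb => ?_⟩
        have := conj_mem_scalars (inv_mem hy1Q) hb
        simpa [mul_assoc] using this) j
      exact le_normalizer_map N1.subtype ⟨y1 ^ j, h1, by simp [y1]⟩
    have hZgQ : Zg ≤ Q := fun b hb => (hZG hb).1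
    have hfix : ∀ c ∈ zpowers (y ^ j), (a : G)⁻¹ * (c * a * c⁻¹) ∈ Zg := by
      let H : Subgroup G :=
        { carrier := {c | c ∈ normalizer (Zg : Set G) ∧ (a : G)⁻¹ * (c * a * c⁻¹) ∈ Zg}
          one_mem' := ⟨one_mem _, by simp⟩
          mul_mem' := fun {c c'} hc hc' => ⟨mul_mem hc.1 hc'.1, by
            have h1 := (mem_normalizer_iff.1 hc.1 _).1 hc'.2
            have h2 := mul_mem hc.2 h1
            convert h2 using 1
            group⟩
          inv_mem' := fun {c} hc => ⟨inv_mem hc.1, by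
            have h1 := (mem_normalizer_iff''.1 hc.1 _).1 (inv_mem hc.2)
            convert h1 using 1
            group⟩ }
      intro c hc
      refine (zpowers_le.2 (show y ^ j ∈ H from ⟨hAN (mem_zpowers _), ?_⟩) hc).2
      exact ⟨_, hmem, by simp [y1]⟩
    obtain ⟨z, hz, hc⟩ := Coprime.exists_fixed_mem_leftCoset hAN (hcopQ Zg hZgQ _ hzy)
      (Or.inl (Group.isSolvable_of_comm fun a b => setLike_mul_comm (s := zpowers (y ^ j)) a.2 b.2 |> Subtype.ext)) hfix
    have hd : (a : G) * z ∈ D := hmemD (mul_mem (mem_subgroupOf.1 ha) (hZgQ hz))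
      (mem_centralizer_iff.1 hc σ (sigma_mem_zpowers hord hzy hz1))
    obtain ⟨hzQ, hzZ⟩ := hZG hz
    have h1 := Subgroup.mul_mem _ (hDZ _ hd) (inv_mem hzZ)
    convert h1 using 1
    exact Subtype.ext (by simp)
  rcases fixed_or_exceptional (p := p) (q := q) (k := k) hp2 (by omega) hQ1p hy1Q hy1k hpK hqK φ hirr
    ⟨aN, haN, haNZ⟩ hcl hfpf1 with ⟨v, hv0, hv⟩ | ⟨hq2, b, hdim, hbk⟩
  · exact horbit v v.2 (fun h => hv0 (Subtype.ext h)) (congrArg Subtype.val hv)
  -- the exceptional case contradicts fixed-point-freeness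
  exfalso
  subst hq2
  have hidx : (Z.map N1.subtype).relIndex Q = 2 ^ (2 * b) := by
    have hQ1K : (Nat.card Q1 : K) ≠ 0 := by
      obtain ⟨j, hj⟩ := IsPGroup.iff_card.1 hQ1p
      rw [hj, Nat.cast_pow]; exact pow_ne_zero j hqK
    have hdK : (Module.finrank K W' : K) ≠ 0 := by rw [hdim, Nat.cast_pow]; exact pow_ne_zero b hqK
    have h1 := (span_and_index hirr hcl hdK hQ1K).2
    rw [hdim, ← pow_mul, mul_comm b 2] at h1
    rw [← h1, ← map_subgroupOf_eq_of_le (show Q ≤ N1 from le_sup_left), ← hQ1,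
      relIndex_map_map_of_injective _ _ N1.subtype_injective]
  set Zg := Z.map N1.subtype with hZg
  have hyZg : ∀ (m : ℕ) {g : G}, g ∈ Zg → y ^ m * g * (y ^ m)⁻¹ ∈ Zg := by
    rintro m _ ⟨g, hg, rfl⟩
    exact ⟨_, conj_mem_scalars (pow_mem hy1Q m) hg, by simp [y1]⟩
  have hyZg' : ∀ (m : ℕ) {g : G}, g ∈ Zg → (y ^ m)⁻¹ * g * y ^ m ∈ Zg := by
    rintro m _ ⟨g, hg, rfl⟩
    exact ⟨_, conj_mem_scalars (inv_mem (pow_mem hy1Q m)) hg, by simp [y1]⟩
  haveI hZgn : (Zg.subgroupOf Q).Normal := ⟨fun g hg a => mem_subgroupOf.2 (by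
    obtain ⟨g', hg', e⟩ := mem_subgroupOf.1 hg
    exact ⟨_, conj_mem_scalars (g := (⟨a, hQN a.2⟩ : N1)) (le_normalizer (mem_subgroupOf.2 a.2)) hg', by simp [← e]⟩)⟩
  let cr : Fin N → Q →* Q := fun r =>
    { toFun := fun a => ⟨(x ^ (r : ℕ))⁻¹ * a * x ^ (r : ℕ), (mem_normalizer_iff''.1 (hxr r) a).1 a.2⟩
      map_one' := Subtype.ext (by simp)
      map_mul' := fun a a' => Subtype.ext (by simp [mul_assoc]) }
  let Φ : Q →* (Fin N → Q ⧸ Zg.subgroupOf Q) :=
    MonoidHom.mk' (fun a r => QuotientGroup.mk (cr r a)) (fun a a' => funext fun r => by simp [map_mul])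
  have hker : ∀ a : Q, a ∈ Φ.ker ↔ ∀ r : ℕ, (x ^ r)⁻¹ * (a : G) * x ^ r ∈ Zg := by
    intro a
    rw [MonoidHom.mem_ker]
    constructor
    · intro h r
      have h1 := (QuotientGroup.eq_one_iff _).1 (congrFun h ⟨r % N, Nat.mod_lt r hpi⟩)
      have h2 := hyZg' (r / N) (mem_subgroupOf.1 h1)
      convert h2 using 1
      show _ = (y ^ (r / N))⁻¹ * ((x ^ (r % N))⁻¹ * (a : G) * x ^ (r % N)) * y ^ (r / N)
      conv_lhs => rw [← Nat.mod_add_div r N, pow_add, pow_mul, ← hy]
      group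
    · intro h
      exact funext fun r => (QuotientGroup.eq_one_iff _).2 (mem_subgroupOf.2 (h r))
  set E := Φ.ker.map Q.subtype with hE
  have hxE : ∀ {g : G}, g ∈ E → x * g * x⁻¹ ∈ E := by
    rintro _ ⟨a, ha, rfl⟩
    refine ⟨⟨x * a * x⁻¹, (mem_normalizer_iff.1 hxQ a).1 a.2⟩, (hker _).2 fun r => ?_, rfl⟩
    have h1 := (hker a).1 ha (r + (p ^ n - 1))
    convert h1 using 1
    have hx' : x ^ (p ^ n - 1) = x⁻¹ := by
      refine (inv_eq_of_mul_eq_one_right ?_).symm
      rw [← pow_succ', Nat.sub_add_cancel (Nat.one_le_pow _ _ hp.out.pos), hxn]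
    rw [show r + (p ^ n - 1) = (p ^ n - 1) + r by ring, pow_add, hx']
    simp [mul_assoc]
  have hEN : x ∈ normalizer (E : Set G) := by
    have hle : E.map (MulAut.conj x).toMonoidHom ≤ E := by
      rintro _ ⟨g, hg, rfl⟩; exact hxE hg
    rw [mem_normalizer_iff_map_conj_eq]
    exact eq_of_le_of_card_ge hle (card_map_of_injective (MulEquiv.injective _)).ge
  have hEZ : E ≤ Zg := by
    rintro _ ⟨a, ha, rfl⟩
    simpa using (hker a).1 ha 0
  have hED : E ≤ D := hsmall E (map_subtype_le _) hEN fun hEQ => haNZ (by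
    obtain ⟨g, hg, e⟩ := hEZ (hEQ.ge (mem_subgroupOf.1 haN))
    rwa [← N1.subtype_injective e])
  have hDE : D ≤ E := fun a ha => ⟨⟨a, hDQ ha⟩, (hker _).2 fun r =>
    ⟨_, hDZ _ ((mem_normalizer_iff''.1 (pow_mem hxD r) a).1 ha), rfl⟩, rfl⟩
  have hkerD : Φ.ker = D.subgroupOf Q := by
    apply map_injective Q.subtype_injective
    rw [map_subgroupOf_eq_of_le hDQ]
    exact le_antisymm hED hDE
  -- the free action on `Q / D`
  haveI hDn : (D.subgroupOf Q).Normal := hkerD ▸ inferInstance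
  set e : Q ≃* Q := Q.normalizerMonoidHom ⟨x, hxQ⟩ with he
  have hecoe : ∀ a : Q, ((e a : Q) : G) = x * a * x⁻¹ := fun a => rfl
  have heD : (D.subgroupOf Q).map e.toMonoidHom = D.subgroupOf Q := by
    refine eq_of_le_of_card_ge ?_ (card_map_of_injective e.injective).ge
    rintro _ ⟨a, ha, rfl⟩
    exact mem_subgroupOf.2 ((mem_normalizer_iff.1 hxD a).1 (mem_subgroupOf.1 ha))
  set π := (QuotientGroup.congr (D.subgroupOf Q) (D.subgroupOf Q) e heD).toEquiv with hπ
  have hπmk : ∀ (j : ℕ) (a : Q), ∃ a' : Q, π^[j] (QuotientGroup.mk a) = QuotientGroup.mk a' ∧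
      (a' : G) = x ^ j * a * (x ^ j)⁻¹ := by
    intro j a
    induction j with
    | zero => exact ⟨a, rfl, by simp⟩
    | succ j ih =>
      obtain ⟨a', h1, h2⟩ := ih
      refine ⟨e a', ?_, ?_⟩
      · rw [Function.iterate_succ_apply', h1]; rfl
      · rw [hecoe, h2, pow_succ']; group
  haveI := Fintype.ofFinite (Q ⧸ D.subgroupOf Q)
  have hdvd : p ^ n ∣ Fintype.card (Q ⧸ D.subgroupOf Q) - 1 := by
    rw [← Finset.card_univ, ← Finset.card_erase_of_mem (Finset.mem_univ (1 : Q ⧸ D.subgroupOf Q))]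
    refine dvd_card_of_free π (pow_pos hp.out.pos n) (fun u => ?_) _ (fun u hu => ?_) fun u hu j hj hjn heq => ?_
    · obtain ⟨a, rfl⟩ := QuotientGroup.mk_surjective u
      obtain ⟨a', h1, h2⟩ := hπmk (p ^ n) a
      rw [h1]
      congr 1
      exact Subtype.ext (by rw [h2, hxn]; simp)
    · rw [Finset.mem_erase] at hu ⊢
      exact ⟨fun h1 => hu.1 ((QuotientGroup.congr _ _ e heD).injective (h1.trans (map_one _).symm)),
        Finset.mem_univ _⟩
    · obtain ⟨a, rfl⟩ := QuotientGroup.mk_surjective u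
      obtain ⟨a', h1, h2⟩ := hπmk j a
      rw [h1] at heq
      refine (Finset.mem_erase.1 hu).1 ((QuotientGroup.eq_one_iff a).2 (mem_subgroupOf.2 (hcoset a a.2 ?_)))
      let H : Subgroup G :=
        { carrier := {c | c ∈ normalizer (D : Set G) ∧ (a : G)⁻¹ * (c * a * c⁻¹) ∈ D}
          one_mem' := ⟨one_mem _, by simp⟩
          mul_mem' := fun {c c'} hc hc' => ⟨mul_mem hc.1 hc'.1, by
            have h1 := (mem_normalizer_iff.1 hc.1 _).1 hc'.2
            have h2 := mul_mem hc.2 h1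
            convert h2 using 1
            group⟩
          inv_mem' := fun {c} hc => ⟨inv_mem hc.1, by
            have h1 := (mem_normalizer_iff''.1 hc.1 _).1 (inv_mem hc.2)
            convert h1 using 1
            group⟩ }
      have hxj : x ^ j ∈ H := by
        refine ⟨pow_mem hxD j, ?_⟩
        have h3 := mem_subgroupOf.1 (QuotientGroup.eq.1 heq.symm)
        simpa [h2] using h3
      exact (zpowers_le.2 hxj (sigma_mem_zpowers hord (pow_mem (mem_zpowers x) j)
        (pow_ne_one_of_lt_orderOf hj.ne' (hord ▸ hjn)))).2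
  obtain ⟨ee, hee⟩ := IsPGroup.iff_card.1 (hQ.to_quotient (D.subgroupOf Q))
  rw [← Nat.card_eq_fintype_card, hee, show n = k + i by omega] at hdvd
  have hee1 : 1 ≤ ee := by
    by_contra h0
    rw [Nat.lt_one_iff.1 (by omega : ee < 1), pow_zero, ← index_eq_card, index_eq_one, subgroupOf_eq_top] at hee
    exact hDne (le_antisymm hDQ hee)
  have hbig : 2 * b * N ≤ ee := Nat.le_of_dvd hee1 (dvd_exponent hp2 (by omega) hbk hdvd)
  have hsurj : Function.Surjective Φ := by
    refine MonoidHom.range_eq_top.1 (eq_top_of_le_card _ ?_)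
    rw [Nat.card_fun, Nat.card_fin, ← index_ker, hkerD, ← index_eq_card,
      show (D.subgroupOf Q).index = 2 ^ ee from (index_eq_card _).trans hee]
    rw [show (Zg.subgroupOf Q).index = 2 ^ (2 * b) from hidx, ← pow_mul]
    exact Nat.pow_le_pow_right (by norm_num) hbig
  -- two elements supported at one place
  obtain ⟨bN, hbN, hbne⟩ := exists_commutator_ne_one hirr haN haNZ
  let r0 : Fin N := ⟨0, hpi⟩
  have hpick : ∀ a : N1, a ∈ Q1 → ∃ u : Q, (∀ r : ℕ, 0 < r → r < N → (x ^ r)⁻¹ * (u : G) * x ^ r ∈ Zg) ∧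
      ∃ z ∈ Zg, (u : G) = (a : G) * z := by
    intro a ha
    obtain ⟨u, hu⟩ := hsurj (Function.update 1 r0 (QuotientGroup.mk ⟨a, mem_subgroupOf.1 ha⟩))
    refine ⟨u, fun r hr hrN => ?_, ?_⟩
    · have h1 := congrFun hu ⟨r, hrN⟩
      rw [Function.update_of_ne (fun h => by simp [r0, Fin.ext_iff] at h; omega)] at h1
      exact mem_subgroupOf.1 ((QuotientGroup.eq_one_iff _).1 h1)
    · have h1 := congrFun hu r0
      rw [Function.update_self] at h1
      refine ⟨(a : G)⁻¹ * u, ?_, by group⟩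
      have h2 := mem_subgroupOf.1 (QuotientGroup.eq.1 h1.symm)
      simpa [cr, r0] using h2
  obtain ⟨u, hu, zu, hzu, hue⟩ := hpick bN hbN
  obtain ⟨v, hv, zv, hzv, hve⟩ := hpick aN haN
  set c : G := ⁅(u : G), (v : G)⁆ with hc
  have hcD : c ∈ D := hcomD u u.2 v v.2
  have hu1 : ∀ g : N1, (g : G) ∈ Zg → g ∈ Z := fun g hg => by
    obtain ⟨g', hg', e⟩ := hg
    rwa [← N1.subtype_injective e]
  set c1 : N1 := ⟨c, hQN (hDQ hcD)⟩ with hc1
  obtain ⟨-, lam, hlam⟩ := hDZ c hcD
  have hccomm : φ c1 = φ ⁅bN, aN⁆ := by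
    set zu1 : N1 := ⟨zu, hQN ((hZG hzu).1)⟩
    set zv1 : N1 := ⟨zv, hQN ((hZG hzv).1)⟩
    have e : c1 = ⁅bN * zu1, aN * zv1⁆ := Subtype.ext (by
      show c = _
      rw [hc, hue, hve]; rfl)
    have hs : ∀ (z : N1), z ∈ Z → ∀ g h : N1, φ ⁅g * z, h⁆ = φ ⁅g, h⁆ := fun z hz g h => by
      rw [commutatorElement_def, commutatorElement_def, mul_inv_rev]
      simp only [map_mul, mul_assoc]
      congr 1
      rw [← mul_assoc (φ z), (commute_of_scalar hz h).eq, mul_assoc]
      congr 1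
      rw [← mul_assoc, ← map_mul, mul_inv_cancel, map_one, one_mul]
    have hzu' := hu1 zu1 hzu
    have hzv' := hu1 zv1 hzv
    rw [e, hs zu1 hzu', ← commutatorElement_inv (aN * zv1) bN, ← commutatorElement_inv aN bN]
    have h2 := hs zv1 hzv' aN bN
    have h3 : φ ⁅aN * zv1, bN⁆⁻¹ * φ ⁅aN * zv1, bN⁆ = 1 := by rw [← map_mul, inv_mul_cancel, map_one]
    rw [h2] at h3
    exact left_inv_eq_right_inv h3 (by rw [← map_mul, mul_inv_cancel, map_one])
  have hlam1 : lam ≠ 1 := fun h => hbne (by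
    rw [← hccomm]; show φ ⟨c, _⟩ = 1
    rw [hlam, h, one_smul])
  have hc2 : c ^ 2 = 1 := by
    have hcu : ∀ g ∈ Q, Commute c g := fun g hg => hDcen c hcD g hg
    have h1 : (u : G) ^ 2 * v * ((u : G) ^ 2)⁻¹ = c ^ 2 * v := by
      rw [pow_two, pow_two]
      calc (u : G) * u * v * ((u : G) * u)⁻¹ = u * (c * v) * (u : G)⁻¹ := by rw [hc, commutatorElement_def]; group
        _ = c * (u * v * (u : G)⁻¹) := by
          rw [← mul_assoc, ← (hcu u u.2).eq]; group
        _ = c * c * v := by rw [hc, commutatorElement_def]; group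
    rw [hDcen _ (hpowD u u.2) v v.2, mul_inv_cancel_right] at h1
    exact (mul_eq_right.1 h1.symm)
  have hlam2 : lam = -1 := by
    have h2 : φ c1 ^ 2 = 1 := by rw [← map_pow, show c1 ^ 2 = 1 from Subtype.ext hc2, map_one]
    rw [show φ c1 = lam • 1 from hlam, smul_pow, one_pow] at h2
    obtain ⟨w, hw⟩ := exists_ne (0 : W')
    have h3 := LinearMap.congr_fun h2 w
    rw [LinearMap.smul_apply, Module.End.one_apply] at h3
    have h4 : (lam ^ 2 - 1) • w = 0 := by rw [sub_smul, h3, one_smul, sub_self]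
    rcases (sq_eq_one_iff).1 (sub_eq_zero.1 ((smul_eq_zero.1 h4).resolve_right hw)) with h | h
    · exact absurd h hlam1
    · exact h
  obtain ⟨ce, g, hg, hce, hcomm⟩ := exists_fixed_product hxD hxn hcD
  have hce1 : ce = 1 := hfpf ce (hDQ (hce ▸ Subtype.prop _)) hcomm
  let ι : D →* N1 := Subgroup.inclusion (hDQ.trans le_sup_left)
  have hval : ∀ j, φ (ι (g j)) = (if j % N = 0 then lam else 1) • 1 := by
    intro j
    by_cases hj0 : j % N = 0
    · rw [if_pos hj0]
      have e : ι (g j) = (y1 ^ (j / N))⁻¹ * c1 * y1 ^ (j / N) := Subtype.ext (by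
        show ((g j : D) : G) = _
        rw [hg, show x ^ j = y ^ (j / N) by
          rw [hy, ← pow_mul, Nat.mul_div_cancel' (Nat.dvd_of_mod_eq_zero hj0)]]
        simp [y1, hc1])
      rw [e, map_mul, map_mul, show φ c1 = lam • 1 from hlam, mul_smul_comm, mul_one, smul_mul_assoc,
        ← map_mul, inv_mul_cancel, map_one]
    · rw [if_neg hj0, one_smul]
      have hr : 0 < j % N := Nat.pos_of_ne_zero hj0
      set r := j % N
      obtain ⟨hQu, hzu2⟩ := hZG (hu r hr (Nat.mod_lt j hpi))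
      have hvQ : (x ^ r)⁻¹ * (v : G) * x ^ r ∈ Q := (mem_normalizer_iff''.1 (hxr r) _).1 v.2
      have e : ι (g j) = (y1 ^ (j / N))⁻¹ *
          ⁅(⟨_, hQN hQu⟩ : N1), ⟨_, hQN hvQ⟩⁆ * y1 ^ (j / N) := Subtype.ext (by
        show ((g j : D) : G) = _
        rw [hg, hc, commutatorElement_def]
        conv_lhs => rw [← Nat.mod_add_div j N, pow_add, pow_mul, ← hy]
        simp only [commutatorElement_def, Subgroup.coe_mul, InvMemClass.coe_inv, SubgroupClass.coe_pow, y1]
        group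
        rfl)
      have h1 : φ ⁅(⟨_, hQN hQu⟩ : N1), ⟨_, hQN hvQ⟩⁆ = 1 := by
        rw [commutatorElement_def]
        simp only [map_mul]
        rw [(commute_of_scalar hzu2 _).eq]
        simp only [← map_mul]
        convert map_one φ
        group
      rw [e, map_mul, map_mul, h1, mul_one, ← map_mul, inv_mul_cancel, map_one]
  have hprod : ∀ M, φ (ι (∏ j ∈ Finset.range M, g j)) =
      (∏ j ∈ Finset.range M, if j % N = 0 then lam else 1) • 1 := by
    intro M
    induction M with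
    | zero => simp
    | succ M ih => rw [Finset.prod_range_succ, Finset.prod_range_succ, map_mul, map_mul, ih, hval, smul_mul_smul_comm, one_mul]
  have hcount : (∏ j ∈ Finset.range (p ^ n), if j % N = 0 then lam else 1) = lam := by
    rw [Finset.prod_ite, Finset.prod_const, Finset.prod_const, one_pow, mul_one]
    have hcard : ((Finset.range (p ^ n)).filter fun j => j % N = 0).card = p ^ k := by
      rw [show (Finset.range (p ^ n)).filter (fun j => j % N = 0) = (Finset.range (p ^ k)).image (fun t => t * N) from ?_]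
      · rw [Finset.card_image_of_injective _ (fun a b h => Nat.eq_of_mul_eq_mul_right hpi h), Finset.card_range]
      · have hpn : p ^ n = p ^ k * N := by rw [hN, ← pow_add]; congr 1; omega
        ext j
        simp only [Finset.mem_filter, Finset.mem_range, Finset.mem_image]
        constructor
        · rintro ⟨h1, h2⟩
          obtain ⟨t, rfl⟩ := Nat.dvd_of_mod_eq_zero h2
          exact ⟨t, by rw [hpn, mul_comm (p ^ k)] at h1; exact Nat.lt_of_mul_lt_mul_left h1, mul_comm _ _⟩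
        · rintro ⟨t, ht, rfl⟩
          exact ⟨hpn ▸ Nat.mul_lt_mul_of_pos_right ht hpi, Nat.mul_mod_left t N⟩
    rw [hcard, hlam2, Odd.neg_one_pow ((hp.out.odd_of_ne_two hp2).pow)]
  have hfin := hprod (p ^ n)
  rw [hcount, show ι (∏ j ∈ Finset.range (p ^ n), g j) = 1 from Subtype.ext (hce.symm.trans hce1), map_one] at hfin
  obtain ⟨w, hw⟩ := exists_ne (0 : W')
  have h3 := LinearMap.congr_fun hfin w
  rw [LinearMap.smul_apply, Module.End.one_apply] at h3
  have h4 : (1 - lam) • w = 0 := by rw [sub_smul, one_smul, ← h3, sub_self]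
  exact hlam1 (sub_eq_zero.1 ((smul_eq_zero.1 h4).resolve_right hw)).symm

end Cfsg.Agent.ShultGross
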