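import Mathlib

/-!
A group of odd order of symplectic automorphisms of a group of order `s ^ 2`, `s + 1 = 2 ^ k`,
normalised by a fixed-point-free automorphism of order `2 ^ k`, is trivial.
-/

set_option autoImplicit false

namespace Cfsg.Agent.ShultGross

open Subgroup

variable {P : Type*} [CommGroup P] [Finite P] {K : Type*} [Field K] {s q k : ℕ}

theorem eq_bot_of_plane [hs : Fact s.Prime] [hq : Fact q.Prime] (hq2 : q ≠ 2) (hsq : q ≠ s)
    (hcard : Nat.card P = s ^ 2) (hexp : ∀ v : P, v ^ s = 1) (hk : s + 1 = 2 ^ k)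
    (β : P → P → K) (hβl : ∀ u v w, β (u * v) w = β u w * β v w)
    (hβr : ∀ u v w, β u (v * w) = β u v * β u w) (hβ1 : ∀ u, β u u = 1)
    (hnd : ∀ u, (∀ v, β u v = 1) → u = 1) (C : Subgroup (MulAut P)) (hC : IsPGroup q C)
    (hCβ : ∀ c ∈ C, ∀ u v, β (c u) (c v) = β u v) (y : MulAut P)
    (hy : y ^ 2 ^ k = 1) (hyfree : ∀ j, 0 < j → j < 2 ^ k → ∀ v, (y ^ j) v = v → v = 1)
    (hyC : ∀ c ∈ C, y⁻¹ * c * y ∈ C) : C = ⊥ := by
  classical
  by_contra hCne
  have hord : ∀ v : P, v ≠ 1 → Nat.card (zpowers v) = s := fun v hv => by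
    rw [Nat.card_zpowers]; exact orderOf_eq_prime (hexp v) hv
  -- two independent elements generate
  have hgen : ∀ {v w : P}, v ≠ 1 → w ∉ zpowers v → ∀ u, ∃ i j : ℤ, u = v ^ i * w ^ j := by
    intro v w hv hw u
    have htop : zpowers v ⊔ zpowers w = ⊤ := by
      obtain ⟨e, he, hH⟩ := (Nat.dvd_prime_pow hs.out).1 (hcard ▸ card_subgroup_dvd_card (zpowers v ⊔ zpowers w))
      refine eq_top_of_card_eq _ ?_
      rw [hH, hcard]
      interval_cases e
      · rw [pow_zero, card_eq_one] at hH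
        exact absurd (zpowers_eq_bot.1 (le_bot_iff.1 (le_sup_left.trans hH.le))) hv
      · refine absurd ((eq_of_le_of_card_ge (le_sup_left (b := zpowers w)) ?_).ge (mem_sup_right (mem_zpowers w))) hw
        rw [hH, hord v hv, pow_one]
      · rfl
    obtain ⟨a, ha, b, hb, rfl⟩ := mem_sup.1 (htop.ge (mem_top u))
    obtain ⟨i, rfl⟩ := mem_zpowers_iff.1 ha
    obtain ⟨j, rfl⟩ := mem_zpowers_iff.1 hb
    exact ⟨i, j, rfl⟩
  have hβzero : ∀ u v, β u v ≠ 0 := by
    intro u v h0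
    have h2 : ∀ v', β u (v * v') = 0 := fun v' => by rw [hβr, h0, zero_mul]
    have h3 := h2 (v⁻¹ * u)
    rw [mul_inv_cancel_left, hβ1] at h3
    exact one_ne_zero h3
  have hβr1 : ∀ u, β u 1 = 1 := fun u => by
    have h := hβr u 1 1
    rw [mul_one] at h
    exact (mul_eq_left₀ (hβzero u 1)).1 h.symm
  -- stabilisers of points are trivial
  have hfix : ∀ c ∈ C, ∀ v : P, v ≠ 1 → c v = v → c = 1 := by
    intro c hc v hv hcv
    refine MulEquiv.ext fun w => ?_
    set e := w⁻¹ * c w with he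
    have hβe : β v e = 1 := by
      have h1 : β v (c w) = β v w := by conv_lhs => rw [← hcv]; rw [hCβ c hc]
      have h2 : β v (w * e) = β v w := by rw [he, mul_inv_cancel_left]; exact h1
      rw [hβr] at h2
      exact (mul_eq_left₀ (hβzero v w)).1 h2
    have hev : e ∈ zpowers v := by
      by_contra hne
      refine hv (hnd v fun u => ?_)
      let M : Subgroup P :=
        { carrier := {u | β v u = 1}
          one_mem' := hβr1 v
          mul_mem' := fun {a b} ha hb => by show β v (a * b) = 1; rw [hβr, ha, hb, one_mul]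
          inv_mem' := fun {a} ha => by
            show β v a⁻¹ = 1
            have h := hβr v a a⁻¹
            rw [mul_inv_cancel, hβr1, show β v a = 1 from ha, one_mul] at h
            exact h.symm }
      obtain ⟨i, j, rfl⟩ := hgen hv hne u
      exact M.mul_mem (M.zpow_mem (show v ∈ M from hβ1 v) i) (M.zpow_mem (show e ∈ M from hβe) j)
    have hce : c e = e := by
      obtain ⟨i, hi⟩ := mem_zpowers_iff.1 hev
      rw [← hi, map_zpow, hcv]
    have hit : ∀ j : ℕ, (c ^ j) w = w * e ^ j := fun j => by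
      induction j with
      | zero => simp
      | succ j ih =>
        rw [pow_succ', MulAut.mul_apply, ih, map_mul, map_pow, hce, show c w = w * e by rw [he, mul_inv_cancel_left],
          mul_assoc, ← pow_succ']
    obtain ⟨a, ha⟩ := IsPGroup.iff_orderOf.1 hC ⟨c, hc⟩
    rw [orderOf_mk] at ha
    have h3 := hit (q ^ a)
    rw [← ha, pow_orderOf_eq_one, MulAut.one_apply, eq_comm, mul_eq_left, ha] at h3
    have h4 : orderOf e = 1 := Nat.eq_one_of_dvd_coprimes
      (((Nat.coprime_primes hq.out hs.out).2 hsq).pow_left a) (orderOf_dvd_of_pow_eq_one h3)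
      (orderOf_dvd_of_pow_eq_one (hexp e))
    rw [orderOf_eq_one_iff, he, inv_mul_eq_one] at h4
    exact h4.symm
  have hsquare : ∀ c ∈ C, c * c = 1 → c = 1 := by
    intro c hc h2
    obtain ⟨a, ha⟩ := IsPGroup.iff_orderOf.1 hC ⟨c, hc⟩
    rw [orderOf_mk] at ha
    have h3 : orderOf c = 1 := Nat.eq_one_of_dvd_coprimes
      (((Nat.coprime_primes hq.out Nat.prime_two).2 hq2).pow_left a) ha.dvd
      (orderOf_dvd_of_pow_eq_one (by rw [pow_two, h2]))
    exact orderOf_eq_one_iff.1 h3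
  -- the lines
  set Lines := {L : Subgroup P // Nat.card L = s} with hLines
  have hlineGen : ∀ L : Lines, ∀ v ∈ L.1, v ≠ 1 → L.1 = zpowers v := fun L v hv hv1 =>
    (eq_of_le_of_card_ge (zpowers_le.2 hv) (by rw [hord v hv1, L.2])).symm
  have hlineEx : ∀ L : Lines, ∃ v ∈ L.1, v ≠ 1 := fun L => by
    refine L.1.ne_bot_iff_exists_ne_one.1 (fun h => ?_) |>.elim fun v hv => ⟨v, v.2, fun h => hv (Subtype.ext h)⟩
    have := L.2
    rw [h, card_bot] at this
    exact hs.out.ne_one this.symm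
  letI : MulAction C Lines :=
    { smul := fun c L => ⟨L.1.map ((c : MulAut P) : P →* P), by
        rw [card_map_of_injective (c : MulAut P).injective]; exact L.2⟩
      one_smul := fun L => Subtype.ext (by
        show L.1.map _ = _
        ext u; simp [Subgroup.mem_map])
      mul_smul := fun c d L => Subtype.ext (by
        show L.1.map _ = (L.1.map _).map _
        rw [Subgroup.map_map]; rfl) }
  haveI : Finite Lines := inferInstance
  have hLcard : Nat.card Lines = s + 1 := by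
    haveI := Fintype.ofFinite P
    haveI := Fintype.ofFinite Lines
    let f : {v : P // v ≠ 1} → Lines := fun v => ⟨zpowers (v : P), hord v v.2⟩
    have h1 : Fintype.card {v : P // v ≠ 1} = s ^ 2 - 1 := by
      rw [Fintype.card_subtype_compl, Fintype.card_subtype_eq, ← Nat.card_eq_fintype_card, hcard]
    have h2 : ∀ L : Lines, (Finset.univ.filter fun v => f v = L).card = s - 1 := by
      intro L
      have e : (Finset.univ.filter fun v => f v = L).image (fun v : {v : P // v ≠ 1} => (v : P)) =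
          (Finset.univ.filter fun v => v ∈ L.1).erase 1 := by
        ext v
        simp only [Finset.mem_image, Finset.mem_filter, Finset.mem_univ, true_and, Finset.mem_erase]
        constructor
        · rintro ⟨u, hu, rfl⟩
          exact ⟨u.2, hu ▸ mem_zpowers (u : P)⟩
        · rintro ⟨hv1, hv⟩
          exact ⟨⟨v, hv1⟩, Subtype.ext (hlineGen L v hv hv1).symm, rfl⟩
      rw [← Finset.card_image_of_injective _ Subtype.val_injective, e, Finset.card_erase_of_mem (by simp),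
        ← Fintype.card_subtype, ← Nat.card_eq_fintype_card]
      exact congrArg (· - 1) L.2
    have h3 := Finset.card_eq_sum_card_fiberwise (f := f) (s := Finset.univ) (t := Finset.univ)
      (fun _ _ => Finset.mem_univ _)
    rw [Finset.card_univ, h1, Finset.sum_congr rfl fun L _ => h2 L, Finset.sum_const, Finset.card_univ,
      smul_eq_mul, ← Nat.card_eq_fintype_card,
      show s ^ 2 - 1 = (s + 1) * (s - 1) by rw [← Nat.sq_sub_sq, one_pow]] at h3
    exact (Nat.eq_of_mul_eq_mul_right (by have := hs.out.two_le; omega) h3).symm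
  obtain ⟨L, hL⟩ := hC.nonempty_fixed_point_of_prime_not_dvd_card Lines (by
    rw [hLcard, hk]
    exact fun h => hq2 ((Nat.prime_dvd_prime_iff_eq hq.out Nat.prime_two).1 (hq.out.dvd_of_dvd_pow h)))
  -- all of `C` fixes the line
  let Fix : Lines → Prop := fun M => ∀ c ∈ C, ∀ v ∈ M.1, c v ∈ M.1
  have hLfix : Fix L := fun c hc v hv => by
    have h := congrArg Subtype.val (hL ⟨c, hc⟩)
    exact h.le ⟨v, hv, rfl⟩
  let mv : Lines → Lines := fun M => ⟨M.1.map (y : P →* P), by rw [card_map_of_injective y.injective]; exact M.2⟩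
  have hmv : ∀ M, Fix M → Fix (mv M) := by
    intro M hM c hc v hv
    obtain ⟨u, hu, rfl⟩ := hv
    refine ⟨(y⁻¹ * c * y) u, hM _ (hyC c hc) u hu, ?_⟩
    show y ((y⁻¹ * c * y) u) = c (y u)
    rw [MulAut.mul_apply, MulAut.mul_apply, MulAut.apply_inv_self]
  obtain ⟨c, hcC, hc1⟩ : ∃ c ∈ C, c ≠ 1 := by
    by_contra h
    push Not at h
    exact hCne ((eq_bot_iff_forall C).2 h)
  have heig : ∀ M, Fix M → ∀ v ∈ M.1, v ≠ 1 → ∃ a : ℤ, c v = v ^ a := fun M hM v hv hv1 => by
    obtain ⟨a, ha⟩ := mem_zpowers_iff.1 ((hlineGen M v hv hv1).le (hM c hcC v hv))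
    exact ⟨a, ha.symm⟩
  have hthree : ∀ M₁ M₂ M₃, Fix M₁ → Fix M₂ → Fix M₃ → M₁ ≠ M₂ → M₁ ≠ M₃ → M₂ ≠ M₃ → False := by
    intro M₁ M₂ M₃ f₁ f₂ f₃ h₁₂ h₁₃ h₂₃
    obtain ⟨v, hv, hv1⟩ := hlineEx M₁
    obtain ⟨w, hw, hw1⟩ := hlineEx M₂
    obtain ⟨u, hu, hu1⟩ := hlineEx M₃
    have hwv : w ∉ zpowers v := fun h => h₁₂ (Subtype.ext ((hlineGen M₁ w ((hlineGen M₁ v hv hv1).ge h) hw1).trans
      (hlineGen M₂ w hw hw1).symm))
    obtain ⟨i, j, rfl⟩ := hgen hv1 hwv u
    have hvi : v ^ i ≠ 1 := fun h => by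
      rw [h, one_mul] at hu hu1
      exact h₂₃ (Subtype.ext ((hlineGen M₂ _ (M₂.1.zpow_mem hw j) hu1).trans (hlineGen M₃ _ hu hu1).symm))
    have hwj : w ^ j ≠ 1 := fun h => by
      rw [h, mul_one] at hu hu1
      exact h₁₃ (Subtype.ext ((hlineGen M₁ _ (M₁.1.zpow_mem hv i) hu1).trans (hlineGen M₃ _ hu hu1).symm))
    set a := v ^ i with ha'
    set b := w ^ j with hb'
    have hav : a ∈ M₁.1 := M₁.1.zpow_mem hv i
    have hbw : b ∈ M₂.1 := M₂.1.zpow_mem hw j
    obtain ⟨l, hl⟩ := heig M₁ f₁ a hav hvi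
    obtain ⟨m, hm⟩ := heig M₂ f₂ b hbw hwj
    obtain ⟨r, hr⟩ := heig M₃ f₃ (a * b) hu hu1
    clear_value a b
    have hdisj : ∀ g, g ∈ M₁.1 → g ∈ M₂.1 → g = 1 := fun g h1 h2 => by
      by_contra hg
      exact h₁₂ (Subtype.ext ((hlineGen M₁ g h1 hg).trans (hlineGen M₂ g h2 hg).symm))
    rw [map_mul, hl, hm, mul_zpow] at hr
    have h1 : a ^ (l - r) = b ^ (r - m) := by
      rw [zpow_sub, zpow_sub]
      calc a ^ l * (a ^ r)⁻¹ = (a ^ l * b ^ m) * (a ^ r)⁻¹ * (b ^ m)⁻¹ := by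
            rw [mul_right_comm (a ^ l) (b ^ m), mul_assoc (a ^ l * (a ^ r)⁻¹), mul_inv_cancel, mul_one]
        _ = (a ^ r * b ^ r) * (a ^ r)⁻¹ * (b ^ m)⁻¹ := by rw [hr]
        _ = b ^ r * (b ^ m)⁻¹ := by rw [mul_inv_cancel_comm]
    have h2 := hdisj _ (M₁.1.zpow_mem hav (l - r)) (h1 ▸ M₂.1.zpow_mem hbw (r - m))
    have h3 : b ^ (r - m) = 1 := h1 ▸ h2
    rw [zpow_sub, mul_inv_eq_one] at h2 h3
    rw [h2] at hl
    rw [← h3] at hm
    -- `c` is a scalar
    have hcu : ∀ g, c g = g ^ r := by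
      have hab : b ∉ zpowers a := fun h => h₁₂ (Subtype.ext ((hlineGen M₁ b ((hlineGen M₁ a hav hvi).ge h) hwj).trans
        (hlineGen M₂ b hbw hwj).symm))
      intro g
      obtain ⟨i', j', rfl⟩ := hgen hvi hab g
      rw [map_mul, map_zpow c a, map_zpow c b, hl, hm, mul_zpow, ← zpow_mul, ← zpow_mul, ← zpow_mul, ← zpow_mul,
        mul_comm r i', mul_comm r j']
    have hnat : ∃ e : ℕ, ∀ g : P, g ^ r = g ^ e := by
      refine ⟨(r % (s : ℤ)).toNat, fun g => ?_⟩
      have h0 : (0 : ℤ) ≤ r % (s : ℤ) := Int.emod_nonneg _ (by exact_mod_cast hs.out.ne_zero)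
      rw [← zpow_natCast, Int.toNat_of_nonneg h0]
      conv_lhs => rw [← Int.emod_add_mul_ediv r s, zpow_add, zpow_mul, zpow_natCast, hexp, one_zpow, mul_one]
    obtain ⟨e, he⟩ := hnat
    have hpowl : ∀ (n : ℕ) g h, β (g ^ n) h = β g h ^ n := fun n g h => by
      induction n with
      | zero =>
        have h4 := hβl 1 1 h
        rw [mul_one] at h4
        rw [pow_zero, pow_zero]
        exact (mul_eq_left₀ (hβzero 1 h)).1 h4.symm
      | succ n ih => rw [pow_succ, pow_succ, hβl, ih]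
    have hpowr : ∀ (n : ℕ) g h, β g (h ^ n) = β g h ^ n := fun n g h => by
      induction n with
      | zero => rw [pow_zero, pow_zero, hβr1]
      | succ n ih => rw [pow_succ, pow_succ, hβr, ih]
    have hee : ∀ g : P, g ^ (e * e) = g := by
      intro g
      have h4 : ∀ h, β (g ^ (e * e) * g⁻¹) h = 1 := by
        intro h
        have h5 := hCβ c hcC g h
        rw [hcu, hcu, he, he, hpowl, hpowr, ← pow_mul, ← hpowl] at h5
        have h6 := hβl (g ^ (e * e) * g⁻¹) g h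
        rw [inv_mul_cancel_right, h5] at h6
        exact (mul_eq_right₀ (hβzero g h)).1 h6.symm
      exact mul_inv_eq_one.1 (hnd _ h4)
    refine hc1 (hsquare c hcC (MulEquiv.ext fun g => ?_))
    rw [MulAut.mul_apply, hcu, hcu, he, he, ← pow_mul, hee, MulAut.one_apply]
  -- `y ^ 2` fixes a line
  obtain ⟨M, hMfix, hM⟩ : ∃ M, Fix M ∧ mv (mv M) = M := by
    by_cases h : mv (mv L) = L
    · exact ⟨L, hLfix, h⟩
    · exfalso
      refine hthree L (mv L) (mv (mv L)) hLfix (hmv _ hLfix) (hmv _ (hmv _ hLfix)) (fun e => h ?_) (Ne.symm h)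
        (fun e => h ?_)
      · rw [← e, ← e]
      · have : L = mv L := Subtype.ext (map_injective y.injective (congrArg Subtype.val e))
        rw [← this, ← this]
  obtain ⟨v, hv, hv1⟩ := hlineEx M
  have hy2 : (y ^ 2) v ∈ M.1 := by
    have h : y (y v) ∈ (mv (mv M)).1 := ⟨y v, ⟨v, hv, rfl⟩, rfl⟩
    rw [hM] at h
    rwa [pow_two, MulAut.mul_apply]
  obtain ⟨a, ha⟩ := mem_zpowers_iff.1 ((hlineGen M v hv hv1).le hy2)
  have hk2 : 2 ≤ k := by
    by_contra h
    interval_cases k <;> · have := hs.out.two_le; simp at hk <;> omega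
  have hs1 : ¬ (s : ℤ) ∣ a := fun ⟨t, ht⟩ => hv1 ((y ^ 2).injective (by
    rw [map_one, ← ha, ht, zpow_mul, zpow_natCast, hexp, one_zpow]))
  have hiter : ∀ j : ℕ, ((y ^ 2) ^ j) v = v ^ (a ^ j) := fun j => by
    induction j with
    | zero => simp
    | succ j ih => rw [pow_succ, MulAut.mul_apply, ← ha, map_zpow, ih, ← zpow_mul, ← pow_succ]
  have hfer : v ^ (a ^ (s - 1)) = v := by
    have h1 : a ^ (s - 1) ≡ 1 [ZMOD s] := Int.ModEq.pow_card_sub_one_eq_one hs.out
      (((Nat.prime_iff_prime_int.1 hs.out).coprime_iff_not_dvd.2 hs1).symm)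
    obtain ⟨t, ht⟩ := h1.symm.dvd
    rw [show a ^ (s - 1) = 1 + (s : ℤ) * t by rw [← ht]; ring, zpow_add, zpow_one, zpow_mul, zpow_natCast, hexp,
      one_zpow, mul_one]
  rcases eq_or_lt_of_le hk2 with hk2' | hk3
  · -- `s = 3`
    subst hk2'
    have hs3 : s = 3 := by norm_num at hk; omega
    subst hs3
    obtain ⟨u, hu, hu1⟩ := hlineEx L
    obtain ⟨b, hb⟩ := mem_zpowers_iff.1 ((hlineGen L u hu hu1).le (hLfix c hcC u hu))
    refine hc1 (hsquare c hcC (hfix _ (mul_mem hcC hcC) u hu1 ?_))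
    rw [MulAut.mul_apply, ← hb, map_zpow, ← hb, ← zpow_mul]
    have hb3 : ¬ (3 : ℤ) ∣ b := fun ⟨t, ht⟩ => hu1 (c.injective (by
      rw [map_one, ← hb, ht, zpow_mul, show (3 : ℤ) = ((3 : ℕ) : ℤ) from rfl, zpow_natCast, hexp, one_zpow]))
    obtain ⟨t, ht⟩ : ∃ t, b * b = 1 + 3 * t := by
      rcases (⟨b / 3, by omega⟩ : ∃ t : ℤ, b = 3 * t + 1 ∨ b = 3 * t + 2) with ⟨t, rfl | rfl⟩
      · exact ⟨3 * t * t + 2 * t, by ring⟩
      · exact ⟨3 * t * t + 4 * t + 1, by ring⟩
    rw [ht, zpow_add, zpow_one, zpow_mul, show (3 : ℤ) = ((3 : ℕ) : ℤ) from rfl, zpow_natCast, hexp, one_zpow, mul_one]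
  · -- `y ^ 4` fixes `v`
    have h8 : 8 ≤ 2 ^ k := by
      calc (8 : ℕ) = 2 ^ 3 := by norm_num
        _ ≤ 2 ^ k := Nat.pow_le_pow_right (by norm_num) hk3
    have hv' : (y ^ (2 * (s - 1))) v = v := by rw [pow_mul, hiter, hfer]
    have h4 : y ^ 4 * y ^ (2 * (s - 1)) = 1 := by
      rw [← pow_add, show 4 + 2 * (s - 1) = 2 ^ k * 2 by omega, pow_mul, hy, one_pow]
    refine hv1 (hyfree 4 (by omega) (by omega) v ?_)
    conv_lhs => rw [← hv']
    rw [← MulAut.mul_apply, h4, MulAut.one_apply]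

end Cfsg.Agent.ShultGross
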