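import Cfsg.Agent.S4218
import Cfsg.Agent.Fusion.Frattini
import Cfsg.Agent.Fusion.SolvablePSolvable

/-!
2-elements acting as a quarter turn of a single plane: inside a 2-group two of them have the same plane or
commute; hence their squares lie in `O_{2',2}`.
-/

set_option autoImplicit false

open Subgroup
open scoped commutatorElement Pointwise

namespace Cfsg.Agent.ShultGross

variable {Γ : Type*} [Group Γ] {F : Type*} [Field F] {W : Type*} [AddCommGroup W] [Module F W]
  (ρ : Γ →* Module.End F W)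

/-- The moved subspace. -/
def moved (z : Γ) : Submodule F W := LinearMap.range (ρ z - 1)

/-- A quarter turn of a plane. -/
def IsQuarter (z : Γ) : Prop :=
  Module.finrank F (moved ρ z) = 2 ∧ ∀ v ∈ moved ρ z, ρ z (ρ z v) = - v

variable {ρ}

theorem sub_mem_moved (z : Γ) (w : W) : ρ z w - w ∈ moved ρ z := ⟨w, rfl⟩

theorem moved_invariant (z : Γ) {v : W} (hv : v ∈ moved ρ z) : ρ z v ∈ moved ρ z := by
  obtain ⟨w, rfl⟩ := hv
  exact ⟨ρ z w, by simp⟩

theorem eq_zero_of_fixed (h2 : (2 : F) ≠ 0) {z : Γ} (hz : IsQuarter ρ z) {v : W} (hv : v ∈ moved ρ z)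
    (h : ρ z v = v) : v = 0 := by
  have h1 := hz.2 v hv
  rw [h, h, eq_neg_iff_add_eq_zero, ← two_smul F] at h1
  exact (smul_eq_zero.1 h1).resolve_left h2

theorem bot_or_eq_of_invariant (hi : ∀ c : F, c * c ≠ -1) [FiniteDimensional F W] {z : Γ}
    (hz : IsQuarter ρ z) {U : Submodule F W} (hU : U ≤ moved ρ z) (hUi : ∀ u ∈ U, ρ z u ∈ U) :
    U = ⊥ ∨ U = moved ρ z := by
  have hle := Submodule.finrank_mono hU
  rw [hz.1] at hle
  rcases Nat.lt_or_ge (Module.finrank F U) 2 with h | h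
  · rcases Nat.eq_zero_or_pos (Module.finrank F U) with h0 | h0
    · exact Or.inl (Submodule.finrank_eq_zero.1 h0)
    · exfalso
      obtain ⟨⟨u, hu⟩, hu0, hspan⟩ := finrank_eq_one_iff'.1 (show Module.finrank F U = 1 by omega)
      obtain ⟨c, hc⟩ := hspan ⟨ρ z u, hUi u hu⟩
      have hc' : c • u = ρ z u := congrArg Subtype.val hc
      have h1 := hz.2 u (hU hu)
      rw [← hc', map_smul, ← hc', smul_smul, ← neg_one_smul F u, ← sub_eq_zero, ← sub_smul] at h1
      refine hi c ?_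
      have hu0' : u ≠ 0 := fun h => hu0 (Subtype.ext h)
      exact sub_eq_zero.1 ((smul_eq_zero.1 h1).resolve_right hu0')
  · exact Or.inr (Submodule.eq_of_le_of_finrank_le hU (by rw [hz.1]; exact h))

theorem moved_conj (g z : Γ) : moved ρ (g * z * g⁻¹) = (moved ρ z).map (ρ g) := by
  have hcancel : ∀ w, ρ g (ρ g⁻¹ w) = w := fun w => by
    rw [← Module.End.mul_apply, ← map_mul, mul_inv_cancel, map_one, Module.End.one_apply]
  have h : ∀ w, (ρ (g * z * g⁻¹) - 1) w = ρ g ((ρ z - 1) (ρ g⁻¹ w)) := fun w => by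
    simp [map_mul, hcancel]
  ext v
  constructor
  · rintro ⟨w, rfl⟩
    exact ⟨_, ⟨ρ g⁻¹ w, rfl⟩, (h w).symm⟩
  · rintro ⟨_, ⟨u, rfl⟩, rfl⟩
    refine ⟨ρ g u, ?_⟩
    rw [h, ← Module.End.mul_apply (ρ g⁻¹), ← map_mul, inv_mul_cancel, map_one, Module.End.one_apply]

theorem apply_injective' (g : Γ) : Function.Injective (ρ g) := fun a b h => by
  have := congrArg (ρ g⁻¹) h
  rwa [← Module.End.mul_apply, ← Module.End.mul_apply, ← map_mul, inv_mul_cancel, map_one] at this

theorem IsQuarter.conj {z : Γ} (hz : IsQuarter ρ z) (g : Γ) : IsQuarter ρ (g * z * g⁻¹) := by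
  refine ⟨?_, ?_⟩
  · rw [moved_conj, ← LinearEquiv.finrank_eq (Submodule.equivMapOfInjective _ (apply_injective' g) _), hz.1]
  · rw [moved_conj]
    rintro _ ⟨u, hu, rfl⟩
    rw [← Module.End.mul_apply, ← Module.End.mul_apply, ← map_mul, ← map_mul,
      show g * z * g⁻¹ * (g * z * g⁻¹) * g = g * (z * z) by group, map_mul, map_mul, Module.End.mul_apply,
      Module.End.mul_apply, hz.2 u hu, map_neg]

variable [Finite Γ] [FiniteDimensional F W]

omit [FiniteDimensional F W] in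
theorem decomp (h2 : (2 : F) ≠ 0) {z : Γ} (hz : IsQuarter ρ z) (v : W) :
    ∃ p ∈ moved ρ z, ρ z (v - p) = v - p := by
  have hm : ρ z (ρ z v) - v ∈ moved ρ z := by
    have h := (moved ρ z).add_mem (sub_mem_moved z (ρ z v)) (sub_mem_moved z v)
    rwa [sub_add_sub_cancel] at h
  refine ⟨-(2⁻¹ : F) • (ρ z (ρ z v) - v), Submodule.smul_mem _ _ hm, ?_⟩
  set p := -(2⁻¹ : F) • (ρ z (ρ z v) - v) with hp
  have hpm : p ∈ moved ρ z := Submodule.smul_mem _ _ hm
  have hu : ρ z (ρ z (v - p)) = v - p := by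
    rw [map_sub, map_sub, hz.2 p hpm]
    have h3 : p + p = v - ρ z (ρ z v) := by
      rw [← two_smul F, hp, smul_smul, mul_neg, mul_inv_cancel₀ h2, neg_one_smul, neg_sub]
    rw [eq_sub_iff_add_eq, sub_neg_eq_add, add_assoc, h3, add_sub_cancel]
  refine sub_eq_zero.1 (eq_zero_of_fixed h2 hz (sub_mem_moved z _) ?_)
  have h1 := hz.2 _ (sub_mem_moved z (v - p))
  rw [map_sub (ρ z) (ρ z (v - p)), hu, map_sub, hu] at h1
  rw [map_sub (ρ z) (ρ z (v - p)), hu]
  rw [neg_sub] at h1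
  -- both sides are the same vector up to sign
  have h4 : ρ z (v - p) - (v - p) + (ρ z (v - p) - (v - p)) = 0 := by
    nth_rw 1 [h1]; abel
  rw [← two_smul F] at h4
  have h5 := (smul_eq_zero.1 h4).resolve_left h2
  rw [sub_eq_zero.1 h5]

/-- An element of a 2-group stabilising the plane stabilises the fixed space. -/
theorem preserves_fixed (h2 : (2 : F) ≠ 0) {L : Subgroup Γ} (hL : IsPGroup 2 L) {z : Γ} (hzL : z ∈ L)
    (hz : IsQuarter ρ z) {y : Γ} (hyL : y ∈ L) (hy : (moved ρ z).map (ρ y) = moved ρ z) {c : W}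
    (hc : ρ z c = c) : ρ z (ρ y c) = ρ y c := by
  classical
  let L0 : Subgroup Γ :=
    { carrier := {g | g ∈ L ∧ (moved ρ z).map (ρ g) = moved ρ z}
      one_mem' := ⟨L.one_mem, by rw [map_one, Module.End.one_eq_id, Submodule.map_id]⟩
      mul_mem' := fun {g h} hg hh => ⟨L.mul_mem hg.1 hh.1, by
        rw [map_mul, Module.End.mul_eq_comp, Submodule.map_comp, hh.2, hg.2]⟩
      inv_mem' := fun {g} hg => ⟨L.inv_mem hg.1, by
        conv_lhs => rw [← hg.2]
        rw [← Submodule.map_comp, ← Module.End.mul_eq_comp, ← map_mul, inv_mul_cancel, map_one,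
          Module.End.one_eq_id, Submodule.map_id]⟩ }
  haveI := Fintype.ofFinite L0
  set π : Module.End F W := (2⁻¹ : F) • (1 - ρ z * ρ z) with hπ
  have hπm : ∀ w, π w ∈ moved ρ z := fun w => by
    refine Submodule.smul_mem _ _ ?_
    have h := (moved ρ z).neg_mem ((moved ρ z).add_mem (sub_mem_moved z (ρ z w)) (sub_mem_moved z w))
    rwa [sub_add_sub_cancel, neg_sub] at h
  have hπid : ∀ p ∈ moved ρ z, π p = p := fun p hp => by
    show (2⁻¹ : F) • (p - ρ z (ρ z p)) = p
    rw [hz.2 p hp, sub_neg_eq_add, ← two_smul F, smul_smul, inv_mul_cancel₀ h2, one_smul]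
  set e : Module.End F W := ∑ g : L0, ρ (g : Γ) * π * ρ (g : Γ)⁻¹ with he
  have hem : ∀ w, e w ∈ moved ρ z := fun w => by
    rw [he, LinearMap.sum_apply]
    exact Submodule.sum_mem _ fun g _ => g.2.2.le ⟨_, hπm _, rfl⟩
  have hid : ∀ p ∈ moved ρ z, e p = (Fintype.card L0 : F) • p := fun p hp => by
    rw [he, LinearMap.sum_apply, Finset.sum_congr rfl (g := fun _ => p) fun g _ => ?_, Finset.sum_const,
      Finset.card_univ, Nat.cast_smul_eq_nsmul]
    show ρ (g : Γ) (π (ρ (g : Γ)⁻¹ p)) = p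
    rw [hπid _ ((L0.inv_mem g.2).2.le ⟨p, hp, rfl⟩), ← Module.End.mul_apply, ← map_mul, mul_inv_cancel, map_one,
      Module.End.one_apply]
  have hcard : (Fintype.card L0 : F) ≠ 0 := by
    obtain ⟨j, hj⟩ := IsPGroup.iff_card.1 (hL.to_le (fun g hg => hg.1 : L0 ≤ L))
    rw [← Nat.card_eq_fintype_card, hj, Nat.cast_pow]
    exact pow_ne_zero j h2
  have hcomm : ∀ h ∈ L0, ∀ w, e (ρ h w) = ρ h (e w) := by
    intro h hh w
    rw [he, LinearMap.sum_apply, LinearMap.sum_apply, map_sum, ← Equiv.sum_comp (Equiv.mulLeft (⟨h, hh⟩ : L0))]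
    refine Finset.sum_congr rfl fun g _ => ?_
    simp only [Equiv.coe_mulLeft, Module.End.mul_apply]
    rw [Subgroup.coe_mul, mul_inv_rev]
    simp only [← Module.End.mul_apply, ← map_mul]
    rw [map_mul ρ h, inv_mul_cancel_right]
    simp only [mul_assoc]
  have hzL0 : z ∈ L0 := ⟨hzL, by
    refine Submodule.eq_of_le_of_finrank_le ?_ ?_
    · rintro _ ⟨v, hv, rfl⟩; exact moved_invariant z hv
    · rw [← LinearEquiv.finrank_eq (Submodule.equivMapOfInjective _ (apply_injective' z) _)]⟩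
  have hker : ∀ {w}, e w = 0 ↔ ρ z w = w := by
    intro w
    constructor
    · intro hw
      have h1 := hid _ (sub_mem_moved z w)
      rw [map_sub, hcomm z hzL0, hw, map_zero, sub_zero] at h1
      exact sub_eq_zero.1 ((smul_eq_zero.1 h1.symm).resolve_left hcard)
    · intro hw
      have h1 := hcomm z hzL0 w
      rw [hw] at h1
      exact eq_zero_of_fixed h2 hz (hem w) h1.symm
  exact hker.1 (by rw [hcomm y ⟨hyL, hy⟩, hker.2 hc, map_zero])

/-- Two quarter turns in a 2-group have the same plane or commute. -/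
theorem moved_eq_or_commute (h2 : (2 : F) ≠ 0) (hi : ∀ c : F, c * c ≠ -1) :
    ∀ (N : ℕ) (L : Subgroup Γ), Nat.card L ≤ N → IsPGroup 2 L → ∀ z ∈ L, ∀ w ∈ L, IsQuarter ρ z →
      IsQuarter ρ w → moved ρ z = moved ρ w ∨ Commute (ρ z) (ρ w) := by
  classical
  haveI : Fact (Nat.Prime 2) := ⟨Nat.prime_two⟩
  intro N
  induction N with
  | zero => intro L h; exact absurd h (Nat.not_le.2 Nat.card_pos)
  | succ N ih =>
  intro L hN hL z hzL w hwL hz hw
  by_cases hzw : zpowers z = L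
  · obtain ⟨i, rfl⟩ := mem_zpowers_iff.1 (hzw.symm ▸ hwL)
    exact Or.inr ((((Commute.refl z).zpow_right i)).map ρ)
  -- a normal maximal subgroup containing `z`
  haveI := hL.isNilpotent
  obtain ⟨M0, hM0, hzM0⟩ : ∃ M0 : Subgroup L, IsCoatom M0 ∧ (⟨z, hzL⟩ : L) ∈ M0 := by
    have hne : zpowers (⟨z, hzL⟩ : L) ≠ ⊤ := fun h => hzw (by
      have h1 := congrArg (Subgroup.map L.subtype) h
      rwa [MonoidHom.map_zpowers, ← MonoidHom.range_eq_map, range_subtype] at h1)
    obtain ⟨M0, hM0, hle⟩ := (eq_top_or_exists_le_coatom _).resolve_left hne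
    exact ⟨M0, hM0, hle (mem_zpowers _)⟩
  haveI : M0.Normal := Subgroup.NormalizerCondition.normal_of_coatom M0
    Group.normalizerCondition_of_isNilpotent hM0
  set M := M0.map L.subtype with hM
  have hML : M ≤ L := map_subtype_le _
  have hMc : Nat.card M ≤ N := by
    have : Nat.card M < Nat.card L := by
      refine lt_of_le_of_ne (card_le_of_le hML) fun h => hM0.1 ?_
      rw [hM, card_map_of_injective L.subtype_injective] at h
      exact (card_eq_iff_eq_top M0).1 h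
    omega
  have hzM : z ∈ M := ⟨_, hzM0, rfl⟩
  have hMp : IsPGroup 2 M := hL.to_le hML
  have hconj : ∀ g ∈ M, w * g * w⁻¹ ∈ M := by
    rintro _ ⟨g, hg, rfl⟩
    exact ⟨_, Normal.conj_mem inferInstance g hg ⟨w, hwL⟩, rfl⟩
  set z1 := w * z * w⁻¹ with hz1
  set P := moved ρ z with hP
  set Q := moved ρ w with hQ
  by_cases heq : moved ρ z = moved ρ z1
  · -- `w` stabilises the plane
    have hwP : P.map (ρ w) = P := by rw [hP, ← moved_conj]; exact heq.symm
    rcases bot_or_eq_of_invariant hi hw (U := P.map (ρ w - 1)) (LinearMap.map_le_range) (by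
      rintro _ ⟨v, hv, rfl⟩
      exact ⟨ρ w v, hwP.le ⟨v, hv, rfl⟩, by simp⟩) with h | h
    · refine Or.inr ?_
      have hfixP : ∀ v ∈ P, ρ w v = v := fun v hv => by
        have h1 : (ρ w - 1) v ∈ P.map (ρ w - 1) := ⟨v, hv, rfl⟩
        rw [h, Submodule.mem_bot] at h1
        exact sub_eq_zero.1 h1
      refine LinearMap.ext fun v => ?_
      obtain ⟨p, hp, hfix⟩ := decomp h2 hz v
      have hpres := preserves_fixed h2 hL hzL hz hwL hwP hfix
      rw [Module.End.mul_apply, Module.End.mul_apply, ← sub_add_cancel v p, map_add, map_add, map_add, map_add,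
        hpres, hfix, hfixP p hp, hfixP _ (moved_invariant z hp)]
    · refine Or.inl (Submodule.eq_of_le_of_finrank_le ?_ ?_).symm
      · refine h.symm.le.trans ?_
        rintro _ ⟨v, hv, rfl⟩
        exact P.sub_mem (hwP.le ⟨v, hv, rfl⟩) hv
      · rw [hz.1, hw.1]
  · -- the conjugate planes are independent
    have hcm := (ih M hMc hMp z hzM z1 (hconj z hzM) hz (hz.conj w)).resolve_left heq
    set P1 := moved ρ z1 with hP1
    have hP1w : P.map (ρ w) = P1 := by rw [hP, hP1, hz1, moved_conj]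
    have hzP1 : ∀ v ∈ P1, ρ z v ∈ P1 := by
      rintro _ ⟨u, rfl⟩
      refine ⟨ρ z u, ?_⟩
      simp only [LinearMap.sub_apply, Module.End.one_apply, map_sub]
      rw [← Module.End.mul_apply, ← hcm.eq, Module.End.mul_apply]
    have hinf : P ⊓ P1 = ⊥ := by
      refine (bot_or_eq_of_invariant hi hz inf_le_left fun u hu =>
        ⟨moved_invariant z hu.1, hzP1 u hu.2⟩).resolve_right fun h => heq ?_
      exact Submodule.eq_of_le_of_finrank_le (inf_eq_left.1 h) (by rw [hz.1, (hz.conj w).1])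
    have hfix1 : ∀ v ∈ P1, ρ z v = v := fun v hv => by
      have h1 : ρ z v - v ∈ P ⊓ P1 := ⟨sub_mem_moved z v, P1.sub_mem (hzP1 v hv) hv⟩
      rw [hinf, Submodule.mem_bot] at h1
      exact sub_eq_zero.1 h1
    have hinjP : ∀ v ∈ P, ρ w v = v → v = 0 := fun v hv h => by
      have h1 : v ∈ P ⊓ P1 := ⟨hv, hP1w.le ⟨v, hv, h⟩⟩
      rwa [hinf, Submodule.mem_bot] at h1
    -- the plane of `w`
    have hQeq : P.map (ρ w - 1) = Q := by
      refine Submodule.eq_of_le_of_finrank_le LinearMap.map_le_range ?_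
      rw [hw.1, ← LinearMap.range_domRestrict, LinearMap.finrank_range_of_inj ?_, hz.1]
      rintro ⟨a, ha⟩ ⟨b, hb⟩ h
      have h1 : ρ w a - a = ρ w b - b := h
      refine Subtype.ext (sub_eq_zero.1 (hinjP (a - b) (P.sub_mem ha hb) ?_))
      rw [map_sub, sub_eq_sub_iff_sub_eq_sub.1 h1]
    -- the plane moves back
    have hP2 : P1.map (ρ w) = P := by
      set z2 := w * z1 * w⁻¹ with hz2
      have hP2e : P1.map (ρ w) = moved ρ z2 := by rw [hz2, moved_conj]
      by_contra hne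
      rw [hP2e] at hne
      have hc2 := (ih M hMc hMp z hzM z2 (hconj _ (hconj z hzM)) hz ((hz.conj w).conj w)).resolve_left
        (fun h => hne h.symm)
      have hzP2 : ∀ v ∈ moved ρ z2, ρ z v ∈ moved ρ z2 := by
        rintro _ ⟨u, rfl⟩
        refine ⟨ρ z u, ?_⟩
        simp only [LinearMap.sub_apply, Module.End.one_apply, map_sub]
        rw [← Module.End.mul_apply, ← hc2.eq, Module.End.mul_apply]
      have hinf2 : P ⊓ moved ρ z2 = ⊥ := by
        refine (bot_or_eq_of_invariant hi hz inf_le_left fun u hu =>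
          ⟨moved_invariant z hu.1, hzP2 u hu.2⟩).resolve_right fun h => hne ?_
        exact (Submodule.eq_of_le_of_finrank_le (inf_eq_left.1 h) (by rw [hz.1, ((hz.conj w).conj w).1])).symm
      have hle : moved ρ z2 ≤ P1 := by
        intro v hv
        obtain ⟨u, hu, rfl⟩ := hP2e.ge hv
        have hzv : ρ z (ρ w u) = ρ w u := by
          have h1 : ρ z (ρ w u) - ρ w u ∈ P ⊓ moved ρ z2 :=
            ⟨sub_mem_moved z _, (moved ρ z2).sub_mem (hzP2 _ hv) hv⟩
          rw [hinf2, Submodule.mem_bot] at h1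
          exact sub_eq_zero.1 h1
        obtain ⟨a, ha, hae⟩ := hP1w.ge hu
        obtain ⟨p, hp, hpe⟩ := hQeq.ge (show ρ w u - u ∈ Q from sub_mem_moved w u)
        -- `ρ w u = (u + ρ w p) - p`
        have hsum : ρ w u + p ∈ P1 := by
          have h1 : ρ w p - p = ρ w u - u := hpe
          rw [show ρ w u + p = u + ρ w p by
            rw [eq_add_of_sub_eq h1.symm]; abel]
          exact P1.add_mem hu (hP1w.le ⟨p, hp, rfl⟩)
        have h2' : ρ z p = p := by
          have h1 := hfix1 _ hsum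
          rwa [map_add, hzv, add_right_inj] at h1
        rwa [eq_zero_of_fixed h2 hz hp h2', add_zero] at hsum
      refine heq ?_
      have h1 : P1.map (ρ w) = P1 := hP2e.trans (Submodule.eq_of_le_of_finrank_le hle
        (by rw [(hz.conj w).1, ((hz.conj w).conj w).1]))
      exact Submodule.map_injective_of_injective (apply_injective' w) (hP1w.trans h1.symm)
    exfalso
    have hQ0 : Q = ⊥ := by
      rw [← hQeq, Submodule.eq_bot_iff]
      rintro _ ⟨v, hv, rfl⟩
      set u := ρ w v - v with hu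
      show u = 0
      obtain ⟨v0, hv0, hv0e⟩ := hQeq.ge (moved_invariant w (sub_mem_moved w v))
      have hv0e' : ρ w v0 - v0 = ρ w u := hv0e
      have hwv : ρ w v ∈ P1 := hP1w.le ⟨v, hv, rfl⟩
      have hwwv : ρ w (ρ w v) ∈ P := hP2.le ⟨_, hwv, rfl⟩
      have hkey : ρ w (ρ w v) + v0 = ρ w (v + v0) := by
        rw [map_add, eq_add_of_sub_eq hv0e', hu, map_sub]; abel
      have hz0 : v + v0 = 0 := by
        have h1 : ρ w (v + v0) ∈ P ⊓ P1 := ⟨hkey ▸ P.add_mem hwwv hv0, hP1w.le ⟨_, P.add_mem hv hv0, rfl⟩⟩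
        rw [hinf, Submodule.mem_bot] at h1
        exact apply_injective' w (h1.trans (map_zero _).symm)
      have hsq : ρ w (ρ w v) = v := by
        rw [hz0, map_zero, add_eq_zero_iff_eq_neg] at hkey
        rw [hkey, eq_neg_of_add_eq_zero_left hz0]
      have h1 := hw.2 u (sub_mem_moved w v)
      rw [hu, map_sub, map_sub, hsq, ← hu, eq_neg_iff_add_eq_zero, ← two_smul F] at h1
      exact (smul_eq_zero.1 h1).resolve_left h2
    have h3 := hw.1
    rw [← hQ, hQ0, finrank_bot] at h3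
    exact absurd h3 (by norm_num)

/-- The commutator of the square with an element of the 2-group is trivial or a square. -/
theorem commutator_sq (h2 : (2 : F) ≠ 0) (hi : ∀ c : F, c * c ≠ -1) (hinj : Function.Injective ρ)
    {L : Subgroup Γ} (hL : IsPGroup 2 L) {z : Γ} (hzL : z ∈ L) (hz : IsQuarter ρ z) {t : Γ} (ht : t ∈ L) :
    ⁅z * z, t⁆ = 1 ∨ ⁅z * z, t⁆ = ⁅z, t⁆ ^ 2 := by
  have hz1L : t * z * t⁻¹ ∈ L := L.mul_mem (L.mul_mem ht hzL) (L.inv_mem ht)
  rcases moved_eq_or_commute h2 hi (Nat.card L) L le_rfl hL z hzL _ hz1L hz (hz.conj t) with h | h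
  · refine Or.inl (commutatorElement_eq_one_iff_commute.2 (hinj (LinearMap.ext fun v => ?_)))
    rw [moved_conj] at h
    obtain ⟨p, hp, hfix⟩ := decomp h2 hz v
    have hpres := preserves_fixed h2 hL hzL hz ht h.symm hfix
    have htp : ρ t p ∈ moved ρ z := h.ge ⟨p, hp, rfl⟩
    simp only [map_mul, Module.End.mul_apply]
    rw [← sub_add_cancel v p]
    simp only [map_add, hfix, hpres, hz.2 p hp, hz.2 _ htp, map_neg]
  · refine Or.inr ?_
    have hc : Commute z (t * z * t⁻¹) := hinj (by rw [map_mul, map_mul ρ (t * z * t⁻¹)]; exact h.eq)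
    have h1 : ⁅z, t⁆ = z * (t * z * t⁻¹)⁻¹ := by rw [commutatorElement_def]; group
    have h3 : ⁅z * z, t⁆ = (z * z) * ((t * z * t⁻¹)⁻¹ * (t * z * t⁻¹)⁻¹) := by
      rw [commutatorElement_def]; group
    rw [h1, h3, hc.inv_right.mul_pow, pow_two, pow_two]

/-- In a solvable linear group the square of a quarter turn lies in `O_{2',2}` of a normal subgroup
containing it. -/
theorem sq_mem_pPrimePCore (h2 : (2 : F) ≠ 0) (hi : ∀ c : F, c * c ≠ -1) (hinj : Function.Injective ρ)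
    (hsol : Group.IsSolvable Γ) {z : Γ} (hz2 : IsPGroup 2 (zpowers z)) (hz : IsQuarter ρ z)
    (M : Subgroup Γ) [M.Normal] (hsM : z * z ∈ M) :
    (⟨z * z, hsM⟩ : M) ∈ Cfsg.pPrimePCore 2 M := by
  classical
  haveI : Fact (Nat.Prime 2) := ⟨Nat.prime_two⟩
  haveI := hsol
  haveI : Group.IsSolvable M := inferInstance
  set N0 := Cfsg.pPrimePCore 2 M with hN0
  haveI hN0c : N0.Characteristic := Coprime.pPrimePCore_characteristic
  refine (S4218.result (Fusion.isPSolvable_of_isSolvable M) _).1 ?_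
  obtain ⟨P, hP⟩ := hz2.exists_le_sylow
  let PM : Sylow 2 M := IsPGroup.toSylow (P := (P : Subgroup Γ).subgroupOf M)
    (P.isPGroup'.comap_of_injective M.subtype M.subtype_injective) (Thompson.not_dvd_relIndex_sylow P M)
  set A := Cfsg.pPrimeCore 2 M with hA
  set f := QuotientGroup.mk' (A.subgroupOf N0) with hf
  haveI hAn : A.Normal := inferInstance
  have hAN0 : A ≤ N0 := fun x hx => by
    rw [hN0, Cfsg.pPrimePCore, mem_comap, show QuotientGroup.mk' (Cfsg.pPrimeCore 2 M) x = 1 from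
      (QuotientGroup.eq_one_iff x).mpr hx]
    exact one_mem _
  have hQp : IsPGroup 2 (N0 ⧸ A.subgroupOf N0) := by
    intro u
    obtain ⟨u, rfl⟩ := QuotientGroup.mk_surjective u
    obtain ⟨k, hk⟩ := (Core.pCore_isPGroup (p := 2) (G := M ⧸ A)) ⟨_, u.2⟩
    refine ⟨k, ?_⟩
    rw [← QuotientGroup.mk_pow, QuotientGroup.eq_one_iff, mem_subgroupOf, SubgroupClass.coe_pow,
      ← QuotientGroup.eq_one_iff, QuotientGroup.mk_pow]
    exact congrArg Subtype.val hk
  intro x hx
  obtain ⟨a, ha, t, ⟨htP, htN⟩, rfl⟩ : x ∈ (A : Set M) * (((PM : Subgroup M) ⊓ N0 : Subgroup M) : Set M) := by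
    rw [← normal_mul, hA, hN0, ← Fusion.pPrimePCore_eq_sup PM]
    exact hx
  have htP' : (t : Γ) ∈ (P : Subgroup Γ) := mem_subgroupOf.1 htP
  have hzP : z ∈ (P : Subgroup Γ) := hP (mem_zpowers z)
  set s : M := ⟨z * z, hsM⟩ with hs
  have hzt : ∃ u : N0, ((u : M) : Γ) = ⁅z, (t : Γ)⁆ := by
    have h1 : MulAut.conjNormal z t ∈ N0 := (characteristic_iff_le_comap.mp hN0c (MulAut.conjNormal z : MulAut M)) htN
    refine ⟨⟨MulAut.conjNormal z t * t⁻¹, N0.mul_mem h1 (N0.inv_mem htN)⟩, ?_⟩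
    rw [Subgroup.coe_mul, MulAut.conjNormal_apply, commutatorElement_def]
    rfl
  obtain ⟨u, hu⟩ := hzt
  have hfrat : ∃ w : N0, ((w : M) : Γ) = ⁅z * z, (t : Γ)⁆ ∧ f w ∈ frattini (N0 ⧸ A.subgroupOf N0) := by
    rcases commutator_sq h2 hi hinj P.2 hzP hz htP' with h | h
    · exact ⟨1, by rw [h]; rfl, by rw [map_one]; exact one_mem _⟩
    · exact ⟨u ^ 2, by rw [h, ← hu]; rfl, by rw [map_pow]; exact Core.pow_mem_frattini hQp _⟩
  obtain ⟨w, hw, hwf⟩ := hfrat
  have hsa : ⁅s, a⁆ ∈ A := by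
    rw [commutatorElement_def]
    exact A.mul_mem (hAn.conj_mem a ha s) (A.inv_mem ha)
  have haN : a ∈ N0 := hAN0 ha
  refine ⟨⟨⁅s, a⁆, hAN0 hsa⟩ * (⟨a, haN⟩ * w * ⟨a, haN⟩⁻¹), ?_, ?_⟩
  · show f _ ∈ frattini _
    have h1 : f ⟨⁅s, a⁆, hAN0 hsa⟩ = 1 := (QuotientGroup.eq_one_iff _).2 hsa
    have h3 : f ⟨a, haN⟩ = 1 := (QuotientGroup.eq_one_iff _).2 ha
    rwa [map_mul, map_mul, map_mul, map_inv, h1, h3, one_mul, one_mul, inv_one, mul_one]
  · refine Subtype.ext ?_
    show ((⁅s, a⁆ : M) : Γ) * ((a : Γ) * ((w : M) : Γ) * (a : Γ)⁻¹) = _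
    rw [hw, hs]
    simp only [commutatorElement_def, Subgroup.coe_mul, Subgroup.coe_inv]
    group

end Cfsg.Agent.ShultGross
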