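import Cfsg.Agent.ShultGross.TwoExceptional
import Cfsg.Agent.ShultGross.PlanePair
import Cfsg.Agent.Core.Fitting
import Cfsg.Agent.Fusion.Critical
import Cfsg.Agent.S0121

/-!
The top power of an exceptional 2-element of a solvable linear group in characteristic two lies in
`O_{2',2}`.
-/

set_option autoImplicit false

open Subgroup
open scoped commutatorElement

namespace Cfsg.Agent.ShultGross

open Cfsg.Agent.HallHigman

variable {H : Type*} [Group H] [Finite H] {K : Type*} [Field K] {V : Type*} [AddCommGroup V] [Module K V]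
  (ρ : H →* Module.End K V) (D : Subgroup H)

/-- The operators of `D` acting as scalars on `U`. -/
def scalarsOn (U : Submodule K V) : Subgroup D where
  carrier := {a | ∃ c : K, ∀ v ∈ U, ρ (a : H) v = c • v}
  one_mem' := ⟨1, fun v _ => by rw [OneMemClass.coe_one, map_one, Module.End.one_apply, one_smul]⟩
  mul_mem' := fun {a b} ⟨c, hc⟩ ⟨e, he⟩ => ⟨e * c, fun v hv => by
    rw [Subgroup.coe_mul, map_mul, Module.End.mul_apply, he v hv, map_smul, hc v hv, smul_smul]⟩
  inv_mem' := fun {a} ⟨c, hc⟩ => ⟨c ^ (orderOf a - 1), fun v hv => by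
    have h1 : a⁻¹ = a ^ (orderOf a - 1) := inv_eq_of_mul_eq_one_right (by
      rw [← pow_succ', Nat.sub_add_cancel (orderOf_pos a), pow_orderOf_eq_one])
    have h2 : ∀ j : ℕ, ρ ((a ^ j : D) : H) v = c ^ j • v := fun j => by
      induction j with
      | zero => simp
      | succ j ih =>
        rw [pow_succ' a, Subgroup.coe_mul, map_mul, Module.End.mul_apply, ih, map_smul, hc v hv, smul_smul,
          ← pow_succ]
    rw [h1]
    exact h2 _⟩

variable {ρ D}

theorem scalarsOn_isom {U U' : Submodule K V} (hU : Inv (ρ.comp D.subtype) U)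
    (h : Isom (ρ.comp D.subtype) U U') {a : D} (ha : a ∈ scalarsOn ρ D U) : a ∈ scalarsOn ρ D U' := by
  obtain ⟨c, hc⟩ := ha
  obtain ⟨f, hf⟩ := h
  refine ⟨c, fun v hv => ?_⟩
  obtain ⟨w, hw⟩ := f.surjective ⟨v, hv⟩
  have h1 := hf a w ⟨ρ (a : H) w, hU a _ w.2⟩ rfl
  rw [show (⟨ρ (a : H) w, hU a _ w.2⟩ : U) = c • w from Subtype.ext (hc w w.2), map_smul, hw] at h1
  exact h1.symm

theorem scalarsOn_normal {U : Submodule K V} (hU : Inv (ρ.comp D.subtype) U) :
    (scalarsOn ρ D U).Normal := ⟨fun a ⟨c, hc⟩ g => ⟨c, fun v hv => by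
  rw [Subgroup.coe_mul, Subgroup.coe_mul, Subgroup.coe_inv, map_mul, map_mul, Module.End.mul_apply,
    Module.End.mul_apply, hc (ρ (g : H)⁻¹ v) (hU g⁻¹ v hv), map_smul, apply_inv_apply]⟩⟩

variable (ρ D) [D.Normal]

/-- The stabiliser of the type of `U`. -/
def typeStab {U : Submodule K V} (hU : IsSimpleSub (ρ.comp D.subtype) U) : Subgroup H where
  carrier := {g | Isom (ρ.comp D.subtype) U (U.map (ρ g))}
  one_mem' := by
    show Isom _ U (U.map (ρ 1))
    rw [map_one, Module.End.one_eq_id, Submodule.map_id]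
    exact Isom.refl U
  mul_mem' := fun {g h} hg hh => by
    show Isom _ U (U.map (ρ (g * h)))
    rw [map_mul, Module.End.mul_eq_comp, Submodule.map_comp]
    exact hg.trans (isom_map_of_mem ρ (le_normalizer_of_normal (K := ⊤) (mem_top g)) hh)
  inv_mem' := fun {g} hg => by
    show Isom _ U (U.map (ρ g⁻¹))
    have hn : g⁻¹ ∈ normalizer (D : Set H) := le_normalizer_of_normal (K := ⊤) (mem_top _)
    have h1 := isom_map_of_mem ρ hn hg
    rw [← Submodule.map_comp, ← Module.End.mul_eq_comp, ← map_mul, inv_mul_cancel, map_one,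
      Module.End.one_eq_id, Submodule.map_id] at h1
    exact h1.symm (simple_map_of_mem ρ hn hU).2.1

variable {ρ D}

omit [D.Normal] in
theorem mem_normalizer_top [D.Normal] (g : H) : g ∈ normalizer (D : Set H) :=
  le_normalizer_of_normal (K := ⊤) (mem_top g)

theorem mem_typeStab {U : Submodule K V} {hU : IsSimpleSub (ρ.comp D.subtype) U} {g : H} :
    g ∈ typeStab ρ D hU ↔ Isom (ρ.comp D.subtype) U (U.map (ρ g)) := Iff.rfl

theorem scalarsOn_conj {U : Submodule K V} (hU : IsSimpleSub (ρ.comp D.subtype) U) {g : H}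
    (hg : g ∈ typeStab ρ D hU) {a : D} (ha : a ∈ scalarsOn ρ D U) :
    MulAut.conjNormal g a ∈ scalarsOn ρ D U ∧
      ∀ c : K, (∀ v ∈ U, ρ (a : H) v = c • v) → ∀ v ∈ U, ρ (g * a * g⁻¹) v = c • v := by
  have key : ∀ c : K, (∀ v ∈ U, ρ (a : H) v = c • v) → ∀ v ∈ U, ρ (g * a * g⁻¹) v = c • v := by
    intro c hc v hv
    obtain ⟨f, hf⟩ := mem_typeStab.1 hg
    set w : U := ⟨v, hv⟩
    set b : D := MulAut.conjNormal g a with hb
    have hb' : (b : H) = g * a * g⁻¹ := MulAut.conjNormal_apply g a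
    set w' : U := ⟨ρ (b : H) v, hU.2.1 b v hv⟩
    have h1 := hf b w w' rfl
    obtain ⟨u, hu, hue⟩ := (f w).2
    have h2 : (f w' : V) = c • (f w : V) := by
      rw [h1, ← hue]
      show ρ (b : H) (ρ g u) = c • ρ g u
      rw [hb', map_mul, map_mul, Module.End.mul_apply, Module.End.mul_apply, inv_apply_apply, hc u hu, map_smul]
    have h3 : w' = c • w := f.injective (Subtype.ext (by rw [h2, map_smul]; rfl))
    rw [← hb']
    exact congrArg Subtype.val h3
  refine ⟨?_, key⟩
  obtain ⟨c, hc⟩ := ha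
  exact ⟨c, fun v hv => by rw [MulAut.conjNormal_apply]; exact key c hc v hv⟩

variable [IsAlgClosed K] [FiniteDimensional K V]

/-- The cyclic orbit of the type of `U` under an exceptional element. -/
theorem orbit_data [CharP K 2] {U : Submodule K V} (hU : IsSimpleSub (ρ.comp D.subtype) U) {x : H} {n : ℕ}
    (hxn : x ^ 2 ^ n = 1) (hs : (ρ x - 1) ^ (2 ^ n - 1) = 0) :
    ∃ j < n, x ^ 2 ^ j ∈ typeStab ρ D hU ∧ ∃ U', IsSimpleSub (ρ.comp D.subtype) U' ∧
      Isom (ρ.comp D.subtype) U U' ∧ U'.map (ρ (x ^ 2 ^ j)) = U' ∧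
      ∀ v ∈ U', ((ρ (x ^ 2 ^ j) - 1 : Module.End K V) ^ (2 ^ (n - j) - 1)) v = 0 := by
  classical
  obtain ⟨w0, -, hw0⟩ := (Submodule.ne_bot_iff U).1 hU.1
  haveI : Nontrivial V := ⟨⟨w0, 0, hw0⟩⟩
  haveI : CharP (Module.End K V) 2 := charP_of_injective_algebraMap (algebraMap K (Module.End K V)).injective 2
  set S := typeStab ρ D hU with hS
  have hex : ∃ j, x ^ 2 ^ j ∈ S := ⟨n, by rw [hxn]; exact one_mem S⟩
  set j := Nat.find hex with hj
  have hjn : j ≤ n := Nat.find_min' hex (by rw [hxn]; exact one_mem S)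
  have hnot : ∀ r, 0 < r → r < 2 ^ j → x ^ r ∉ S := by
    intro r hr hrj hmem
    obtain ⟨t, ht, hg⟩ := (Nat.dvd_prime_pow Nat.prime_two).1 (Nat.gcd_dvd_right r (2 ^ n))
    have htj : t < j := by
      by_contra hcon
      have h3 := Nat.le_of_dvd hr (hg ▸ Nat.gcd_dvd_left r (2 ^ n))
      have h4 : 2 ^ j ≤ 2 ^ t := Nat.pow_le_pow_right (by norm_num) (by omega)
      omega
    refine Nat.find_min hex htj ?_
    rw [← hg, ← zpow_natCast, Nat.gcd_eq_gcd_ab, zpow_add, zpow_mul, zpow_mul, zpow_natCast, zpow_natCast, hxn,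
      one_zpow, mul_one]
    exact zpow_mem hmem _
  obtain ⟨U', hiso, hU'y⟩ := exists_invariant_copy ρ (mem_normalizer_top (D := D) (x ^ 2 ^ j)) hU
    (mem_typeStab.1 (Nat.find_spec hex))
  have hU' := Isom.simple hU hiso
  set y := x ^ 2 ^ j with hy
  -- the twisted copies are independent
  have hzero : ∀ u ∈ U', (∑ r ∈ Finset.range (2 ^ j), ρ x ^ r) u = 0 → u = 0 := by
    intro u hu hsum
    set f : ℕ → Submodule K V := fun r => U'.map (ρ (x ^ r)) with hf
    set T := (Finset.range (2 ^ j)).erase 0 with hT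
    have hu' : u ∈ T.sup f := by
      rw [LinearMap.sum_apply, ← Finset.add_sum_erase _ _ (Finset.mem_range.2 (Nat.two_pow_pos j)), pow_zero,
        Module.End.one_apply, ← hT] at hsum
      rw [eq_neg_of_add_eq_zero_left hsum]
      refine neg_mem (Submodule.sum_mem _ fun r hr => ?_)
      exact Finset.le_sup (f := f) hr ⟨u, hu, by rw [map_pow]⟩
    by_contra hu0
    have hsimp : ∀ r ∈ T, IsSimpleSub (ρ.comp D.subtype) (f r) := fun r _ =>
      simple_map_of_mem ρ (mem_normalizer_top _) hU'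
    have hTi : Inv (ρ.comp D.subtype) (T.sup f) := by
      intro g v hv
      have h1 : T.sup f ≤ (T.sup f).comap ((ρ.comp D.subtype) g) := Finset.sup_le fun r hr w hw =>
        Finset.le_sup (f := f) hr ((hsimp r hr).2.1 g w hw)
      exact h1 hv
    rcases hU'.2.2 (U' ⊓ T.sup f) inf_le_left
        (fun g v hv => ⟨hU'.2.1 g v hv.1, hTi g v hv.2⟩) with h | h
    · exact hu0 ((Submodule.mem_bot _).1 (by rw [← h]; exact ⟨hu, hu'⟩))
    · obtain ⟨r, hr, hrw⟩ := exists_isom_of_le_iSup f hU' T hsimp (inf_eq_left.1 h)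
      rw [hT, Finset.mem_erase, Finset.mem_range] at hr
      refine hnot r (Nat.pos_of_ne_zero hr.1) hr.2 ?_
      exact mem_typeStab.2 ((hiso.trans hrw).trans
        ((isom_map_of_mem ρ (mem_normalizer_top _) hiso).symm (simple_map_of_mem ρ (mem_normalizer_top _) hU).2.1))
  have hsplit : ∑ i ∈ Finset.range (2 ^ n), ρ x ^ i =
      (∑ r ∈ Finset.range (2 ^ j), ρ x ^ r) * ∑ k ∈ Finset.range (2 ^ (n - j)), ρ y ^ k := by
    rw [show 2 ^ n = 2 ^ j * 2 ^ (n - j) by rw [← pow_add, Nat.add_sub_cancel' hjn], hy, map_pow]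
    generalize 2 ^ (n - j) = m
    induction m with
    | zero => simp
    | succ m ih =>
      rw [Nat.mul_succ, Finset.sum_range_add, ih, Finset.sum_range_succ _ m, mul_add, Finset.sum_mul _ _ ((ρ x ^ 2 ^ j) ^ m)]
      congr 1
      exact Finset.sum_congr rfl fun r _ => by rw [← pow_mul, ← pow_add, add_comm]
  have hdeg : ∀ v ∈ U', ((ρ y - 1 : Module.End K V) ^ (2 ^ (n - j) - 1)) v = 0 := by
    intro v hv
    refine hzero _ ?_ ?_
    · rw [← geom_sum_char_two, LinearMap.sum_apply]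
      refine Submodule.sum_mem _ fun k hk => ?_
      clear hk
      induction k with
      | zero => simpa using hv
      | succ k ih => rw [pow_succ', Module.End.mul_apply]; exact hU'y.le ⟨_, ih, rfl⟩
    · rw [← geom_sum_char_two, ← Module.End.mul_apply, ← hsplit, geom_sum_char_two, hs, LinearMap.zero_apply]
  refine ⟨j, ?_, Nat.find_spec hex, U', hU', hiso, hU'y, hdeg⟩
  by_contra hge
  obtain ⟨w, hw, hw0⟩ := (Submodule.ne_bot_iff U').1 hU'.1
  have := hdeg w hw
  rw [show n - j = 0 by omega, pow_zero, Nat.sub_self, pow_zero, Module.End.one_apply] at this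
  exact hw0 this

omit [Finite H] in
/-- Automorphisms of an elementary abelian group as linear maps. -/
def autLinear (q : ℕ) (A : Type*) [CommGroup A] [Module (ZMod q) (Additive A)] :
    MulAut A →* Module.End (ZMod q) (Additive A) where
  toFun e := (MonoidHom.toAdditive e.toMonoidHom).toZModLinearMap q
  map_one' := LinearMap.ext fun _ => rfl
  map_mul' _ _ := LinearMap.ext fun _ => rfl

/-- The stable part and the odd part attached to one type. -/
theorem local_step [CharP K 2] (hsol : Group.IsSolvable H) {q : ℕ} [hq : Fact q.Prime] (hq2 : q ≠ 2)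
    (hDp : IsPGroup q D) (hcl : ∀ a ∈ D, ∀ b ∈ D, ∀ c ∈ D, Commute ⁅a, b⁆ c)
    (hpow : ∀ a ∈ D, ∀ c ∈ D, Commute (a ^ q) c) {U : Submodule K V} (hU : IsSimpleSub (ρ.comp D.subtype) U)
    (M : Subgroup H) [M.Normal] (hMS : M ≤ typeStab ρ D hU) {x : H} {n : ℕ}
    (hxn : x ^ 2 ^ n = 1) (hs : (ρ x - 1) ^ (2 ^ n - 1) = 0) (hσM : x ^ 2 ^ (n - 1) ∈ M) :
    ∃ R N : Subgroup M, R.Normal ∧ N.Normal ∧ (⟨x ^ 2 ^ (n - 1), hσM⟩ : M) ∈ N ∧
      (∀ h ∈ N, h ^ 2 ^ Nat.card H ∈ R) ∧
      ∀ h ∈ R, (∃ k : ℕ, h ^ 2 ^ k = 1) → ∀ d : D,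
        MulAut.conjNormal (h : H) d * d⁻¹ ∈ scalarsOn ρ D U := by
  classical
  haveI : Fact (Nat.Prime 2) := ⟨Nat.prime_two⟩
  haveI := hsol
  set S := typeStab ρ D hU with hSdef
  set Z := scalarsOn ρ D U with hZdef
  haveI hZn : Z.Normal := scalarsOn_normal hU.2.1
  obtain ⟨w0, -, hw0⟩ := (Submodule.ne_bot_iff U).1 hU.1
  haveI : Nontrivial U := Submodule.nontrivial_iff_ne_bot.2 hU.1
  -- central operators are scalars
  let τU : D →* Module.End K U :=
    { toFun := fun g => (ρ (g : H)).restrict (hU.2.1 g)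
      map_one' := LinearMap.ext fun v => Subtype.ext (by
        show ρ ((1 : D) : H) (v : V) = v
        rw [OneMemClass.coe_one, map_one]; rfl)
      map_mul' := fun g h => LinearMap.ext fun v => Subtype.ext (by
        show ρ ((g * h : D) : H) (v : V) = ρ (g : H) (ρ (h : H) v)
        rw [Subgroup.coe_mul, map_mul]; rfl) }
  have hirr : Irred τU := by
    intro W hW
    rcases hU.2.2 (W.map U.subtype) (Submodule.map_subtype_le _ _) (by
      rintro g _ ⟨w, hw, rfl⟩
      exact ⟨_, hW g w hw, rfl⟩) with h | h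
    · exact Or.inl (((Submodule.map_injective_of_injective U.injective_subtype).eq_iff' (Submodule.map_bot _)).1 h)
    · refine Or.inr ((Submodule.map_injective_of_injective U.injective_subtype) ?_)
      rw [h, Submodule.map_top, Submodule.range_subtype]
  have hcentral : ∀ a : D, (∀ c : D, Commute (a : H) c) → a ∈ Z := by
    intro a ha
    obtain ⟨c, hc⟩ := scalar_of_commute hirr (τU a) (fun k => (show Commute a k from Subtype.ext (ha k)).map τU)
    exact ⟨c, fun v hv => congrArg Subtype.val (LinearMap.congr_fun hc ⟨v, hv⟩)⟩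
  have hcomm : ∀ a b : D ⧸ Z, a * b = b * a := fun a b => by
    induction a using QuotientGroup.induction_on with | _ a => ?_
    induction b using QuotientGroup.induction_on with | _ b => ?_
    rw [← commutatorElement_eq_one_iff_mul_comm, ← QuotientGroup.mk'_apply, ← QuotientGroup.mk'_apply,
      ← map_commutatorElement]
    exact (QuotientGroup.eq_one_iff _).2 (hcentral _ fun c => hcl a a.2 b b.2 c c.2)
  letI : CommGroup (D ⧸ Z) := { (inferInstance : Group (D ⧸ Z)) with mul_comm := hcomm }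
  have hexp : ∀ m : Additive (D ⧸ Z), q • m = 0 := fun m => by
    obtain ⟨v, hv⟩ := QuotientGroup.mk'_surjective Z (Additive.toMul m)
    apply Additive.toMul.injective
    rw [toMul_nsmul, ← hv, ← map_pow]
    exact (QuotientGroup.eq_one_iff _).2 (hcentral _ fun c => by
      rw [SubgroupClass.coe_pow]; exact hpow v v.2 c c.2)
  haveI instW : Module (ZMod q) (Additive (↥D ⧸ Z)) := AddCommGroup.zmodModule hexp
  -- the action of the stabiliser
  have hinv : ∀ g : S, Z.map ((MulAut.conjNormal (g : H) : MulAut D).toMonoidHom) = Z := by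
    intro g
    refine le_antisymm ?_ fun a ha => ?_
    · rintro _ ⟨a, ha, rfl⟩
      exact (scalarsOn_conj hU g.2 ha).1
    · refine ⟨MulAut.conjNormal (g : H)⁻¹ a, (scalarsOn_conj hU (S.inv_mem g.2) ha).1, ?_⟩
      show (MulAut.conjNormal (g : H) : MulAut D) _ = a
      rw [← MulAut.mul_apply, ← map_mul, mul_inv_cancel, map_one, MulAut.one_apply]
  let act : S →* MulAut (D ⧸ Z) :=
    { toFun := fun g => QuotientGroup.congr Z Z (MulAut.conjNormal (g : H)) (hinv g)
      map_one' := MulEquiv.ext fun u => by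
        induction u using QuotientGroup.induction_on with | _ u => ?_
        simp [QuotientGroup.congr_mk]
      map_mul' := fun g h => MulEquiv.ext fun u => by
        induction u using QuotientGroup.induction_on with | _ u => ?_
        simp [QuotientGroup.congr_mk, MulAut.mul_apply]
        rfl }
  have hact : ∀ (g : S) (d : D), act g (d : D ⧸ Z) = ((MulAut.conjNormal (g : H) d : D) : D ⧸ Z) :=
    fun g d => rfl
  haveI : Finite (MulAut (D ⧸ Z)) := Finite.of_injective (fun e => (e : D ⧸ Z → D ⧸ Z)) DFunLike.coe_injective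
  set f := act.rangeRestrict with hf
  have hfs : Function.Surjective f := act.rangeRestrict_surjective
  haveI : Group.IsSolvable act.range := Group.isSolvable_of_surjective hfs
  let ψ : act.range →* Module.End (ZMod q) (Additive (↥D ⧸ Z)) :=
    MonoidHom.comp (autLinear q (↥D ⧸ Z) : MulAut (↥D ⧸ Z) →* Module.End (ZMod q) (Additive (↥D ⧸ Z))) act.range.subtype
  have hψ : Function.Injective ψ := fun e e' h => Subtype.ext (MulEquiv.ext fun u =>
    congrArg Additive.toMul (LinearMap.congr_fun h (Additive.ofMul u)))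
  -- the subgroups
  set fM : M →* act.range := f.comp (Subgroup.inclusion hMS) with hfM
  haveI : fM.range.Normal := by
    rw [hfM, MonoidHom.range_comp, Subgroup.inclusion_range]
    exact (Subgroup.Normal.subgroupOf inferInstance S).map f hfs
  set g := fM.rangeRestrict with hg
  refine ⟨(Cfsg.pPrimeCore 2 fM.range).comap g, (Cfsg.pPrimePCore 2 fM.range).comap g, inferInstance,
    haveI := Coprime.pPrimePCore_characteristic (q := 2) (G := fM.range); inferInstance, ?_, ?_, ?_⟩
  · rw [mem_comap]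
    by_cases h1 : fM ⟨x ^ 2 ^ (n - 1), hσM⟩ = 1
    · rw [show g ⟨x ^ 2 ^ (n - 1), hσM⟩ = 1 from Subtype.ext h1]
      exact one_mem _
    obtain ⟨j, hjn, hyS, U', hU', hiso, hU'y, hdeg⟩ := orbit_data hU hxn hs
    set y := x ^ 2 ^ j with hy
    set k := n - j with hk
    have hσy : y ^ 2 ^ (k - 1) = x ^ 2 ^ (n - 1) := by
      rw [hy, ← pow_mul, ← pow_add, show j + (k - 1) = n - 1 by omega]
    -- the operators on the invariant copy
    let G0 : Subgroup H :=
      { carrier := {g | U'.map (ρ g) = U'}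
        one_mem' := by rw [Set.mem_ofPred_eq, map_one, Module.End.one_eq_id, Submodule.map_id]
        mul_mem' := fun {g h} hg hh => by
          rw [Set.mem_ofPred_eq, map_mul, Module.End.mul_eq_comp, Submodule.map_comp, hh, hg]
        inv_mem' := fun {g} hg => by
          show U'.map (ρ g⁻¹) = U'
          conv_lhs => rw [← (show U'.map (ρ g) = U' from hg)]
          rw [← Submodule.map_comp, ← Module.End.mul_eq_comp, ← map_mul, inv_mul_cancel, map_one,
            Module.End.one_eq_id, Submodule.map_id] }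
    have hDG0 : D ≤ G0 := fun a ha => by
      show U'.map (ρ a) = U'
      refine le_antisymm ?_ fun v hv => ⟨ρ a⁻¹ v, hU'.2.1 ⟨a⁻¹, inv_mem ha⟩ v hv, apply_inv_apply ρ a v⟩
      rintro _ ⟨v, hv, rfl⟩
      exact hU'.2.1 ⟨a, ha⟩ v hv
    let ρ0 : G0 →* Module.End K U' :=
      { toFun := fun g => (ρ (g : H)).restrict (fun v hv => (g.2 : U'.map (ρ (g : H)) = U').le ⟨v, hv, rfl⟩)
        map_one' := LinearMap.ext fun v => Subtype.ext (by
          rw [LinearMap.coe_restrict_apply, OneMemClass.coe_one, map_one]; rfl)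
        map_mul' := fun g h => LinearMap.ext fun v => Subtype.ext (by
          rw [LinearMap.coe_restrict_apply, Subgroup.coe_mul, map_mul]; rfl) }
    set ρ1 := QuotientGroup.lift ρ0.ker ρ0 le_rfl with hρ1
    have hinj1 : Function.Injective ρ1 := by
      rw [injective_iff_map_eq_one]
      intro u hu
      induction u using QuotientGroup.induction_on with | _ u => ?_
      exact (QuotientGroup.eq_one_iff u).2 hu
    set π := QuotientGroup.mk' ρ0.ker with hπ
    set φ : D →* G0 ⧸ ρ0.ker := π.comp (Subgroup.inclusion hDG0) with hφ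
    set Q := φ.range with hQ
    have hρφ : ∀ (a : D) (v : U'), ((ρ1 (φ a) v : U') : V) = ρ (a : H) v := fun a v => rfl
    have hscal : ∀ a : D, φ a ∈ scalars ρ1 Q ↔ a ∈ Z := by
      intro a
      rw [mem_scalars]
      constructor
      · rintro ⟨-, c, hc⟩
        refine scalarsOn_isom hU'.2.1 (hiso.symm hU.2.1) ⟨c, fun v hv => ?_⟩
        rw [← hρφ a ⟨v, hv⟩, hc]; rfl
      · intro ha
        obtain ⟨c, hc⟩ := scalarsOn_isom hU.2.1 hiso ha
        exact ⟨⟨a, rfl⟩, c, LinearMap.ext fun v => Subtype.ext (by rw [hρφ, hc v v.2]; rfl)⟩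
    haveI : Nontrivial U' := Submodule.nontrivial_iff_ne_bot.2 hU'.1
    set ys : G0 := ⟨y, hU'y⟩ with hys
    have hφconj : ∀ (g : G0) (a : D), π g * φ a * (π g)⁻¹ = φ (MulAut.conjNormal (g : H) a) := fun g a => by
      rw [hφ, MonoidHom.comp_apply, MonoidHom.comp_apply, ← map_inv, ← map_mul, ← map_mul]
      exact congrArg π (Subtype.ext (by simp [MulAut.conjNormal_apply]))
    have hyQ : π ys ∈ normalizer (Q : Set (G0 ⧸ ρ0.ker)) := by
      have h1 : ∀ g : G0, ∀ u ∈ Q, π g * u * (π g)⁻¹ ∈ Q := by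
        rintro g _ ⟨a, rfl⟩; rw [hφconj]; exact ⟨_, rfl⟩
      rw [mem_normalizer_iff]
      refine fun u => ⟨h1 ys u, fun hu => ?_⟩
      have h3 := h1 ys⁻¹ _ hu
      rw [map_inv, inv_inv, show (π ys)⁻¹ * (π ys * u * (π ys)⁻¹) * π ys = u by group] at h3
      exact h3
    have hirrQ : Irred (ρ1.comp Q.subtype) := by
      intro W hW
      rcases hU'.2.2 (W.map U'.subtype) (Submodule.map_subtype_le _ _) (by
        rintro a _ ⟨w, hw, rfl⟩
        exact ⟨_, hW ⟨φ a, a, rfl⟩ w hw, rfl⟩) with h | h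
      · exact Or.inl
          (((Submodule.map_injective_of_injective U'.injective_subtype).eq_iff' (Submodule.map_bot _)).1 h)
      · refine Or.inr ((Submodule.map_injective_of_injective U'.injective_subtype) ?_)
        rw [h, Submodule.map_top, Submodule.range_subtype]
    have hclQ : ∀ a ∈ Q, ∀ b ∈ Q, ⁅a, b⁆ ∈ scalars ρ1 Q := by
      rintro _ ⟨a, rfl⟩ _ ⟨b, rfl⟩
      rw [← map_commutatorElement, hscal]
      exact hcentral _ fun c => hcl a a.2 b b.2 c c.2
    have hQp : IsPGroup q Q := hDp.of_surjective φ.rangeRestrict φ.rangeRestrict_surjective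
    have hys' : (π ys) ^ 2 ^ k = 1 := by
      rw [← map_pow, show ys ^ 2 ^ k = 1 from Subtype.ext (by
        show (x ^ 2 ^ j) ^ 2 ^ k = 1
        rw [← pow_mul, ← pow_add, show j + k = n by omega, hxn]), map_one]
    have hs' : (ρ1 (π ys) - 1) ^ (2 ^ k - 1) = 0 := by
      have hpow' : ∀ (m : ℕ) (v : U'), ((((ρ1 (π ys) - 1) ^ m) v : U') : V) = ((ρ y - 1) ^ m) v := by
        intro m
        induction m with
        | zero => simp
        | succ m ih => intro v; rw [pow_succ', pow_succ', Module.End.mul_apply, Module.End.mul_apply, ← ih]; rfl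
      exact LinearMap.ext fun v => Subtype.ext (by rw [hpow', hdeg v v.2]; rfl)
    have hσS : x ^ 2 ^ (n - 1) ∈ S := hMS hσM
    set σs : G0 := ys ^ 2 ^ (k - 1) with hσs
    have hσ0 : (σs : H) = x ^ 2 ^ (n - 1) := by rw [hσs, SubgroupClass.coe_pow, hys, hσy]
    have hbr : ∀ a : D, ⁅π ys ^ 2 ^ (k - 1), φ a⁆ = φ (MulAut.conjNormal (x ^ 2 ^ (n - 1)) a * a⁻¹) := fun a => by
      rw [commutatorElement_def, ← map_pow, ← hσs, hφconj, hσ0, map_mul, map_inv]
    have hns : ∃ a ∈ Q, ⁅π ys ^ 2 ^ (k - 1), a⁆ ∉ scalars ρ1 Q := by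
      by_contra hall
      push Not at hall
      refine h1 (Subtype.ext (MulEquiv.ext fun u => ?_))
      induction u using QuotientGroup.induction_on with | _ u => ?_
      have h3 := hall _ ⟨u, rfl⟩
      rw [hbr, hscal, ← QuotientGroup.eq_one_iff, QuotientGroup.mk_mul, QuotientGroup.mk_inv, mul_inv_eq_one] at h3
      exact h3
    obtain ⟨hk2, hqk, hidx, hcommy⟩ :=
      exceptional_structure hq2 ρ1 hinj1 hQp hirrQ hclQ hyQ hys' hs' hns
    -- the quarter turn
    have hzS : x ^ 2 ^ (n - 2) ∈ S := by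
      rw [show x ^ 2 ^ (n - 2) = y ^ 2 ^ (k - 2) by
        rw [hy, ← pow_mul, ← pow_add, show j + (k - 2) = n - 2 by omega]]
      exact pow_mem hyS _
    set z : act.range := f ⟨x ^ 2 ^ (n - 2), hzS⟩ with hz
    have hzz : z * z = f ⟨x ^ 2 ^ (n - 1), hσS⟩ := by
      rw [hz, ← map_mul]
      congr 1
      exact Subtype.ext (by rw [Subgroup.coe_mul, ← pow_add, ← two_mul, ← pow_succ',
        show n - 2 + 1 = n - 1 by omega])
    set E1 := inverted ρ1 hinj1 Q hclQ (π ys ^ 2 ^ (k - 1)) with hE1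
    have hE1mem : ∀ a : D, φ a ∈ E1 ↔
        ψ (z * z) (Additive.ofMul (a : D ⧸ Z)) = - Additive.ofMul (a : D ⧸ Z) := by
      intro a
      rw [mem_inverted, ← map_pow, ← hσs, hφconj, hσ0, ← map_mul, hscal,
        and_iff_right (show φ a ∈ Q from ⟨a, rfl⟩), ← QuotientGroup.eq_one_iff, QuotientGroup.mk_mul,
        mul_eq_one_iff_eq_inv, hzz]
      exact Iff.rfl
    have hfix : ∀ w, ψ (z * z) w = w → ψ z w = w := by
      intro w hw
      obtain ⟨a, rfl⟩ : ∃ a : D, Additive.ofMul (a : D ⧸ Z) = w :=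
        ⟨_, congrArg Additive.ofMul (QuotientGroup.out_eq' (Additive.toMul w))⟩
      rw [hzz] at hw
      have h3 : ⁅π ys ^ 2 ^ (k - 1), φ a⁆ ∈ scalars ρ1 Q := by
        rw [hbr, hscal, ← QuotientGroup.eq_one_iff, QuotientGroup.mk_mul, QuotientGroup.mk_inv, mul_inv_eq_one]
        exact congrArg Additive.toMul hw
      have h4 := (hcommy _ ⟨a, rfl⟩ h3).pow_left (2 ^ (k - 2))
      have hz0 : ((ys ^ 2 ^ (k - 2) : G0) : H) = x ^ 2 ^ (n - 2) := by
        show (x ^ 2 ^ j) ^ 2 ^ (k - 2) = x ^ 2 ^ (n - 2)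
        rw [← pow_mul, ← pow_add, show j + (k - 2) = n - 2 by omega]
      have h5 : φ (MulAut.conjNormal (x ^ 2 ^ (n - 2)) a * a⁻¹) = 1 := by
        rw [← hz0, map_mul, ← hφconj, map_pow, h4.eq, mul_inv_cancel_right, map_inv, mul_inv_cancel]
      have h6 : MulAut.conjNormal (x ^ 2 ^ (n - 2)) a * a⁻¹ ∈ Z := (hscal _).1 (by rw [h5]; exact one_mem _)
      rw [← QuotientGroup.eq_one_iff, QuotientGroup.mk_mul, QuotientGroup.mk_inv, mul_inv_eq_one] at h6
      exact congrArg Additive.ofMul h6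
    have h2q : (2 : ZMod q) ≠ 0 := fun h => hq2 ((Nat.prime_dvd_prime_iff_eq hq.out Nat.prime_two).1
      ((CharP.cast_eq_zero_iff (ZMod q) q 2).1 (by exact_mod_cast h)))
    have hz4 : ∀ w, ψ (z * z) (ψ (z * z) w) = w := fun w => by
      rw [hzz, ← Module.End.mul_apply, ← map_mul, ← map_mul,
        show (⟨x ^ 2 ^ (n - 1), hσS⟩ : S) * ⟨x ^ 2 ^ (n - 1), hσS⟩ = 1 from Subtype.ext (by
          rw [Subgroup.coe_mul, ← pow_add, ← two_mul, ← pow_succ', show n - 1 + 1 = n by omega, hxn]; rfl),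
        map_one, map_one, Module.End.one_apply]
    have hmoved : ∀ w, w ∈ moved ψ z ↔ ψ (z * z) w = - w := by
      intro w
      constructor
      · rintro ⟨v, rfl⟩
        set v1 := (2⁻¹ : ZMod q) • (v - ψ (z * z) v) with hv1
        set v2 := (2⁻¹ : ZMod q) • (v + ψ (z * z) v) with hv2
        have hv : v = v1 + v2 := by
          rw [hv1, hv2, ← smul_add, sub_add_add_cancel, ← two_smul (ZMod q), smul_smul, inv_mul_cancel₀ h2q,
            one_smul]
        have h3 : ψ z v2 = v2 := hfix _ (by rw [hv2, map_smul, map_add, hz4, add_comm])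
        have h4 : ψ (z * z) v1 = - v1 := by rw [hv1, map_smul, map_sub, hz4, ← smul_neg, neg_sub]
        have h5 : (ψ z - 1) v = (ψ z - 1) v1 := by
          rw [hv, map_add, LinearMap.sub_apply (ψ z) 1 v2, Module.End.one_apply, h3, sub_self, add_zero]
        rw [h5, ← Module.End.mul_apply, mul_sub, ← map_mul, mul_one,
          show z * z * z = z * (z * z) from mul_assoc z z z, map_mul ψ z, LinearMap.sub_apply,
          Module.End.mul_apply, h4, map_neg, LinearMap.sub_apply, Module.End.one_apply, neg_sub]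
        abel
      · intro hw
        refine ⟨-(2⁻¹ : ZMod q) • (ψ z w + w), ?_⟩
        rw [map_smul, LinearMap.sub_apply, Module.End.one_apply, map_add, ← Module.End.mul_apply, ← map_mul, hw,
          show - w + ψ z w - (ψ z w + w) = -(w + w) by abel, ← two_smul (ZMod q), smul_neg, smul_smul,
          neg_mul, inv_mul_cancel₀ h2q, neg_one_smul, neg_neg]
    have hcard : Nat.card (moved ψ z) = q ^ 2 := by
      rw [← hidx]
      have hsub : (scalars ρ1 Q).comap φ = Z := Subgroup.ext hscal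
      rw [show (scalars ρ1 Q).relIndex E1 = (scalars ρ1 Q).relIndex ((E1.comap φ).map φ) by
        rw [map_comap_eq_self (show E1 ≤ φ.range from fun u hu => hu.1)], ← relIndex_comap, hsub]
      conv_rhs => arg 1; rw [← QuotientGroup.ker_mk' Z]
      rw [relIndex_ker]
      refine Nat.card_congr (Equiv.subtypeEquiv Additive.toMul fun w => ?_)
      rw [hmoved]
      constructor
      · intro h
        obtain ⟨a, ha⟩ := QuotientGroup.mk'_surjective Z (Additive.toMul w)
        refine ⟨a, (hE1mem a).2 ?_, ha⟩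
        rw [show Additive.ofMul (a : D ⧸ Z) = w from congrArg Additive.ofMul ha]
        exact h
      · rintro ⟨a, ha, hae⟩
        rw [show w = Additive.ofMul (a : D ⧸ Z) from (congrArg Additive.ofMul hae).symm]
        exact (hE1mem a).1 ha
    have hquarter : IsQuarter ψ z := by
      refine ⟨?_, fun v hv => by rw [← Module.End.mul_apply, ← map_mul]; exact (hmoved v).1 hv⟩
      rw [Module.natCard_eq_pow_finrank (K := ZMod q), Nat.card_zmod] at hcard
      exact Nat.pow_right_injective hq.out.two_le hcard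
    have hi : ∀ c : ZMod q, c * c ≠ -1 := by
      intro c hc
      refine ZMod.exists_sq_eq_neg_one_iff.1 ⟨c, hc.symm⟩ ?_
      have h4 : 4 ∣ q + 1 := hqk ▸ pow_dvd_pow 2 hk2
      omega
    have hz2 : IsPGroup 2 (zpowers z) := by
      refine IsPGroup.iff_orderOf.2 fun u => ?_
      have hz1 : z ^ 2 ^ n = 1 := by
        rw [hz, ← map_pow, show (⟨x ^ 2 ^ (n - 2), hzS⟩ : S) ^ 2 ^ n = 1 from Subtype.ext (by
          rw [SubgroupClass.coe_pow, ← pow_mul, mul_comm, pow_mul, hxn, one_pow]; rfl), map_one]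
      obtain ⟨i, hi⟩ := mem_zpowers_iff.1 u.2
      obtain ⟨t, -, ht⟩ := (Nat.dvd_prime_pow Nat.prime_two).1 (orderOf_dvd_of_pow_eq_one (x := (u : act.range))
        (by rw [← hi, ← zpow_natCast, ← zpow_mul, mul_comm, zpow_mul, zpow_natCast, hz1, one_zpow]))
      exact ⟨t, by rw [← orderOf_coe, ht]⟩
    have hmemr : z * z ∈ fM.range := ⟨⟨x ^ 2 ^ (n - 1), hσM⟩, hzz.symm⟩
    have hfinal := sq_mem_pPrimePCore (ρ := ψ) h2q hi hψ inferInstance hz2 hquarter fM.range hmemr
    convert hfinal using 1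
    exact Subtype.ext hzz.symm
  · intro h hh
    rw [mem_comap, map_pow]
    rw [mem_comap, Cfsg.pPrimePCore, mem_comap] at hh
    obtain ⟨i, hi⟩ := IsPGroup.iff_orderOf.1 (Core.pCore_isPGroup (p := 2) (G := fM.range ⧸ Cfsg.pPrimeCore 2 fM.range))
      ⟨_, hh⟩
    rw [← QuotientGroup.eq_one_iff, QuotientGroup.mk_pow, ← orderOf_dvd_iff_pow_eq_one]
    rw [orderOf_mk] at hi
    refine hi.dvd.trans (pow_dvd_pow 2 ?_)
    have h1 : 2 ^ i ∣ Nat.card H := by
      rw [← hi]
      refine (orderOf_map_dvd (QuotientGroup.mk' _) (g h)).trans ((orderOf_map_dvd g h).trans ?_)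
      exact (orderOf_dvd_natCard h).trans (card_subgroup_dvd_card M)
    exact (Nat.lt_two_pow_self.trans_le (Nat.le_of_dvd Nat.card_pos h1)).le
  · rintro h hh ⟨e, he⟩ d
    rw [mem_comap] at hh
    have h1 : g h = 1 := by
      refine orderOf_eq_one_iff.1 ?_
      refine Nat.eq_one_of_dvd_coprimes (a := 2 ^ e) ((Core.coprime_card_pPrimeCore (p := 2)).symm.pow_left e) ?_
        (Subgroup.orderOf_dvd_natCard _ hh)
      exact orderOf_dvd_of_pow_eq_one (by rw [← map_pow, he, map_one])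
    have h2 := congrArg (fun e : fM.range => ((e : act.range) : MulAut (D ⧸ Z)) (d : D ⧸ Z)) h1
    rw [← QuotientGroup.eq_one_iff, QuotientGroup.mk_mul, QuotientGroup.mk_inv, mul_inv_eq_one]
    exact h2

/-- **The top power of an exceptional 2-element lies in `O_{2',2}`.** -/
theorem pow_mem_pPrimePCore_two {X : Type*} [Group X] [Finite X] {k : Type*} [Field k] [IsAlgClosed k]
    [CharP k 2] {W : Type*} [AddCommGroup W] [Module k W] [FiniteDimensional k W] (hsol : Group.IsSolvable X)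
    (hO : Cfsg.pCore 2 X = ⊥) (σr : X →* Module.End k W) (hinj : Function.Injective σr) {x : X} {n : ℕ}
    (hxn : x ^ 2 ^ n = 1) (hs : (σr x - 1) ^ (2 ^ n - 1) = 0) :
    x ^ 2 ^ (n - 1) ∈ Cfsg.pPrimePCore 2 X := by
  classical
  haveI : Fact (Nat.Prime 2) := ⟨Nat.prime_two⟩
  haveI := hsol
  -- critical subgroups of the Fitting layers
  have hDex : ∀ q : ℕ, ∃ D : Subgroup X, D.Normal ∧ (q.Prime → q ≠ 2 → IsPGroup q D ∧
      (∀ a ∈ D, ∀ b ∈ D, ∀ c ∈ D, Commute ⁅a, b⁆ c) ∧ (∀ a ∈ D, ∀ c ∈ D, Commute (a ^ q) c) ∧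
      ∀ h : X, (∃ e : ℕ, h ^ 2 ^ e = 1) → (∀ d ∈ D, Commute h d) → ∀ w ∈ Cfsg.pCore q X, Commute h w) := by
    intro q
    by_cases hq : q.Prime
    swap
    · exact ⟨⊥, inferInstance, fun h => absurd h hq⟩
    haveI := Fact.mk hq
    have hPp : IsPGroup q (Cfsg.pCore q X) := Core.pCore_isPGroup
    set P := Cfsg.pCore q X with hP
    obtain ⟨C, hC, h1, h2, h3, h4⟩ := Fusion.exists_critical hPp
    haveI := hC
    refine ⟨C.map P.subtype, ConjAct.normal_of_characteristic_of_normal, fun _ hq2 =>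
      ⟨(hPp.to_subgroup C).map P.subtype, ?_, ?_, ?_⟩⟩
    · rintro _ ⟨a, ha, rfl⟩ _ ⟨b, hb, rfl⟩ _ ⟨c, hc, rfl⟩
      rw [← map_commutatorElement]
      refine Commute.map ?_ P.subtype
      have h := h1 (commutator_mem_commutator (mem_top (⟨a, ha⟩ : C)) (mem_top ⟨b, hb⟩))
      exact (congrArg Subtype.val (mem_center_iff.1 h ⟨c, hc⟩)).symm
    · rintro _ ⟨a, ha, rfl⟩ _ ⟨c, hc, rfl⟩
      rw [← map_pow]
      refine Commute.map ?_ P.subtype
      exact (mem_centralizer_iff.1 (h2 ⟨_, Core.pow_mem_frattini (hPp.to_subgroup C) ⟨a, ha⟩, rfl⟩) c hc).symm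
    · rintro h ⟨e, he⟩ hcomm w hw
      have hα : orderOf (MulAut.conjNormal h : MulAut P) ∣ 2 ^ e :=
        (orderOf_map_dvd _ h).trans (orderOf_dvd_of_pow_eq_one he)
      have h5 := S0121.result hPp C hC h2 h3 h4 (MulAut.conjNormal h)
        (Nat.Coprime.coprime_dvd_left hα (((Nat.coprime_primes Nat.prime_two hq).2 hq2.symm).pow_left e))
        (fun d hd => Subtype.ext (by
          rw [MulAut.conjNormal_apply, show h * (d : X) = d * h from (hcomm _ (mem_map_of_mem P.subtype hd)).eq]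
          exact mul_inv_cancel_right _ _))
      have h6 := congrArg Subtype.val (DFunLike.congr_fun h5 ⟨w, hw⟩)
      rw [MulAut.conjNormal_apply] at h6
      exact mul_inv_eq_iff_eq_mul.1 h6
  choose D hDn hD using hDex
  -- the types
  let ι := {i : ℕ × Submodule k W // i.1.Prime ∧ i.1 ≠ 2 ∧ IsSimpleSub (σr.comp (D i.1).subtype) i.2}
  haveI : ∀ i : ι, (D i.1.1).Normal := fun i => hDn _
  set M : Subgroup X := ⨅ i : ι, typeStab σr (D i.1.1) i.2.2.2 with hM
  haveI hMn : M.Normal := ⟨fun h hh g => by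
    rw [hM, mem_iInf] at hh ⊢
    rintro ⟨⟨q, U⟩, hq, hq2, hU⟩
    have hn : ∀ g : X, g ∈ normalizer (D q : Set X) :=
      fun g => by haveI := hDn q; exact le_normalizer_of_normal (K := ⊤) (mem_top g)
    have h1 := isom_map_of_mem σr (hn g)
      (mem_typeStab.1 (hh ⟨(q, U.map (σr g⁻¹)), hq, hq2, simple_map_of_mem σr (hn g⁻¹) hU⟩))
    refine mem_typeStab.2 ?_
    simpa only [← Submodule.map_comp, ← Module.End.mul_eq_comp, ← map_mul, mul_inv_cancel, map_one,
      Module.End.one_eq_id, Submodule.map_id, mul_assoc] using h1⟩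
  have hσM : x ^ 2 ^ (n - 1) ∈ M := by
    rw [hM, mem_iInf]
    intro i
    obtain ⟨j, hjn, hj, -⟩ := orbit_data i.2.2.2 hxn hs
    rw [show x ^ 2 ^ (n - 1) = (x ^ 2 ^ j) ^ 2 ^ (n - 1 - j) by
      rw [← pow_mul, ← pow_add, show j + (n - 1 - j) = n - 1 by omega]]
    exact pow_mem hj _
  have hloc : ∀ i : ι, ∃ R N : Subgroup M, R.Normal ∧ N.Normal ∧ (⟨x ^ 2 ^ (n - 1), hσM⟩ : M) ∈ N ∧
      (∀ h ∈ N, h ^ 2 ^ Nat.card X ∈ R) ∧ ∀ h ∈ R, (∃ e : ℕ, h ^ 2 ^ e = 1) → ∀ d : D i.1.1,
        MulAut.conjNormal (h : X) d * d⁻¹ ∈ scalarsOn σr (D i.1.1) i.1.2 := fun i =>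
    haveI := Fact.mk i.2.1
    local_step hsol i.2.2.1 (hD _ i.2.1 i.2.2.1).1 (hD _ i.2.1 i.2.2.1).2.1 (hD _ i.2.1 i.2.2.1).2.2.1
      i.2.2.2 M (iInf_le _ i) hxn hs hσM
  choose R N hRn hNn hσN hNR hR using hloc
  set Rall := ⨅ i, R i with hRall
  set Nall := ⨅ i, N i with hNall
  haveI : Rall.Normal := normal_iInf_normal hRn
  haveI : Nall.Normal := normal_iInf_normal hNn
  -- two-elements of the odd part centralise the Fitting subgroup
  have hodd : (Nat.card Rall).Coprime 2 := by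
    rw [Nat.coprime_comm, Nat.prime_two.coprime_iff_not_dvd]
    intro h2
    obtain ⟨h, hh⟩ := exists_prime_orderOf_dvd_card' 2 h2
    have hh2 : ((h : M) : X) ^ 2 ^ 1 = 1 := by
      rw [pow_one, ← hh, ← orderOf_coe, ← orderOf_coe, pow_orderOf_eq_one]
    have hcomm : ∀ q : ℕ, q.Prime → q ≠ 2 → ∀ d ∈ D q, Commute ((h : M) : X) d := by
      intro q hq hq2 d hd
      haveI := Fact.mk hq
      haveI := hDn q
      set hX := ((h : M) : X) with hhX
      set c : D q := MulAut.conjNormal hX ⟨d, hd⟩ * (⟨d, hd⟩ : D q)⁻¹ with hc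
      suffices hc1 : c = 1 by
        have h1 := congrArg Subtype.val hc1
        rw [hc, Subgroup.coe_mul, MulAut.conjNormal_apply, Subgroup.coe_inv, OneMemClass.coe_one,
          mul_inv_eq_one, mul_inv_eq_iff_eq_mul] at h1
        exact h1
      by_contra hne
      haveI := Fintype.ofFinite (D q)
      have hcard : (Fintype.card (D q) : k) ≠ 0 := by
        obtain ⟨l, hl⟩ := IsPGroup.iff_card.1 (hD q hq hq2).1
        rw [← Nat.card_eq_fintype_card, hl, Nat.cast_pow]
        refine pow_ne_zero l fun h0 => hq2 ?_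
        exact ((Nat.prime_dvd_prime_iff_eq Nat.prime_two hq).1 ((CharP.cast_eq_zero_iff k 2 q).1 h0)).symm
      obtain ⟨U, hU, w, hw, hwne⟩ := exists_simple_nontrivial (τ := σr.comp (D q).subtype) hcard (b := c)
        (fun h0 => hne (Subtype.ext (hinj (h0.trans (map_one σr).symm))))
      refine hwne ?_
      let i : ι := ⟨(q, U), hq, hq2, hU⟩
      have hhR : (h : M) ∈ R i := mem_iInf.1 h.2 i
      obtain ⟨l, hlam⟩ := hR i (h : M) hhR ⟨1, Subtype.ext hh2⟩ ⟨d, hd⟩
      have hS : hX ∈ typeStab σr (D q) hU := (iInf_le (fun i : ι => typeStab σr (D i.1.1) i.2.2.2) i) (h : M).2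
      have h2c : σr (hX * c * hX⁻¹) (σr (c : X) w) = (l * l) • w := by
        rw [(scalarsOn_conj hU hS ⟨l, hlam⟩).2 l hlam (σr (c : X) w) (hU.2.1 c w hw), hlam w hw, smul_smul]
      have hcc : hX * (c : X) * hX⁻¹ * (c : X) = 1 := by
        rw [hc, Subgroup.coe_mul, MulAut.conjNormal_apply, Subgroup.coe_inv]
        rw [pow_one, pow_two] at hh2
        show hX * (hX * d * hX⁻¹ * d⁻¹) * hX⁻¹ * (hX * d * hX⁻¹ * d⁻¹) = 1
        have hinv : hX⁻¹ = hX := inv_eq_of_mul_eq_one_right hh2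
        calc hX * (hX * d * hX⁻¹ * d⁻¹) * hX⁻¹ * (hX * d * hX⁻¹ * d⁻¹) =
              (hX * hX) * d * hX⁻¹ * d⁻¹ * (hX⁻¹ * hX) * d * hX⁻¹ * d⁻¹ := by group
          _ = 1 := by rw [hh2, inv_mul_cancel, one_mul, mul_one, inv_mul_cancel_right, hinv, mul_assoc d hX hX, hh2,
                mul_one, mul_inv_cancel]
      by_cases hw0 : w = 0
      · rw [hw0, map_zero]
      have hl2 : l * l = 1 := by
        rw [← Module.End.mul_apply, ← map_mul, hcc, map_one, Module.End.one_apply] at h2c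
        have h3 : (l * l - 1) • w = 0 := by rw [sub_smul, ← h2c, one_smul, sub_self]
        exact sub_eq_zero.1 ((smul_eq_zero.1 h3).resolve_right hw0)
      have hl1 : l = 1 := by
        have : (l - 1) * (l - 1) = 0 := by
          haveI : CharP k 2 := inferInstance
          rw [CharTwo.sub_eq_add, ← pow_two, CharTwo.add_sq, one_pow, pow_two, hl2, CharTwo.add_self_eq_zero]
        exact sub_eq_zero.1 (mul_self_eq_zero.1 this)
      show σr (c : X) w = w
      rw [hlam w hw, hl1, one_smul]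
    have hF : ((h : M) : X) ∈ centralizer (Cfsg.fittingSubgroup X : Set X) := by
      rw [mem_centralizer_iff]
      suffices Cfsg.fittingSubgroup X ≤ centralizer ({((h : M) : X)} : Set X) from
        fun w hw => mem_centralizer_singleton_iff.1 (this hw)
      rw [Core.fittingSubgroup_eq_iSup_pCore]
      refine iSup_le fun q w hw => mem_centralizer_singleton_iff.2 ?_
      by_cases hq2 : (q : ℕ) = 2
      · rw [hq2, hO, mem_bot] at hw
        rw [hw, one_mul, mul_one]
      · exact ((hD q q.2 hq2).2.2.2 _ ⟨1, hh2⟩ (hcomm q q.2 hq2) w hw).eq.symm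
    have hhF := Core.centralizer_fittingSubgroup_le hF
    have hnil : Group.IsNilpotent (Cfsg.fittingSubgroup X) := Core.fittingSubgroup_isNilpotent
    haveI := hnil
    obtain ⟨P⟩ : Nonempty (Sylow 2 (Cfsg.fittingSubgroup X)) := inferInstance
    haveI hPn : (P : Subgroup (Cfsg.fittingSubgroup X)).Normal :=
      Sylow.normal_of_normalizerCondition Group.normalizerCondition_of_isNilpotent P
    haveI := Sylow.characteristic_of_normal P hPn
    have hPbot : (P : Subgroup (Cfsg.fittingSubgroup X)).map (Cfsg.fittingSubgroup X).subtype = ⊥ := by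
      rw [eq_bot_iff, ← hO]
      haveI : ((P : Subgroup (Cfsg.fittingSubgroup X)).map (Cfsg.fittingSubgroup X).subtype).Normal :=
        ConjAct.normal_of_characteristic_of_normal
      exact Core.le_pCore (P.2.map _)
    have hx1 : ((h : M) : X) = 1 := by
      have hq : IsPGroup 2 (zpowers (⟨((h : M) : X), hhF⟩ : Cfsg.fittingSubgroup X)) :=
        IsPGroup.of_card (n := 1) (by rw [Nat.card_zpowers, orderOf_mk, orderOf_coe, orderOf_coe, hh, pow_one])
      obtain ⟨Q, hQ⟩ := hq.exists_le_sylow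
      haveI := Sylow.unique_of_normal P hPn
      have hQP : Q = P := Subsingleton.elim _ _
      subst hQP
      exact mem_bot.1 (hPbot ▸ mem_map_of_mem (Cfsg.fittingSubgroup X).subtype (hQ (mem_zpowers _)))
    have h1 : h = 1 := Subtype.ext (Subtype.ext hx1)
    rw [h1, orderOf_one] at hh
    omega
  -- the cores
  have hRle : Rall ≤ Cfsg.pPrimeCore 2 M := Core.le_pPrimeCore hodd
  have hNle : Nall ≤ Cfsg.pPrimePCore 2 M := by
    rw [Cfsg.pPrimePCore, ← Subgroup.map_le_iff_le_comap]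
    haveI : (Nall.map (QuotientGroup.mk' (Cfsg.pPrimeCore 2 M))).Normal :=
      Subgroup.Normal.map inferInstance _ (QuotientGroup.mk'_surjective _)
    refine Core.le_pCore ?_
    rintro ⟨_, h, hh, rfl⟩
    refine ⟨Nat.card X, Subtype.ext ?_⟩
    show (QuotientGroup.mk' _ h) ^ 2 ^ Nat.card X = 1
    rw [← map_pow]
    exact (QuotientGroup.eq_one_iff _).2 (hRle (mem_iInf.2 fun i => hNR i h (mem_iInf.1 hh i)))
  haveI : (Cfsg.pPrimePCore 2 M).Characteristic := Coprime.pPrimePCore_characteristic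
  haveI hcn : ((Cfsg.pPrimePCore 2 M).map M.subtype).Normal := ConjAct.normal_of_characteristic_of_normal
  haveI : ((Cfsg.pPrimeCore 2 M).map M.subtype).Normal := ConjAct.normal_of_characteristic_of_normal
  have hA : (Cfsg.pPrimeCore 2 M).map M.subtype ≤ Cfsg.pPrimeCore 2 X :=
    Core.le_pPrimeCore (by rw [card_map_of_injective M.subtype_injective]; exact Core.coprime_card_pPrimeCore)
  have hle : (Cfsg.pPrimePCore 2 M).map M.subtype ≤ Cfsg.pPrimePCore 2 X := by
    haveI hn' := hcn.map (QuotientGroup.mk' (Cfsg.pPrimeCore 2 X)) (QuotientGroup.mk'_surjective _)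
    conv_rhs => rw [Cfsg.pPrimePCore]
    rw [← Subgroup.map_le_iff_le_comap]
    refine Core.le_pCore ?_
    rintro ⟨_, _, ⟨h, hh, rfl⟩, rfl⟩
    obtain ⟨e, he⟩ := (Core.pCore_isPGroup (p := 2) (G := M ⧸ Cfsg.pPrimeCore 2 M)) ⟨_, hh⟩
    have h1 : h ^ 2 ^ e ∈ Cfsg.pPrimeCore 2 M := by
      rw [← QuotientGroup.eq_one_iff, QuotientGroup.mk_pow]
      exact congrArg Subtype.val he
    refine ⟨e, Subtype.ext ?_⟩
    show (QuotientGroup.mk' _ (h : X)) ^ 2 ^ e = 1
    rw [← map_pow]
    exact (QuotientGroup.eq_one_iff _).2 (hA ⟨_, h1, rfl⟩)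
  exact hle ⟨_, hNle (mem_iInf.2 fun i => hσN i), rfl⟩

end Cfsg.Agent.ShultGross
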