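import Cfsg.Agent.ShultGross.Critical
import Cfsg.Agent.ShultGross.TwoLayer
import Cfsg.Agent.HallHigman.TheoremB

/-!
Exceptional 2-elements in characteristic two: on an irreducible operator group of class two and odd
prime exponent modulo scalars, a 2-element with a short Jordan block moves a single plane.
-/

set_option autoImplicit false

open Subgroup
open scoped commutatorElement

namespace Cfsg.Agent.ShultGross

open Cfsg.Agent.HallHigman

theorem geom_sum_char_two {A : Type*} [Ring A] [CharP A 2] (Y : A) (k : ℕ) :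
    ∑ j ∈ Finset.range (2 ^ k), Y ^ j = (Y - 1) ^ (2 ^ k - 1) := by
  haveI : Fact (Nat.Prime 2) := ⟨Nat.prime_two⟩
  induction k with
  | zero => simp
  | succ k ih =>
    have h1 : (1 : A) + Y ^ 2 ^ k = (Y - 1) ^ 2 ^ k := by
      rw [sub_pow_char_pow_of_commute 2 k (Commute.one_right Y), one_pow, CharTwo.sub_eq_add, add_comm]
    rw [pow_succ, mul_two, Finset.sum_range_add, show 2 ^ k + 2 ^ k - 1 = 2 ^ k + (2 ^ k - 1) by
      have := Nat.one_le_two_pow (n := k); omega, pow_add, ← ih, ← h1, add_mul, one_mul]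
    simp only [pow_add, Finset.mul_sum]

theorem weighted_sum_char_two {A : Type*} [Ring A] [CharP A 2] (Y : A) : ∀ m : ℕ,
    ∑ i ∈ Finset.range (2 * m), (i : A) * Y ^ i = Y * ∑ j ∈ Finset.range m, (Y ^ 2) ^ j := by
  intro m
  induction m with
  | zero => simp
  | succ m ih =>
    have h0 : ((2 * m : ℕ) : A) = 0 := (CharP.cast_eq_zero_iff A 2 _).2 (dvd_mul_right 2 m)
    rw [show 2 * (m + 1) = 2 * m + 1 + 1 by omega, Finset.sum_range_succ, Finset.sum_range_succ, ih,
      Nat.cast_add_one, h0, zero_mul, zero_add, one_mul, add_zero, Finset.sum_range_succ, mul_add,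
      ← pow_mul, ← pow_succ']

variable {G : Type*} [Group G] [Finite G] {K : Type*} [Field K] {V : Type*} [AddCommGroup V] [Module K V]

/-- Two intertwiners, the second twisted by the first, shorten the Jordan block. -/
theorem block_of_twist [CharP K 2] [Nontrivial V] {U : Type*} [AddCommGroup U] [Module K U] [Nontrivial U] {k : ℕ} (hk : 1 ≤ k)
    (X : Module.End K V) (Y : Module.End K U) (hYs : Function.Surjective Y) (φ ψ : U →ₗ[K] V)
    (hφ : ∀ u, X (φ u) = φ (Y u)) (hψ : ∀ u, X (ψ u) = ψ (Y u) + φ (Y u))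
    (hX : (X - 1) ^ (2 ^ k - 1) = 0) (hY : (Y - 1) ^ (2 ^ k - 1) = 0) (hinj : Function.Injective φ) :
    (Y - 1) ^ (2 ^ k - 2) = 0 := by
  haveI : Fact (Nat.Prime 2) := ⟨Nat.prime_two⟩
  haveI : CharP (Module.End K V) 2 :=
    charP_of_injective_algebraMap (algebraMap K (Module.End K V)).injective 2
  haveI : CharP (Module.End K U) 2 :=
    charP_of_injective_algebraMap (algebraMap K (Module.End K U)).injective 2
  have hit : ∀ (i : ℕ) u, (X ^ i) (ψ u) = ψ ((Y ^ i) u) + φ (((i : Module.End K U) * Y ^ i) u) := by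
    intro i
    induction i with
    | zero => intro u; simp
    | succ i ih =>
      intro u
      rw [pow_succ, Module.End.mul_apply, hψ, map_add, ih, pow_succ, Nat.cast_add_one, add_mul, one_mul,
        LinearMap.add_apply, map_add, Module.End.mul_apply, Module.End.mul_apply, Module.End.mul_apply]
      have h1 : ∀ (j : ℕ) w, (X ^ j) (φ w) = φ ((Y ^ j) w) := by
        intro j
        induction j with
        | zero => simp
        | succ j ihj => intro w; rw [pow_succ, Module.End.mul_apply, hφ, ihj, pow_succ, Module.End.mul_apply]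
      rw [h1, Module.End.mul_apply]
      abel
  obtain ⟨m, hm⟩ : ∃ m, k = m + 1 := ⟨k - 1, by omega⟩
  subst hm
  refine LinearMap.ext fun u => hinj ?_
  obtain ⟨w, rfl⟩ := hYs u
  have h2 := LinearMap.congr_fun (geom_sum_char_two X (m + 1)) (ψ w)
  rw [hX, LinearMap.sum_apply, LinearMap.zero_apply] at h2
  simp only [hit, Finset.sum_add_distrib, ← map_sum, ← LinearMap.sum_apply, geom_sum_char_two, hY,
    LinearMap.zero_apply, map_zero, zero_add] at h2
  rw [show 2 ^ (m + 1) = 2 * 2 ^ m by ring, weighted_sum_char_two, geom_sum_char_two,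
    show Y ^ 2 - 1 = (Y - 1) ^ 2 by
      rw [sub_pow_char_of_commute 2 (Commute.one_right Y), one_pow],
    ← pow_mul, show 2 * (2 ^ m - 1) = 2 ^ (m + 1) - 2 by rw [pow_succ]; omega] at h2
  have hc : Commute Y ((Y - 1) ^ (2 ^ (m + 1) - 2)) := ((Commute.refl Y).sub_right (Commute.one_right Y)).pow_right _
  rw [← Module.End.mul_apply, ← hc.eq, h2, LinearMap.zero_apply, map_zero]

theorem scalars_central {ρ : G →* Module.End K V} (hinj : Function.Injective ρ) {Q : Subgroup G} {z : G}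
    (hz : z ∈ scalars ρ Q) (g : G) : Commute z g :=
  hinj (by rw [map_mul, map_mul]; exact (commute_of_scalar hz g).eq)

theorem scalars_normal {ρ : G →* Module.End K V} (hinj : Function.Injective ρ) (Q : Subgroup G) :
    (scalars ρ Q).Normal :=
  ⟨fun z hz g => by rwa [← (scalars_central hinj hz g).eq, mul_inv_cancel_right]⟩

omit [Finite G] in
theorem commutatorElement_mul_central {z a b : G} (hz : ∀ g, Commute z g) :
    ⁅z * a, b⁆ = ⁅a, b⁆ ∧ ⁅a, z * b⁆ = ⁅a, b⁆ := by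
  have h : ∀ g, z * g = g * z := fun g => (hz g).eq
  have h' : ∀ g, z⁻¹ * g = g * z⁻¹ := fun g => ((hz g).inv_left).eq
  constructor <;> simp only [commutatorElement_def, mul_inv_rev]
  · calc z * a * b * (a⁻¹ * z⁻¹) * b⁻¹ = z * (a * b * a⁻¹) * (z⁻¹ * b⁻¹) := by group
      _ = (a * b * a⁻¹) * z * (b⁻¹ * z⁻¹) := by rw [h, h']
      _ = a * b * a⁻¹ * (z * b⁻¹) * z⁻¹ := by group
      _ = a * b * a⁻¹ * (b⁻¹ * z) * z⁻¹ := by rw [h]
      _ = a * b * a⁻¹ * b⁻¹ := by group
  · calc a * (z * b) * a⁻¹ * (b⁻¹ * z⁻¹) = a * z * (b * a⁻¹ * b⁻¹) * z⁻¹ := by group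
      _ = z * a * (b * a⁻¹ * b⁻¹) * z⁻¹ := by rw [h a]
      _ = z * (a * b * a⁻¹ * b⁻¹) * z⁻¹ := by group
      _ = a * b * a⁻¹ * b⁻¹ := by rw [h, mul_inv_cancel_right]

/-- The elements inverted by `σ` modulo scalars. -/
def inverted (ρ : G →* Module.End K V) (hinj : Function.Injective ρ) (Q : Subgroup G)
    (hcl : ∀ a ∈ Q, ∀ b ∈ Q, ⁅a, b⁆ ∈ scalars ρ Q) (σ : G) : Subgroup G where
  carrier := {a | a ∈ Q ∧ σ * a * σ⁻¹ * a ∈ scalars ρ Q}
  one_mem' := ⟨Q.one_mem, by simp⟩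
  mul_mem' := fun {a b} ha hb => ⟨Q.mul_mem ha.1 hb.1, by
    haveI := scalars_normal hinj Q
    set θ := QuotientGroup.mk' (scalars ρ Q) with hθ
    have h : ∀ g, g ∈ scalars ρ Q ↔ θ g = 1 := fun g => (QuotientGroup.eq_one_iff g).symm
    have h1 : θ (σ * a * σ⁻¹) = (θ a)⁻¹ := eq_inv_of_mul_eq_one_left (by rw [← map_mul]; exact (h _).1 ha.2)
    have h2 : θ (σ * b * σ⁻¹) = (θ b)⁻¹ := eq_inv_of_mul_eq_one_left (by rw [← map_mul]; exact (h _).1 hb.2)
    have h3 : θ a * θ b = θ b * θ a := by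
      rw [← commutatorElement_eq_one_iff_mul_comm, ← map_commutatorElement]
      exact (h _).1 (hcl a ha.1 b hb.1)
    rw [h, show σ * (a * b) * σ⁻¹ = (σ * a * σ⁻¹) * (σ * b * σ⁻¹) by group, map_mul, map_mul, h1, h2,
      ← mul_inv_rev, ← h3, map_mul, inv_mul_cancel]⟩
  inv_mem' := fun {a} ha => ⟨Q.inv_mem ha.1, by
    have h : σ * a⁻¹ * σ⁻¹ * a⁻¹ = (a * (σ * a * σ⁻¹ * a) * a⁻¹)⁻¹ := by group
    rw [h, ← (scalars_central hinj ha.2 a).eq, mul_inv_cancel_right]
    exact Subgroup.inv_mem _ ha.2⟩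

theorem mem_inverted {ρ : G →* Module.End K V} {hinj : Function.Injective ρ} {Q : Subgroup G}
    {hcl : ∀ a ∈ Q, ∀ b ∈ Q, ⁅a, b⁆ ∈ scalars ρ Q} {σ a : G} :
    a ∈ inverted ρ hinj Q hcl σ ↔ a ∈ Q ∧ σ * a * σ⁻¹ * a ∈ scalars ρ Q := Iff.rfl

variable [IsAlgClosed K] [FiniteDimensional K V] [Nontrivial V]

/-- **The local exceptional structure.** -/
theorem exceptional_structure [CharP K 2] {q n : ℕ} [hq : Fact q.Prime] (hq2 : q ≠ 2)
    (ρ : G →* Module.End K V) (hinj : Function.Injective ρ) {Q : Subgroup G} (hQ : IsPGroup q Q)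
    (hirr : Irred (ρ.comp Q.subtype)) (hcl : ∀ a ∈ Q, ∀ b ∈ Q, ⁅a, b⁆ ∈ scalars ρ Q)
    {x : G} (hxQ : x ∈ normalizer (Q : Set G)) (hxn : x ^ 2 ^ n = 1)
    (hs : (ρ x - 1) ^ (2 ^ n - 1) = 0)
    (hns : ∃ a ∈ Q, ⁅x ^ 2 ^ (n - 1), a⁆ ∉ scalars ρ Q) :
    2 ≤ n ∧ q + 1 = 2 ^ n ∧ (scalars ρ Q).relIndex (inverted ρ hinj Q hcl (x ^ 2 ^ (n - 1))) = q ^ 2 ∧
      ∀ a ∈ Q, ⁅x ^ 2 ^ (n - 1), a⁆ ∈ scalars ρ Q → Commute x a := by
  classical
  haveI : Fact (Nat.Prime 2) := ⟨Nat.prime_two⟩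
  haveI : CharP (Module.End K V) 2 := charP_of_injective_algebraMap (algebraMap K (Module.End K V)).injective 2
  set Z := scalars ρ Q with hZdef
  set σ := x ^ 2 ^ (n - 1) with hσ
  obtain ⟨a₀, ha₀, ha₀Z⟩ := hns
  have hcen : ∀ {z : G}, z ∈ Z → ∀ g, Commute z g := fun {z} hz g =>
    scalars_central hinj hz g
  have hn : 1 ≤ n := by
    by_contra h0
    obtain rfl : n = 0 := by omega
    rw [pow_zero, pow_one] at hxn
    refine ha₀Z ?_
    rw [hσ, hxn, one_pow, commutatorElement_one_left]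
    exact Z.one_mem
  have hσσ : σ * σ = 1 := by
    rw [hσ, ← pow_add, ← two_mul, ← pow_succ', show n - 1 + 1 = n by omega, hxn]
  have hσi : σ⁻¹ = σ := inv_eq_of_mul_eq_one_right hσσ
  have hσx : σ ∈ zpowers x := pow_mem (mem_zpowers x) _
  have hσQ : σ ∈ normalizer (Q : Set G) := pow_mem hxQ _
  have hord : orderOf x = 2 ^ n := by
    obtain ⟨m, rfl⟩ : ∃ m, n = m + 1 := ⟨n - 1, by omega⟩
    refine orderOf_eq_prime_pow (fun h => ha₀Z ?_) hxn
    rw [hσ, Nat.add_sub_cancel, h, commutatorElement_one_left]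
    exact Z.one_mem
  set E1 := inverted ρ hinj Q hcl σ with hE1
  have hE1Q : E1 ≤ Q := fun a ha => ha.1
  have hZE1 : Z ≤ E1 := fun z hz => ⟨hz.1, by
    rw [show σ * z * σ⁻¹ = z by rw [← (hcen hz σ).eq, mul_inv_cancel_right]]
    exact Z.mul_mem hz hz⟩
  -- the fixed part commutes with the inverted part
  have hqK : (q : K) ≠ 0 := fun h0 => hq2
    ((Nat.prime_dvd_prime_iff_eq Nat.prime_two hq.out).1 ((CharP.cast_eq_zero_iff K 2 q).1 h0)).symm
  have hodd2 : ∀ {g : G}, g ∈ Q → g * g = 1 → g = 1 := fun {g} hg h => by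
    obtain ⟨j, hj⟩ := IsPGroup.iff_orderOf.1 hQ ⟨g, hg⟩
    rw [orderOf_mk] at hj
    have h2 : orderOf g ∣ 2 := orderOf_dvd_of_pow_eq_one (by rw [pow_two, h])
    rw [hj] at h2
    exact orderOf_eq_one_iff.1 (hj.trans (Nat.eq_one_of_dvd_coprimes
      (((Nat.coprime_primes hq.out Nat.prime_two).2 hq2).pow_left j) dvd_rfl h2))
  have hE2comm : ∀ a ∈ E1, ∀ b ∈ Q, ⁅σ, b⁆ ∈ Z → Commute a b := by
    intro a ha b hb hbZ
    obtain ⟨-, haZ⟩ := mem_inverted.1 ha
    set c := ⁅a, b⁆ with hc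
    have hcZ : c ∈ Z := hcl a (hE1Q ha) b hb
    have h1 : σ * c * σ⁻¹ = c := by rw [← (hcen hcZ σ).eq, mul_inv_cancel_right]
    have h2 : σ * c * σ⁻¹ = ⁅a⁻¹, b⁆ := by
      rw [hc, conjugate_commutatorElement,
        show σ * a * σ⁻¹ = (σ * a * σ⁻¹ * a) * a⁻¹ by group,
        show σ * b * σ⁻¹ = ⁅σ, b⁆ * b by rw [commutatorElement_def]; group,
        (commutatorElement_mul_central (hcen haZ)).1, (commutatorElement_mul_central (hcen hbZ)).2]
    have h3 : ⁅a⁻¹, b⁆ = c⁻¹ := by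
      rw [hc, show ⁅a⁻¹, b⁆ = a⁻¹ * ⁅a, b⁆⁻¹ * a by simp only [commutatorElement_def]; group,
        ← (hcen (Z.inv_mem hcZ) a⁻¹).eq, mul_assoc, inv_mul_cancel, mul_one]
    have h4 : c * c = 1 := by
      nth_rw 1 [← h1]
      rw [h2, h3, inv_mul_cancel]
    exact commutatorElement_eq_one_iff_commute.1 (hodd2 (hcZ.1) h4)
  -- splitting
  have hsplit : ∀ a ∈ Q, ∃ u ∈ E1, ∃ w ∈ Q, ⁅σ, w⁆ ∈ Z ∧ a = u * w := by
    intro a ha
    set b := σ * a * σ⁻¹ with hb
    have hbQ : b ∈ Q := (mem_normalizer_iff.1 hσQ a).1 ha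
    have hσb : σ * b * σ⁻¹ = a := by
      rw [hb, show σ * (σ * a * σ⁻¹) * σ⁻¹ = (σ * σ) * a * (σ * σ)⁻¹ by group, hσσ, one_mul, inv_one, mul_one]
    have hu : a * b⁻¹ ∈ E1 := ⟨Q.mul_mem ha (Q.inv_mem hbQ), by
      rw [show σ * (a * b⁻¹) * σ⁻¹ = (σ * a * σ⁻¹) * (σ * b * σ⁻¹)⁻¹ by group, hσb, ← hb,
        show b * a⁻¹ * (a * b⁻¹) = 1 by group]
      exact Z.one_mem⟩
    have hw : ⁅σ, a * b⁆ ∈ Z := by
      rw [show ⁅σ, a * b⁆ = (σ * a * σ⁻¹) * (σ * b * σ⁻¹) * (a * b)⁻¹ by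
        rw [commutatorElement_def]; group, hσb, ← hb,
        show b * a * (a * b)⁻¹ = ⁅b, a⁆ by rw [commutatorElement_def]; group]
      exact hcl b hbQ a ha
    haveI := scalars_normal hinj Q
    set θ := QuotientGroup.mk' Z with hθdef
    have hθ : ∀ g, g ∈ Z ↔ θ g = 1 := fun g => (QuotientGroup.eq_one_iff g).symm
    obtain ⟨k, hk⟩ : ∃ k : ℕ, (a ^ 2) ^ k = a := by
      obtain ⟨j, hj⟩ := IsPGroup.iff_orderOf.1 hQ ⟨a, ha⟩
      rw [orderOf_mk] at hj
      exact exists_pow_eq_self_of_coprime (by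
        rw [hj]; exact ((Nat.coprime_primes Nat.prime_two hq.out).2 hq2.symm).pow_right j)
    have hab : Commute (θ a) (θ b) := by
      rw [← commutatorElement_eq_one_iff_commute, ← map_commutatorElement]
      exact (hθ _).1 (hcl a ha b hbQ)
    refine ⟨(a * b⁻¹) ^ k, pow_mem hu k, ((a * b⁻¹) ^ k)⁻¹ * a, Q.mul_mem (Q.inv_mem (pow_mem hu.1 k)) ha, ?_,
      (mul_inv_cancel_left _ _).symm⟩
    have h2 : θ (((a * b⁻¹) ^ k)⁻¹ * a) = θ (a * b) ^ k := by
      rw [map_mul θ ((a * b⁻¹) ^ k)⁻¹, map_inv, inv_mul_eq_iff_eq_mul, map_pow, ← Commute.mul_pow, map_mul,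
        map_mul, map_inv]
      · conv_lhs => rw [← hk, map_pow, map_pow, pow_two]
        congr 1
        rw [hab.eq, mul_assoc, inv_mul_cancel_left]
      · rw [map_mul, map_mul, map_inv]
        exact ((Commute.refl _).mul_right hab).mul_left ((hab.symm.mul_right (Commute.refl _)).inv_left)
    rw [hθ, map_commutatorElement, h2, commutatorElement_eq_one_iff_commute]
    refine Commute.pow_right ?_ k
    rw [← commutatorElement_eq_one_iff_commute, ← map_commutatorElement]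
    exact (hθ _).1 hw
  haveI := scalars_normal hinj Q
  set θ := QuotientGroup.mk' Z with hθdef
  have hθ : ∀ g, g ∈ Z ↔ θ g = 1 := fun g => (QuotientGroup.eq_one_iff g).symm
  have hZc : ∀ {g h : G}, ⁅g, h⁆ ∈ Z ↔ Commute (θ g) (θ h) := fun {g h} => by
    rw [hθ, map_commutatorElement, commutatorElement_eq_one_iff_commute]
  have hE12 : ∀ {a : G}, a ∈ E1 → ⁅σ, a⁆ ∈ Z → a ∈ Z := fun {a} ha haZ => by
    have h1 : θ (σ * a * σ⁻¹) * θ a = 1 := by rw [← map_mul]; exact (hθ _).1 (mem_inverted.1 ha).2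
    rw [map_mul θ (σ * a), map_mul, map_inv, (hZc.1 haZ).eq, mul_inv_cancel_right] at h1
    obtain ⟨j, hj⟩ := IsPGroup.iff_orderOf.1 hQ ⟨a, hE1Q ha⟩
    rw [orderOf_mk] at hj
    obtain ⟨k, hk⟩ := exists_pow_eq_self_of_coprime (x := a) (n := 2) (by
      rw [hj]; exact ((Nat.coprime_primes Nat.prime_two hq.out).2 hq2.symm).pow_right j)
    rw [hθ, ← hk, map_pow, map_pow, pow_two, h1, one_pow]
  obtain ⟨u0, hu0, hu0Z⟩ : ∃ u ∈ E1, u ∉ Z := by
    obtain ⟨u, hu, w, -, hw, rfl⟩ := hsplit a₀ ha₀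
    refine ⟨u, hu, fun h => ha₀Z ?_⟩
    rw [(commutatorElement_mul_central (hcen h)).2]
    exact hw
  -- the inverted part is normalised by `x`
  have hσcomm : Commute x σ := (Commute.refl x).pow_right _
  have hxE1 : x ∈ normalizer (E1 : Set G) := by
    have hmem : ∀ g ∈ zpowers x, ∀ a ∈ E1, g * a * g⁻¹ ∈ E1 := by
      intro g hg a ha
      obtain ⟨i, rfl⟩ := mem_zpowers_iff.1 hg
      have hgQ : x ^ i ∈ normalizer (Q : Set G) := zpow_mem hxQ i
      refine ⟨(mem_normalizer_iff.1 hgQ a).1 ha.1, ?_⟩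
      have hc : Commute (x ^ i) σ := hσcomm.zpow_left i
      have h2 := conj_mem_scalars hgQ (mem_inverted.1 ha).2
      convert h2 using 1
      calc σ * (x ^ i * a * (x ^ i)⁻¹) * σ⁻¹ * (x ^ i * a * (x ^ i)⁻¹)
          = (σ * x ^ i) * a * (σ * x ^ i)⁻¹ * (x ^ i * a * (x ^ i)⁻¹) := by group
        _ = x ^ i * (σ * a * σ⁻¹ * a) * (x ^ i)⁻¹ := by rw [← hc.eq]; group
    rw [mem_normalizer_iff]
    refine fun a => ⟨hmem x (mem_zpowers x) a, fun h => ?_⟩
    have := hmem x⁻¹ (inv_mem (mem_zpowers x)) _ h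
    simpa [mul_assoc] using this
  have hQ2mul : ∀ a b : G, ⁅σ, a⁆ ∈ Z → ⁅σ, b⁆ ∈ Z → ⁅σ, a * b⁆ ∈ Z := fun a b ha hb => by
    rw [hZc, map_mul]
    exact (hZc.1 ha).mul_right (hZc.1 hb)
  -- the constituents of the inverted part
  set τ := ρ.comp E1.subtype with hτ
  have htrans : ∀ {U : Submodule K V}, IsSimpleSub τ U → ∀ w ∈ Q, ⁅σ, w⁆ ∈ Z → Isom τ U (U.map (ρ w)) := by
    intro U hU w hw hwZ
    refine ⟨Submodule.equivMapOfInjective (ρ w) (apply_injective ρ w) U, fun g u u' h => ?_⟩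
    rw [Submodule.coe_equivMapOfInjective_apply, Submodule.coe_equivMapOfInjective_apply, h]
    show ρ w (ρ (g : G) u) = ρ (g : G) (ρ w u)
    rw [← Module.End.mul_apply, ← map_mul, ← Module.End.mul_apply, ← map_mul,
      (hE2comm g g.2 w hw hwZ).eq]
  haveI := Fintype.ofFinite G
  set T := (Finset.univ : Finset G).filter (fun w => w ∈ Q ∧ ⁅σ, w⁆ ∈ Z) with hT
  have hspan : ∀ {U : Submodule K V}, IsSimpleSub τ U → T.sup (fun w => U.map (ρ w)) = ⊤ := by
    intro U hU
    set S := T.sup (fun w => U.map (ρ w)) with hS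
    have hle : ∀ w ∈ T, U.map (ρ w) ≤ S := fun w hw => Finset.le_sup (f := fun w => U.map (ρ w)) hw
    have hinvS : ∀ g : Q, ∀ v ∈ S, (ρ.comp Q.subtype) g v ∈ S := by
      intro g v hv
      obtain ⟨u, hu, w, hw, hwZ, hg⟩ := hsplit g g.2
      have h1 : S ≤ S.comap (ρ (g : G)) := by
        refine Finset.sup_le fun w' hw' => ?_
        rintro _ ⟨v, hv, rfl⟩
        obtain ⟨-, hw'Q, hw'Z⟩ := Finset.mem_filter.1 hw'
        have hwwQ : w * w' ∈ Q := Q.mul_mem hw hw'Q
        have hwwZ := hQ2mul w w' hwZ hw'Z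
        show ρ (g : G) (ρ w' v) ∈ S
        rw [hg, map_mul, Module.End.mul_apply, ← Module.End.mul_apply (ρ w) (ρ w'), ← map_mul]
        exact hle (w * w') (by rw [hT, Finset.mem_filter]; exact ⟨Finset.mem_univ _, hwwQ, hwwZ⟩)
          ((Isom.simple hU (htrans hU _ hwwQ hwwZ)).2.1 ⟨u, hu⟩ _ ⟨v, hv, rfl⟩)
      exact h1 hv
    refine (hirr S hinvS).resolve_left fun h => hU.1 ?_
    rw [eq_bot_iff, ← h]
    refine le_trans ?_ (hle 1 (by simp [hT, Z.one_mem]))
    rw [map_one, Module.End.one_eq_id, Submodule.map_id]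
  obtain ⟨U0, -, hU0⟩ := exists_simple_le (τ := τ) (U := ⊤) top_ne_bot (fun _ _ _ => Submodule.mem_top)
  have hiso : Isom τ U0 (U0.map (ρ x)) := by
    have hsx := simple_map_of_mem ρ hxE1 hU0
    obtain ⟨w, hw, h⟩ := exists_isom_of_le_iSup (τ := τ) (fun w => U0.map (ρ w)) hsx T
      (fun w hw => Isom.simple hU0 (htrans hU0 w (Finset.mem_filter.1 hw).2.1 (Finset.mem_filter.1 hw).2.2))
      (by rw [hspan hU0]; exact le_top)
    exact (htrans hU0 w (Finset.mem_filter.1 hw).2.1 (Finset.mem_filter.1 hw).2.2).trans (h.symm hsx.2.1)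
  obtain ⟨U, hUiso, hUx⟩ := exists_invariant_copy ρ hxE1 hU0 hiso
  have hU : IsSimpleSub τ U := Isom.simple hU0 hUiso
  have hkill : ∀ a ∈ E1, (∀ v ∈ U, ρ a v = v) → a = 1 := by
    intro a ha hav
    refine hinj ((LinearMap.ext fun v => ?_).trans (map_one ρ).symm)
    have h : T.sup (fun w => U.map (ρ w)) ≤ LinearMap.ker (ρ a - 1) := Finset.sup_le fun w hw => by
      rintro _ ⟨v, hv, rfl⟩
      rw [LinearMap.mem_ker, LinearMap.sub_apply, Module.End.one_apply, ← Module.End.mul_apply, ← map_mul,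
        (hE2comm a ha w (Finset.mem_filter.1 hw).2.1 (Finset.mem_filter.1 hw).2.2).eq, map_mul,
        Module.End.mul_apply, hav v hv, sub_self]
    have h2 := h (show v ∈ T.sup (fun w => U.map (ρ w)) by rw [hspan hU]; exact Submodule.mem_top)
    rwa [LinearMap.mem_ker, LinearMap.sub_apply, sub_eq_zero] at h2
  -- the group acting on `U`
  set G1 := E1 ⊔ zpowers x with hG1
  have hG1mem : ∀ g ∈ G1, ∃ a ∈ E1, ∃ u ∈ zpowers x, g = a * u := by
    intro g hg
    rw [← SetLike.mem_coe, hG1, Subgroup.coe_mul_of_right_le_normalizer_left E1 (zpowers x)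
      (zpowers_le.2 hxE1)] at hg
    obtain ⟨a, ha, u, hu, h⟩ := hg
    exact ⟨a, ha, u, hu, h.symm⟩
  let St : Subgroup G :=
    { carrier := {g | U.map (ρ g) = U}
      one_mem' := by rw [Set.mem_setOf_eq, map_one, Module.End.one_eq_id, Submodule.map_id]
      mul_mem' := fun {g h} hg hh => by
        rw [Set.mem_setOf_eq, map_mul, Module.End.mul_eq_comp, Submodule.map_comp, hh, hg]
      inv_mem' := fun {g} hg => by
        show U.map (ρ g⁻¹) = U
        conv_lhs => rw [← (show U.map (ρ g) = U from hg)]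
        rw [← Submodule.map_comp, ← Module.End.mul_eq_comp, ← map_mul, inv_mul_cancel, map_one,
          Module.End.one_eq_id, Submodule.map_id] }
  have hG1St : G1 ≤ St := by
    refine sup_le (fun a ha => ?_) (zpowers_le.2 hUx)
    show U.map (ρ a) = U
    refine le_antisymm ?_ fun v hv => ⟨ρ a⁻¹ v, hU.2.1 ⟨a⁻¹, inv_mem ha⟩ v hv, apply_inv_apply ρ a v⟩
    rintro _ ⟨v, hv, rfl⟩
    exact hU.2.1 ⟨a, ha⟩ v hv
  have hmap : ∀ g : G1, ∀ v ∈ U, ρ (g : G) v ∈ U := fun g v hv =>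
    (show U.map (ρ (g : G)) = U from hG1St g.2).le ⟨v, hv, rfl⟩
  let ρ1 : G1 →* Module.End K U :=
    { toFun := fun g => (ρ (g : G)).restrict (hmap g)
      map_one' := LinearMap.ext fun v => Subtype.ext (by
        rw [LinearMap.restrict_coe_apply, OneMemClass.coe_one, map_one]; rfl)
      map_mul' := fun g h => LinearMap.ext fun v => Subtype.ext (by
        rw [LinearMap.restrict_coe_apply, Subgroup.coe_mul, map_mul]; rfl) }
  have hρ1 : ∀ (g : G1) (v : U), ((ρ1 g v : U) : V) = ρ (g : G) v := fun _ _ => rfl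
  haveI : Nontrivial U := Submodule.nontrivial_iff_ne_bot.2 hU.1
  haveI : CharP (Module.End K U) 2 := charP_of_injective_algebraMap (algebraMap K (Module.End K U)).injective 2
  have hσu0 : ∀ u ∈ zpowers x, u ≠ 1 → σ ∈ zpowers u := fun u hu hu1 =>
    HallHigman.sigma_mem_zpowers hord hu hu1
  have hinj1 : Function.Injective ρ1 := by
    rw [injective_iff_map_eq_one]
    intro g hg
    have hgv : ∀ v ∈ U, ρ (g : G) v = v := fun v hv => by
      have := congrArg Subtype.val (LinearMap.congr_fun hg ⟨v, hv⟩)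
      exact this
    obtain ⟨a, ha, u, hu, he⟩ := hG1mem g g.2
    have hu1 : u = 1 := by
      by_contra hu1
      refine hu0Z (hE12 hu0 (hZc.2 ?_))
      have hconj : ⁅(g : G), u0⁆ = 1 := by
        have hgN : (g : G) ∈ normalizer (E1 : Set G) := by
          rw [he]
          exact mul_mem (le_normalizer ha) ((zpowers_le.2 hxE1) hu)
        refine hkill _ ?_ fun v hv => ?_
        · rw [commutatorElement_def]
          exact mul_mem ((mem_normalizer_iff.1 hgN u0).1 hu0) (inv_mem hu0)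
        · have hinvg : ∀ w ∈ U, ρ (g : G)⁻¹ w = w := fun w hw => by
            conv_lhs => rw [← hgv w hw, inv_apply_apply]
          rw [commutatorElement_def, map_mul, map_mul, map_mul, Module.End.mul_apply, Module.End.mul_apply,
            Module.End.mul_apply, hinvg (ρ u0⁻¹ v) (hU.2.1 ⟨u0⁻¹, inv_mem hu0⟩ v hv)]
          show ρ (g : G) (ρ u0 (ρ u0⁻¹ v)) = v
          rw [apply_inv_apply, hgv v hv]
      have h1 : Commute (θ (g : G)) (θ u0) := hZc.1 (by rw [hconj]; exact Z.one_mem)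
      have h2 : Commute (θ a) (θ u0) := hZc.1 (hcl a ha.1 u0 hu0.1)
      have h3 : Commute (θ u) (θ u0) := by
        rw [show u = a⁻¹ * (g : G) by rw [he, inv_mul_cancel_left], map_mul, map_inv]
        exact h2.inv_left.mul_left h1
      obtain ⟨i, hi⟩ := mem_zpowers_iff.1 (hσu0 u hu hu1)
      rw [← hi, map_zpow]
      exact h3.zpow_left i
    subst hu1
    rw [mul_one] at he
    exact Subtype.ext (he.trans (hkill a ha fun v hv => he ▸ hgv v hv))
  set x1 : G1 := ⟨x, mem_sup_right (mem_zpowers x)⟩ with hx1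
  set Q1 := E1.subgroupOf G1 with hQ1
  haveI hQ1n : Q1.Normal := by
    refine Subgroup.normal_subgroupOf_iff_le_normalizer le_sup_left |>.2 ?_
    exact sup_le le_normalizer (zpowers_le.2 hxE1)
  have hQ1p : IsPGroup q Q1 := (hQ.to_le hE1Q).comap_subtype
  have hord1 : orderOf x1 = 2 ^ n := by rw [← orderOf_coe, ← hord]
  have hgen : Q1 ⊔ zpowers x1 = ⊤ := by
    rw [eq_top_iff]
    intro g _
    obtain ⟨a, ha, u, hu, he⟩ := hG1mem g g.2
    obtain ⟨i, rfl⟩ := mem_zpowers_iff.1 hu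
    rw [show g = (⟨a, mem_sup_left ha⟩ : G1) * x1 ^ i from Subtype.ext (by
      rw [Subgroup.coe_mul, SubgroupClass.coe_zpow]; exact he)]
    exact mul_mem_sup (mem_subgroupOf.2 ha) (zpow_mem (mem_zpowers _) i)
  have hC : ∀ y ∈ zpowers x1, y ≠ 1 → centralizer ({y} : Set G1) = zpowers x1 ⊔ center G1 := by
    intro y hy hy1
    refine le_antisymm (fun g hg => ?_) (sup_le (zpowers_le.2 ?_) (center_le_centralizer _))
    · rw [mem_centralizer_singleton_iff] at hg
      obtain ⟨i, hi⟩ := mem_zpowers_iff.1 hy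
      obtain ⟨a, ha, u, hu, he⟩ := hG1mem g g.2
      obtain ⟨l, rfl⟩ := mem_zpowers_iff.1 hu
      have hyG : (y : G) = x ^ i := by rw [← hi, SubgroupClass.coe_zpow]
      have hay : Commute a (y : G) := by
        have hgy : Commute (g : G) (y : G) := congrArg Subtype.val hg
        rw [show a = (g : G) * (x ^ l)⁻¹ by rw [he, mul_inv_cancel_right]]
        exact hgy.mul_left (by rw [hyG]; exact (((Commute.refl x).zpow_left l).zpow_right i).inv_left)
      obtain ⟨j, hj⟩ := mem_zpowers_iff.1 (hσu0 (y : G) (by rw [hyG]; exact zpow_mem (mem_zpowers x) i)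
        (fun h => hy1 (Subtype.ext h)))
      have haσ : ⁅σ, a⁆ = 1 := by
        rw [commutatorElement_eq_one_iff_commute, ← hj]
        exact (hay.symm.zpow_left j)
      have haZ : a ∈ Z := hE12 ha (by rw [haσ]; exact Z.one_mem)
      rw [show g = x1 ^ l * (⟨a, mem_sup_left ha⟩ : G1) from Subtype.ext (by
        rw [Subgroup.coe_mul, SubgroupClass.coe_zpow]; exact he.trans (hcen haZ _).eq)]
      exact mul_mem_sup (zpow_mem (mem_zpowers _) l) (mem_center_iff.2 fun k => Subtype.ext (hcen haZ k).eq.symm)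
    · rw [mem_centralizer_singleton_iff]
      obtain ⟨i, rfl⟩ := mem_zpowers_iff.1 hy
      exact ((Commute.refl x1).zpow_right i).eq
  have hirr1 : Irred (ρ1.comp Q1.subtype) := by
    intro W hW
    rcases hU.2.2 (W.map U.subtype) (Submodule.map_subtype_le _ _) (by
      rintro g _ ⟨w, hw, rfl⟩
      exact ⟨_, hW ⟨⟨g, mem_sup_left g.2⟩, mem_subgroupOf.2 g.2⟩ w hw, rfl⟩) with h | h
    · exact Or.inl (((Submodule.map_injective_of_injective U.injective_subtype).eq_iff' (Submodule.map_bot _)).1 h)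
    · refine Or.inr ((Submodule.map_injective_of_injective U.injective_subtype) ?_)
      rw [h, Submodule.map_top, Submodule.range_subtype]
  have hsU : (ρ1 x1 - 1) ^ (2 ^ n - 1) = 0 := by
    have hpow : ∀ (m : ℕ) (v : U), ((((ρ1 x1 - 1) ^ m) v : U) : V) = ((ρ x - 1) ^ m) v := by
      intro m
      induction m with
      | zero => simp
      | succ m ih => intro v; rw [pow_succ', pow_succ', Module.End.mul_apply, Module.End.mul_apply, ← ih]; rfl
    exact LinearMap.ext fun v => Subtype.ext (by rw [hpow, hs]; rfl)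
  have hex : ∃ s, (ρ1 x1 - 1) ^ s = 0 := ⟨_, hsU⟩
  obtain ⟨h1, -, h3⟩ := HallHigman.critical_finrank (p := 2) hq2.symm Q1 hQ1p hord1 hgen hC ρ1 hinj1 hirr1
    (Nat.find_spec hex) (fun k hk => Nat.find_min hex hk)
  have hseq : Nat.find hex = 2 ^ n - 1 := le_antisymm (Nat.find_min' hex hsU) h1
  obtain ⟨hdim, ⟨b, hb⟩, -⟩ := h3 hseq
  rw [hseq] at hdim
  -- the index of the scalars
  have hscal : scalars ρ1 Q1 = Z.subgroupOf G1 := by
    ext g
    rw [mem_scalars, mem_subgroupOf]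
    constructor
    · rintro ⟨hg, c, hc⟩
      have hgE : (g : G) ∈ E1 := mem_subgroupOf.1 hg
      have hcomm : ∀ k ∈ Q, Commute (g : G) k := by
        intro k hk
        obtain ⟨u, hu, w, hw, hwZ, rfl⟩ := hsplit k hk
        refine Commute.mul_right ?_ (hE2comm _ hgE w hw hwZ)
        rw [← commutatorElement_eq_one_iff_commute]
        refine congrArg Subtype.val (?_ : ⁅g, (⟨u, mem_sup_left hu⟩ : G1)⁆ = 1)
        refine commutatorElement_eq_one_iff_commute.2 (hinj1 ?_)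
        rw [map_mul, map_mul, hc, smul_one_mul, mul_smul_one]
      obtain ⟨d, hd⟩ := scalar_of_commute hirr (ρ (g : G)) (fun k => ((hcomm k k.2).map ρ))
      exact ⟨hgE.1, d, hd⟩
    · rintro ⟨hg, c, hc⟩
      refine ⟨mem_subgroupOf.2 (hZE1 ⟨hg, c, hc⟩), c, LinearMap.ext fun v => Subtype.ext ?_⟩
      rw [hρ1, show ρ (g : G) = c • 1 from hc]; rfl
  have hdK : (Module.finrank K U : K) ≠ 0 := by rw [hdim, hb, Nat.cast_pow]; exact pow_ne_zero b hqK
  have hidx : Z.relIndex E1 = Module.finrank K U ^ 2 := by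
    rw [← Subgroup.relIndex_subgroupOf (K := E1) (L := G1) le_sup_left, ← hscal]
    refine (span_and_index hirr1 (fun a ha b hb => ?_) hdK ?_).2
    · rw [hscal, mem_subgroupOf]
      exact hcl _ (mem_subgroupOf.1 ha).1 _ (mem_subgroupOf.1 hb).1
    · obtain ⟨j, hj⟩ := IsPGroup.iff_card.1 hQ1p
      rw [hj, Nat.cast_pow]; exact pow_ne_zero j hqK
  have hb1 : 1 ≤ b := by
    by_contra h0
    refine hu0Z (relIndex_eq_one.1 ?_ hu0)
    rw [hidx, hdim, hb, show b = 0 by omega, pow_zero, one_pow]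
  have hq3 : 3 ≤ q := by
    have := hq.out.two_le
    omega
  have hbeq : b = 1 := pow_add_one_eq_two_pow (k := n) (hq.out.eq_two_or_odd'.resolve_left hq2) hb1 hq3 (by
    rw [← hb, Nat.sub_add_cancel Nat.one_le_two_pow])
  have hqn : q + 1 = 2 ^ n := by
    rw [hbeq, pow_one] at hb
    rw [← hb, Nat.sub_add_cancel Nat.one_le_two_pow]
  have hn2 : 2 ≤ n := by
    by_contra hlt
    obtain rfl : n = 1 := by omega
    rw [pow_one] at hqn
    omega
  refine ⟨hn2, hqn, by rw [hidx, hdim, hb, hbeq, pow_one], ?_⟩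
  -- intertwiners commute with `x`
  let M : Submodule K (U →ₗ[K] V) :=
    { carrier := {φ | ∀ (g : E1) (u u' : U), (u' : V) = ρ (g : G) u → φ u' = ρ (g : G) (φ u)}
      add_mem' := fun {a b} ha hb g u u' e => by
        rw [LinearMap.add_apply, LinearMap.add_apply, map_add, ha g u u' e, hb g u u' e]
      zero_mem' := fun g u u' _ => by simp
      smul_mem' := fun c a ha g u u' e => by
        rw [LinearMap.smul_apply, LinearMap.smul_apply, map_smul, ha g u u' e] }
  have hxi : ∀ w : U, ((ρ1 x1⁻¹ w : U) : V) = ρ x⁻¹ w := fun w => rfl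
  let F : Module.End K M :=
    { toFun := fun φ => ⟨(ρ x).comp ((φ : U →ₗ[K] V).comp (ρ1 x1⁻¹)), fun g u u' e => by
        have hg : x⁻¹ * g * x ∈ E1 := (mem_normalizer_iff''.1 hxE1 g).1 g.2
        show ρ x ((φ : U →ₗ[K] V) (ρ1 x1⁻¹ u')) = ρ (g : G) (ρ x ((φ : U →ₗ[K] V) (ρ1 x1⁻¹ u)))
        rw [φ.2 ⟨_, hg⟩ (ρ1 x1⁻¹ u) (ρ1 x1⁻¹ u') (by
          rw [hxi, hxi, e]
          show ρ x⁻¹ (ρ (g : G) u) = ρ (x⁻¹ * g * x) (ρ x⁻¹ u)
          rw [← Module.End.mul_apply, ← map_mul, ← Module.End.mul_apply, ← map_mul, mul_assoc (x⁻¹ * (g : G)),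
            mul_inv_cancel, mul_one])]
        show ρ x (ρ (x⁻¹ * g * x) _) = _
        rw [← Module.End.mul_apply, ← map_mul, ← Module.End.mul_apply, ← map_mul,
          show x * (x⁻¹ * (g : G) * x) = (g : G) * x by group]⟩
      map_add' := fun a b => Subtype.ext (LinearMap.ext fun w => by simp)
      map_smul' := fun c a => Subtype.ext (LinearMap.ext fun w => by simp) }
  have hF : ∀ (φ : M) (u : U), (F φ : U →ₗ[K] V) (ρ1 x1 u) = ρ x ((φ : U →ₗ[K] V) u) := fun φ u => by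
    show ρ x ((φ : U →ₗ[K] V) (ρ1 x1⁻¹ (ρ1 x1 u))) = _
    rw [inv_apply_apply]
  have hFid : F = 1 := by
    by_contra hne
    haveI : Nontrivial M := by
      by_contra hnt
      rw [not_nontrivial_iff_subsingleton] at hnt
      exact hne (LinearMap.ext fun φ => Subsingleton.elim _ _)
    haveI : CharP (Module.End K M) 2 :=
      charP_of_injective_algebraMap (algebraMap K (Module.End K M)).injective 2
    have hFpow : ∀ (j : ℕ) (φ : M) (u : U), ((F ^ j) φ : U →ₗ[K] V) ((ρ1 x1 ^ j) u) =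
        (ρ x ^ j) ((φ : U →ₗ[K] V) u) := by
      intro j
      induction j with
      | zero => simp
      | succ j ih =>
        intro φ u
        rw [pow_succ', pow_succ', pow_succ', Module.End.mul_apply, Module.End.mul_apply, Module.End.mul_apply,
          hF, ih]
    have hF1 : F ^ 2 ^ n = 1 := LinearMap.ext fun φ => Subtype.ext (LinearMap.ext fun u => by
      have := hFpow (2 ^ n) φ u
      rwa [← map_pow, ← map_pow, hxn, show x1 ^ 2 ^ n = 1 by rw [← hord1, pow_orderOf_eq_one], map_one,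
        map_one] at this)
    have hex2 : ∃ j, (F - 1) ^ j = 0 := ⟨2 ^ n, by
      rw [sub_pow_char_pow_of_commute (R := Module.End K M) 2 n (Commute.one_right F), hF1, one_pow, sub_self]⟩
    obtain ⟨j, hj⟩ : ∃ j, Nat.find hex2 = j + 2 := ⟨Nat.find hex2 - 2, by
      have h := Nat.find_spec hex2
      rcases hc : Nat.find hex2 with _ | _ | k
      · rw [hc, pow_zero] at h; exact absurd h one_ne_zero
      · rw [hc, pow_one] at h; exact absurd (sub_eq_zero.1 h) hne
      · omega⟩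
    obtain ⟨v, hv⟩ : ∃ v, ((F - 1) ^ (j + 1)) v ≠ 0 := by
      by_contra hall
      push Not at hall
      exact Nat.find_min hex2 (show j + 1 < Nat.find hex2 by omega) (LinearMap.ext hall)
    set ψ := ((F - 1) ^ j) v with hψdef
    set φ := ((F - 1) ^ (j + 1)) v with hφdef
    have hFψ : F ψ = ψ + φ := by
      rw [hφdef, pow_succ', Module.End.mul_apply, ← hψdef, LinearMap.sub_apply, Module.End.one_apply]; abel
    have hFφ : F φ = φ := by
      rw [← sub_eq_zero, hφdef]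
      show (F - 1) (((F - 1) ^ (j + 1)) v) = 0
      rw [← Module.End.mul_apply, ← pow_succ', ← hj, Nat.find_spec hex2, LinearMap.zero_apply]
    have hφinj : Function.Injective (φ : U →ₗ[K] V) := by
      rw [← LinearMap.ker_eq_bot]
      have h0 := hU.2.2 ((LinearMap.ker (φ : U →ₗ[K] V)).map U.subtype) (Submodule.map_subtype_le _ _) (by
        rintro g _ ⟨w, hw, rfl⟩
        refine ⟨⟨ρ (g : G) w, hU.2.1 g _ w.2⟩, ?_, rfl⟩
        show (φ : U →ₗ[K] V) _ = 0
        rw [φ.2 g w _ rfl, LinearMap.mem_ker.1 hw, map_zero])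
      rcases h0 with h0 | h0
      · exact ((Submodule.map_injective_of_injective U.injective_subtype).eq_iff' (Submodule.map_bot _)).1 h0
      · refine absurd (Subtype.ext (LinearMap.ext fun w => ?_)) hv
        obtain ⟨w', hw', e⟩ := h0.ge w.2
        rw [← (Subtype.ext e : w' = w)]
        exact hw'
    have hblock := block_of_twist (k := n) hn (ρ x) (ρ1 x1) (fun u => ⟨ρ1 x1⁻¹ u, apply_inv_apply ρ1 x1 u⟩)
      (φ : U →ₗ[K] V) (ψ : U →ₗ[K] V) (fun u => by rw [← hF, hFφ]) (fun u => by rw [← hF, hFψ]; rfl)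
      hs hsU hφinj
    refine Nat.find_min hex (m := 2 ^ n - 2) ?_ hblock
    rw [hseq]
    have := Nat.pow_le_pow_right (show 0 < 2 by norm_num) hn
    omega
  intro a ha haZ
  refine hinj ?_
  rw [map_mul, map_mul, ← sub_eq_zero]
  refine LinearMap.ext fun v => ?_
  have hle : T.sup (fun w => U.map (ρ w)) ≤ LinearMap.ker (ρ x * ρ a - ρ a * ρ x) := by
    refine Finset.sup_le fun w hw => ?_
    rintro _ ⟨v, hv, rfl⟩
    obtain ⟨-, hwQ, hwZ⟩ := Finset.mem_filter.1 hw
    have hmemM : ∀ c ∈ Q, ⁅σ, c⁆ ∈ Z → (ρ c).comp U.subtype ∈ M := fun c hc hcZ g u u' e => by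
      show ρ c (u' : V) = ρ (g : G) (ρ c u)
      rw [e, ← Module.End.mul_apply, ← map_mul, ← Module.End.mul_apply, ← map_mul,
        (hE2comm g g.2 c hc hcZ).eq]
    have hkey : ∀ c ∈ Q, ⁅σ, c⁆ ∈ Z → ∀ u : U, ρ x (ρ c u) = ρ c (ρ x u) := fun c hc hcZ u => by
      have h := hF ⟨_, hmemM c hc hcZ⟩ u
      rw [hFid] at h
      exact h.symm
    rw [LinearMap.mem_ker, LinearMap.sub_apply, Module.End.mul_apply, Module.End.mul_apply, sub_eq_zero,
      hkey w hwQ hwZ ⟨v, hv⟩]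
    have h1 := hkey (a * w) (Q.mul_mem ha hwQ) (hQ2mul a w haZ hwZ) ⟨v, hv⟩
    rw [map_mul, Module.End.mul_apply, Module.End.mul_apply] at h1
    exact h1
  exact LinearMap.mem_ker.1 (hle (by rw [hspan hU]; exact Submodule.mem_top))

end Cfsg.Agent.ShultGross
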